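import Cfsg.Agent.OddHalf.D4.U3.Defs

/-!
# ODD, D4, row `K = U₃(q)`: fusion of the involutions of `T` with a rich centralizer

`normalise`: if `b` is conjugate to an element of `Z`, then by a `g` with `g b g⁻¹ ∈ Z ∩ Z(T)` and
`g C_T(b) g⁻¹ ≤ T`. `closed`: if `R ≤ C_P(b)` is rich, then `b ∈ Z`.
-/

set_option autoImplicit false

namespace Cfsg.Agent.OddHalf.D4.U3.Closed

open Subgroup Cfsg.Agent.StdU3.Field Cfsg.Agent.StdU3.PreDef Cfsg.Agent.OddHalf.D4.CommConj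
  Cfsg.Agent.OddHalf.D4.Basic Cfsg.Agent.OddHalf.D4.U3.Defs

universe u v

variable {G : Type u} [Group G] {F : Type v} [Field F] [Fintype F] [CharP F 2] {n : ℕ}

section chart

variable (D : Chart G F n)

theorem sq_mem_Z {x : G} (hx : x ∈ D.P) : x * x ∈ D.Z :=
  ⟨_, fixed_add (fixed_add (fixed_N D.hq _) (fixed_mul D.fix_kap (D.fix_c x hx)))
    (fixed_mul (D.fix_c x hx) (D.fix_Phi _ (D.f_mem x hx))), D.sq x hx⟩

theorem comm_mem_Z {x y : G} (hx : x ∈ D.P) (hy : y ∈ D.P) : x * y * x⁻¹ * y⁻¹ ∈ D.Z := by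
  refine ⟨Tr n (D.a x * bar n (D.a y)) + (D.c x * D.f y + D.c y * D.f x), ?_, ?_⟩
  · exact fixed_add (fixed_Tr D.hq _)
      (fixed_add (fixed_mul (D.fix_c x hx) (D.fix_Phi _ (D.f_mem y hy)))
        (fixed_mul (D.fix_c y hy) (D.fix_Phi _ (D.f_mem x hx))))
  · rw [D.comm x hx y hy]; group

theorem Z_le : D.Z ≤ D.P := by
  rintro x ⟨b, hb, rfl⟩
  exact D.z_mem b hb

theorem z_central {b : F} (hb : bar n b = b) {x : G} (hx : x ∈ D.P) : x * D.z b = D.z b * x := by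
  rw [D.comm x hx (D.z b) (D.z_mem b hb), D.a_z b hb, D.c_z b hb, D.f_z b hb, bar_zero, mul_zero,
    Tr_zero, mul_zero, zero_mul, add_zero, add_zero, D.z_zero, one_mul]

theorem Z_central {w : G} (hw : w ∈ D.Z) {x : G} (hx : x ∈ D.P) : x * w = w * x := by
  obtain ⟨b, hb, rfl⟩ := hw
  exact z_central D hb hx

theorem Z_sq {w : G} (hw : w ∈ D.Z) : w * w = 1 := by
  obtain ⟨b, hb, rfl⟩ := hw
  rw [← D.z_add b b hb hb, Cfsg.Agent.StdU3.Field.add_self, D.z_zero]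

theorem exists_sq {w : G} (hw : w ∈ D.Z) : ∃ s ∈ D.P, w = s * s := by
  obtain ⟨b, hb, rfl⟩ := hw
  obtain ⟨α, hα⟩ := exists_norm D.hq hb
  obtain ⟨s, hs, ha, hc, hf⟩ := D.surj α 0 0 (bar_zero n) D.Phi.zero_mem
  refine ⟨s, hs, ?_⟩
  rw [D.sq s hs, ha, hc, hf, hα, mul_zero, mul_zero, add_zero, add_zero]

/-- `Z` is the set of squares of `P` -/
theorem conj_Z {x : G} (hx : cj x D.P = D.P) {w : G} (hw : w ∈ D.Z) : x * w * x⁻¹ ∈ D.Z := by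
  obtain ⟨s, hs, rfl⟩ := exists_sq D hw
  have h1 : x * s * x⁻¹ ∈ D.P := by
    rw [← hx]; exact mem_cj_mul hs
  have h2 : x * (s * s) * x⁻¹ = x * s * x⁻¹ * (x * s * x⁻¹) := by group
  rw [h2]
  exact sq_mem_Z D h1

theorem Z_ne_bot : D.Z ≠ ⊥ := by
  intro h
  have h1 : D.z 1 ∈ D.Z := ⟨1, bar_one n, rfl⟩
  rw [h, mem_bot] at h1
  exact one_ne_zero (D.z_inj 1 (bar_one n) h1)

theorem comm_P {u x : G} (hu : u ∈ D.P) (hx : cj x D.P = D.P) :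
    u * x * u⁻¹ * x⁻¹ ∈ D.P ∧ D.a (u * x * u⁻¹ * x⁻¹) = D.a u + D.a (x * u⁻¹ * x⁻¹) ∧
    D.c (u * x * u⁻¹ * x⁻¹) = D.c u + D.c (x * u⁻¹ * x⁻¹) ∧
    D.f (u * x * u⁻¹ * x⁻¹) = D.f u + D.f (x * u⁻¹ * x⁻¹) := by
  have h1 : x * u⁻¹ * x⁻¹ ∈ D.P := by
    rw [← hx]; exact mem_cj_mul (D.P.inv_mem hu)
  have h2 : u * x * u⁻¹ * x⁻¹ = u * (x * u⁻¹ * x⁻¹) := by group
  rw [h2]
  exact ⟨D.P.mul_mem hu h1, D.a_mul u hu _ h1, D.c_mul u hu _ h1, D.f_mul u hu _ h1⟩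

end chart

variable (D : Dat G F n)

/-- an involution `[u, x]`, `x` of type F, is in `Z` -/
theorem comm_F {u x : G} (hu : u ∈ D.P) (hx : TypF D x)
    (h2 : u * x * u⁻¹ * x⁻¹ * (u * x * u⁻¹ * x⁻¹) = 1) : u * x * u⁻¹ * x⁻¹ ∈ D.Z := by
  obtain ⟨hxP, -, c₀, -, hact⟩ := hx
  obtain ⟨h3, h4, h5, h6⟩ := comm_P D.toChart hu hxP
  obtain ⟨k1, k2, k3⟩ := hact u⁻¹ (D.P.inv_mem hu)
  rw [k1, D.a_inv hu] at h4
  rw [k2, D.c_inv hu, Cfsg.Agent.StdU3.Field.add_self] at h5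
  rw [k3, D.f_inv hu, Cfsg.Agent.StdU3.Field.add_self] at h6
  have h7 := D.sq _ h3
  rw [h2, h5, h6, mul_zero, mul_zero, add_zero, add_zero] at h7
  have h8 := D.z_inj _ (fixed_N D.hq _) h7.symm
  exact D.ker _ h3 (N_eq_zero h8) h5 h6

/-- an involution `[u, x]`, `x` of type G, is in `Z` -/
theorem comm_G {u x : G} (hu : u ∈ D.P) (hx : TypG D x)
    (h2 : u * x * u⁻¹ * x⁻¹ * (u * x * u⁻¹ * x⁻¹) = 1) : u * x * u⁻¹ * x⁻¹ ∈ D.Z := by
  obtain ⟨hxP, -, hk, -, θ, hθ, hbθ, hact⟩ := hx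
  obtain ⟨h3, h4, h5, h6⟩ := comm_P D.toChart hu hxP
  obtain ⟨k1, k2, k3⟩ := hact u⁻¹ (D.P.inv_mem hu)
  rw [k1, D.a_inv hu, Cfsg.Agent.StdU3.Field.add_self] at h4
  rw [k2, D.f_inv hu] at h5
  rw [k3, D.c_inv hu] at h6
  have h7 := D.sq _ h3
  rw [h2, h4, hk, N_zero, zero_mul, zero_add, zero_add] at h7
  have h8 := D.z_inj _ (fixed_mul (D.fix_c _ h3) (D.fix_Phi _ (D.f_mem _ h3))) h7.symm
  have h9 : D.c u + θ * D.f u = θ * (D.f u + θ⁻¹ * D.c u) := by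
    field_simp
    ring
  have h10 : D.f u + θ⁻¹ * D.c u = 0 := by
    rw [h5, h6, h9] at h8
    have h11 : θ * ((D.f u + θ⁻¹ * D.c u) * (D.f u + θ⁻¹ * D.c u)) = 0 := by
      rw [← h8]; ring
    rcases mul_eq_zero.mp h11 with h | h
    · exact absurd h hθ
    · exact mul_self_eq_zero.mp h
  refine D.ker _ h3 h4 ?_ ?_
  · rw [h5, h9, h10, mul_zero]
  · rw [h6, h10]

/-- a subgroup of small index from a function -/
theorem relIndex_le_of_fun [Finite G] {R R₀ : Subgroup G} {k : ℕ} (f : G → Fin k)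
    (h : ∀ x ∈ R, ∀ y ∈ R, f x = f y → x⁻¹ * y ∈ R₀) : R₀.relIndex R ≤ k := by
  have h1 : R₀.relIndex R = Nat.card (↥R ⧸ R₀.subgroupOf R) := rfl
  rw [h1]
  have h2 : Function.Injective (fun q : ↥R ⧸ R₀.subgroupOf R => f (Quotient.out q : ↥R)) := by
    intro q q' hqq
    have h3 := h _ (Quotient.out q : ↥R).2 _ (Quotient.out q' : ↥R).2 hqq
    rw [← QuotientGroup.out_eq' q, ← QuotientGroup.out_eq' q']
    rw [QuotientGroup.eq, mem_subgroupOf]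
    exact h3
  have h3 := Nat.card_le_card_of_injective _ h2
  rwa [Nat.card_fin] at h3

theorem norm_P {T : Subgroup G} (hT : Syl D T) {t : G} (ht : t ∈ T) : cj t D.P = D.P :=
  cj_eq_of_mem_normalizer (hT.syl.le ht)

/-- The conjugation of `b` into `Z` can be taken with `g b g⁻¹` central in `T` and `g C_T(b) g⁻¹ ≤ T`. -/
theorem normalise [Finite G] {T : Subgroup G} (hT : Syl D T) (htop : IsSyl T ⊤) {b g : G}
    (hg : g * b * g⁻¹ ∈ D.Z) (hb1 : b ≠ 1) :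
    ∃ g' : G, g' * b * g'⁻¹ ∈ D.Z ∧ (∀ t ∈ T, t * (g' * b * g'⁻¹) = g' * b * g'⁻¹ * t) ∧
      ∀ x ∈ T, x * b = b * x → g' * x * g'⁻¹ ∈ T := by
  obtain ⟨z₀, hz₀, hz₀2, hz₀c⟩ := exists_central_invol hT.syl.two ((Z_le D.toChart).trans hT.le)
    (Z_ne_bot D.toChart) (fun t ht w hw => conj_Z D.toChart (norm_P D hT ht) hw)
  -- move `g b g⁻¹` to `z₀` by the torus
  obtain ⟨l, hl⟩ : ∃ l : Fˣ, D.h l * (g * b * g⁻¹) * (D.h l)⁻¹ = z₀ := by
    obtain ⟨β, hβ, hβe⟩ := hg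
    obtain ⟨γ, hγ, hγe⟩ := hz₀
    have hβ0 : β ≠ 0 := by
      rintro rfl
      rw [D.z_zero] at hβe
      apply hb1
      have : b = g⁻¹ * (g * b * g⁻¹) * g := by group
      rw [this, hβe]; group
    have hγ0 : γ ≠ 0 := by
      rintro rfl
      rw [D.z_zero] at hγe
      rw [hγe, orderOf_one] at hz₀2
      exact absurd hz₀2 (by norm_num)
    obtain ⟨α, hα⟩ := exists_norm D.hq (fixed_mul hγ (fixed_inv hβ))
    have hα0 : α ≠ 0 := by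
      rintro rfl
      rw [N_zero] at hα
      exact mul_ne_zero hγ0 (inv_ne_zero hβ0) hα.symm
    refine ⟨Units.mk0 α hα0, ?_⟩
    rw [hβe, D.h_z _ β hβ, hγe, Units.val_mk0, hα, mul_assoc, inv_mul_cancel₀ hβ0, mul_one]
  have hg1 : D.h l * g * b * (D.h l * g)⁻¹ = z₀ := by
    rw [← hl]; group
  -- Sylow in the centralizer of `z₀`
  have hTC : T ≤ centralizer {z₀} := by
    intro t ht
    rw [mem_centralizer_singleton_iff]
    exact hz₀c t ht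
  have hS : IsSyl T (centralizer {z₀}) := htop.mono hTC le_top
  have hQ : IsPGroup 2 ↥(cj (D.h l * g) (T ⊓ centralizer {b})) :=
    (hT.syl.two.to_le inf_le_left).map _
  obtain ⟨m, hm, hmq⟩ := hS.conj_into hQ (by
    rintro _ ⟨x, hx, rfl⟩
    have h1 : x * b = b * x := mem_centralizer_singleton_iff.mp hx.2
    rw [mem_centralizer_singleton_iff, ← hg1]
    change D.h l * g * x * (D.h l * g)⁻¹ * _ = _ * (D.h l * g * x * (D.h l * g)⁻¹)
    have h2 : D.h l * g * x * (D.h l * g)⁻¹ * (D.h l * g * b * (D.h l * g)⁻¹)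
      = D.h l * g * (x * b) * (D.h l * g)⁻¹ := by group
    have h3 : D.h l * g * b * (D.h l * g)⁻¹ * (D.h l * g * x * (D.h l * g)⁻¹)
      = D.h l * g * (b * x) * (D.h l * g)⁻¹ := by group
    rw [h2, h3, h1])
  have hm' : m * z₀ = z₀ * m := mem_centralizer_singleton_iff.mp hm
  have hg2 : m * (D.h l * g) * b * (m * (D.h l * g))⁻¹ = z₀ := by
    have h1 : m * (D.h l * g) * b * (m * (D.h l * g))⁻¹ = m * (D.h l * g * b * (D.h l * g)⁻¹) * m⁻¹ := by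
      group
    rw [h1, hg1, hm']; group
  refine ⟨m * (D.h l * g), ?_, ?_, ?_⟩
  · rw [hg2]; exact hz₀
  · intro t ht
    rw [hg2]; exact hz₀c t ht
  · intro x hx hxb
    have h1 := hmq (D.h l * g * x * (D.h l * g)⁻¹)
      (mem_cj_mul (mem_inf.mpr ⟨hx, mem_centralizer_singleton_iff.mpr hxb⟩))
    have h2 : m * (D.h l * g * x * (D.h l * g)⁻¹) * m⁻¹ = m * (D.h l * g) * x * (m * (D.h l * g))⁻¹ := by
      group
    rwa [h2] at h1

/-- the heart of `closed` -/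
theorem conj_Z_le [Finite G] {T : Subgroup G} (hT : Syl D T) {R : Subgroup G} {g : G}
    (hR : R ≤ D.P) (hRT : ∀ r ∈ R, g * r * g⁻¹ ∈ T) (rich : Rich D R) : cj g D.Z ≤ D.Z := by
  classical
  -- `g Z g⁻¹ ≤ P`
  have hZ1 : D.Z ≤ ⁅R, R⁆ := rich.1 R le_rfl (by rw [relIndex_self]; norm_num)
  have hZP : cj g D.Z ≤ D.P := by
    refine (map_mono hZ1).trans ?_
    rw [map_commutator, commutator_le]
    rintro _ ⟨x, hx, rfl⟩ _ ⟨y, hy, rfl⟩
    rw [commutatorElement_def]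
    exact hT.comm _ (hRT x hx) _ (hRT y hy)
  have hsq : ∀ r ∈ R, g * r * g⁻¹ * (g * r * g⁻¹) ∈ D.P := by
    intro r hr
    have h1 : g * r * g⁻¹ * (g * r * g⁻¹) = g * (r * r) * g⁻¹ := by group
    rw [h1]
    exact hZP (mem_cj_mul (sq_mem_Z D.toChart (hR hr)))
  set R₀ : Subgroup G := R ⊓ D.P.comap (MulAut.conj g).toMonoidHom with hR₀
  have hmem : ∀ r, r ∈ R₀ ↔ r ∈ R ∧ g * r * g⁻¹ ∈ D.P := fun r => Iff.rfl
  have hR₀R : R₀ ≤ R := inf_le_left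
  -- products in `P` and cosets
  have hcos : ∀ x ∈ R, ∀ y ∈ R, g * x * g⁻¹ * (g * y * g⁻¹) ∈ D.P → x⁻¹ * y ∈ R₀ := by
    intro x hx y hy h
    refine (hmem _).mpr ⟨R.mul_mem (R.inv_mem hx) hy, ?_⟩
    have h1 : g * (x⁻¹ * y) * g⁻¹ = (g * x * g⁻¹ * (g * x * g⁻¹))⁻¹ * (g * x * g⁻¹ * (g * y * g⁻¹)) := by
      group
    rw [h1]
    exact D.P.mul_mem (D.P.inv_mem (hsq x hx)) h
  have htyp : ∀ r ∈ R, g * r * g⁻¹ ∈ D.P ∨ TypF D (g * r * g⁻¹) ∨ TypG D (g * r * g⁻¹) ∨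
      TypU D (g * r * g⁻¹) := fun r hr => hT.typ _ (hRT r hr) (hsq r hr)
  -- commutators in `g Z g⁻¹` are involutions
  have hinv : ∀ x ∈ R, ∀ y ∈ R, ∀ w : G, w = g * x * g⁻¹ * (g * y * g⁻¹) * (g * x * g⁻¹)⁻¹ * (g * y * g⁻¹)⁻¹ →
      w * w = 1 := by
    intro x hx y hy w hw
    have h1 : w = g * (x * y * x⁻¹ * y⁻¹) * g⁻¹ := by rw [hw]; group
    have h2 := Z_sq D.toChart (comm_mem_Z D.toChart (hR hx) (hR hy))
    rw [h1]
    calc g * (x * y * x⁻¹ * y⁻¹) * g⁻¹ * (g * (x * y * x⁻¹ * y⁻¹) * g⁻¹)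
        = g * ((x * y * x⁻¹ * y⁻¹) * (x * y * x⁻¹ * y⁻¹)) * g⁻¹ := by group
      _ = 1 := by rw [h2]; group
  by_cases hi : ∀ x ∈ R, ∀ y ∈ R, x ∉ R₀ → y ∉ R₀ → x⁻¹ * y ∈ R₀
  · -- index at most two
    have h1 : R₀.relIndex R ≤ 2 := by
      refine relIndex_le_of_fun (fun r => if r ∈ R₀ then (0 : Fin 2) else 1) ?_
      intro x hx y hy hxy
      by_cases h2 : x ∈ R₀ <;> by_cases h3 : y ∈ R₀
      · exact R₀.mul_mem (R₀.inv_mem h2) h3
      · simp [h2, h3] at hxy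
      · simp [h2, h3] at hxy
      · exact hi x hx y hy h2 h3
    refine (map_mono (rich.1 R₀ hR₀R h1)).trans ?_
    rw [map_commutator, commutator_le]
    rintro _ ⟨x, hx, rfl⟩ _ ⟨y, hy, rfl⟩
    rw [commutatorElement_def]
    exact comm_mem_Z D.toChart ((hmem x).mp hx).2 ((hmem y).mp hy).2
  · push Not at hi
    obtain ⟨x₁, hx₁, x₂, hx₂, hn₁, hn₂, hn₁₂⟩ := hi
    have h1 : R₀.relIndex R ≤ 4 := by
      refine relIndex_le_of_fun (fun r => if g * r * g⁻¹ ∈ D.P then (0 : Fin 4) else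
        if TypF D (g * r * g⁻¹) then 1 else if TypG D (g * r * g⁻¹) then 2 else 3) ?_
      intro x hx y hy hxy
      split_ifs at hxy with c1 c2 c3 c4 c5 c6 c7 c8 c9 c10 c11 c12
      all_goals first
        | exact absurd hxy (by decide)
        | skip
      · exact R₀.mul_mem (R₀.inv_mem ((hmem x).mpr ⟨hx, c1⟩)) ((hmem y).mpr ⟨hy, c2⟩)
      all_goals
        apply hcos x hx y hy
      · exact hT.FF _ (hRT x hx) _ (hRT y hy) (by assumption) (by assumption)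
      · exact hT.GG _ (hRT x hx) _ (hRT y hy) (by assumption) (by assumption)
      · have hx' := htyp x hx
        have hy' := htyp y hy
        refine hT.UU _ (hRT x hx) _ (hRT y hy) ?_ ?_
        · tauto
        · tauto
    -- `[u, x] ∈ Z` for the types P, F, G
    have hcm : ∀ r ∈ R₀, ∀ s ∈ R, ¬ TypU D (g * s * g⁻¹) ∨ s ∈ R₀ →
        g * r * g⁻¹ * (g * s * g⁻¹) * (g * r * g⁻¹)⁻¹ * (g * s * g⁻¹)⁻¹ ∈ D.Z := by
      intro r hr s hs hU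
      have hrP := ((hmem r).mp hr).2
      rcases htyp s hs with h | h | h | h
      · exact comm_mem_Z D.toChart hrP h
      · exact comm_F D hrP h (hinv r (hR₀R hr) s hs _ rfl)
      · exact comm_G D hrP h (hinv r (hR₀R hr) s hs _ rfl)
      · rcases hU with hU | hU
        · exact absurd h hU
        · exact comm_mem_Z D.toChart hrP ((hmem s).mp hU).2
    -- all of `R`
    have hall : ∀ r ∈ R₀, ∀ s ∈ R,
        g * r * g⁻¹ * (g * s * g⁻¹) * (g * r * g⁻¹)⁻¹ * (g * s * g⁻¹)⁻¹ ∈ D.Z := by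
      intro r hr s hs
      by_cases hU : TypU D (g * s * g⁻¹)
      swap
      · exact hcm r hr s hs (Or.inl hU)
      by_cases hsR : s ∈ R₀
      · exact hcm r hr s hs (Or.inr hsR)
      -- a `y` not in `R₀ ∪ s R₀`
      obtain ⟨y, hy, hyn, hsy⟩ : ∃ y ∈ R, y ∉ R₀ ∧ s⁻¹ * y ∉ R₀ := by
        by_cases h2 : s⁻¹ * x₁ ∈ R₀
        · refine ⟨x₂, hx₂, hn₂, ?_⟩
          intro h3
          apply hn₁₂
          have h4 : x₁⁻¹ * x₂ = (s⁻¹ * x₁)⁻¹ * (s⁻¹ * x₂) := by group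
          rw [h4]
          exact R₀.mul_mem (R₀.inv_mem h2) h3
        · exact ⟨x₁, hx₁, hn₁, h2⟩
      have hyU : ¬ TypU D (g * y * g⁻¹) := by
        intro h
        exact hsy (hcos s hs y hy (hT.UU _ (hRT s hs) _ (hRT y hy) hU h))
      have hsyU : ¬ TypU D (g * (s * y) * g⁻¹) := by
        intro h
        have h2 := hcos s hs (s * y) (R.mul_mem hs hy) (hT.UU _ (hRT s hs) _ (hRT _ (R.mul_mem hs hy)) hU h)
        rw [inv_mul_cancel_left] at h2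
        exact hyn h2
      have k1 := hcm r hr (s * y) (R.mul_mem hs hy) (Or.inl hsyU)
      have k2 := hcm r hr y hy (Or.inl hyU)
      -- `[r, s] = [r, s y] (s y) ([r, y⁻¹]) (s y)⁻¹`
      have hyP : cj (g * y * g⁻¹) D.P = D.P := norm_P D hT (hRT y hy)
      have hsP : cj (g * s * g⁻¹) D.P = D.P := norm_P D hT (hRT s hs)
      have k3 : g * s * g⁻¹ *
          (g * r * g⁻¹ * (g * y * g⁻¹) * (g * r * g⁻¹)⁻¹ * (g * y * g⁻¹)⁻¹)⁻¹ * (g * s * g⁻¹)⁻¹ ∈ D.Z :=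
        conj_Z D.toChart hsP (D.Z.inv_mem k2)
      have h5 : g * r * g⁻¹ * (g * s * g⁻¹) * (g * r * g⁻¹)⁻¹ * (g * s * g⁻¹)⁻¹
          = (g * r * g⁻¹ * (g * (s * y) * g⁻¹) * (g * r * g⁻¹)⁻¹ * (g * (s * y) * g⁻¹)⁻¹) *
            (g * s * g⁻¹ *
          (g * r * g⁻¹ * (g * y * g⁻¹) * (g * r * g⁻¹)⁻¹ * (g * y * g⁻¹)⁻¹)⁻¹ * (g * s * g⁻¹)⁻¹) := by
        group
      rw [h5]
      exact D.Z.mul_mem k1 k3
    refine (map_mono (rich.2 R₀ hR₀R h1)).trans ?_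
    rw [map_commutator, commutator_le]
    rintro _ ⟨x, hx, rfl⟩ _ ⟨y, hy, rfl⟩
    rw [commutatorElement_def]
    exact hall x hx y hy

theorem closed [Finite G] {T : Subgroup G} (hT : Syl D T) (htop : IsSyl T ⊤)
    {R : Subgroup G} {b g : G} (_hb : b ∈ T) (hR : R ≤ D.P) (hRb : ∀ r ∈ R, r * b = b * r)
    (rich : Rich D R) (hg : g * b * g⁻¹ ∈ D.Z) (hb1 : b ≠ 1) : b ∈ D.Z := by
  obtain ⟨g', hZ, -, hin⟩ := normalise D hT htop hg hb1
  have h1 := conj_Z_le D hT hR (fun r hr => hin r (hT.le (hR hr)) (hRb r hr)) rich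
  have h2 : cj g' D.Z = D.Z := eq_of_le_of_card_ge h1 (card_cj g' D.Z).ge
  rw [← h2] at hZ
  rw [mem_cj] at hZ
  have h3 : g'⁻¹ * (g' * b * g'⁻¹) * g' = b := by group
  rwa [h3] at hZ

end Cfsg.Agent.OddHalf.D4.U3.Closed
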