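import Cfsg.Agent.OddHalf.D4.U3.StepA

/-!
# ODD, D4, row `K = U₃(q)`, piece N: `K ∩ C(L) = 1`

Then `S ≤ L` and `U` is a graph of a map `Q → Z`.
-/

set_option autoImplicit false

namespace Cfsg.Agent.OddHalf.D4.U3.StepB

open Subgroup Cfsg.Agent.OddHalf.D4 Cfsg.Agent.OddHalf.D4.Basic Cfsg.Agent.OddHalf.D4.U3.Fr
  Cfsg.Agent.OddHalf.D4.U3.StepA
open Cfsg.Agent.OddHalf.D4.CommConj (Tight cj mem_cj cj_mul card_cj cj_eq_of_mem_normalizer
  mem_normalizer_of_cj_eq mem_cj_mul)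

variable {G : Type*} [Group G] {K L Q U S Z B H S' Z' B' H' : Subgroup G}

/-- product of commuting 2-elements -/
theorem el_mul {x y : G} (hx : ∃ k : ℕ, x ^ 2 ^ k = 1) (hy : ∃ k : ℕ, y ^ 2 ^ k = 1) (h : x * y = y * x) :
    ∃ k : ℕ, (x * y) ^ 2 ^ k = 1 := by
  obtain ⟨k, hk⟩ := hx
  obtain ⟨l, hl⟩ := hy
  refine ⟨k + l, ?_⟩
  have hc : Commute x y := h
  rw [hc.mul_pow, pow_add, pow_mul, hk, one_pow, mul_comm, pow_mul, hl, one_pow, one_mul]

theorem el_inv {x : G} (hx : ∃ k : ℕ, x ^ 2 ^ k = 1) : ∃ k : ℕ, x⁻¹ ^ 2 ^ k = 1 := by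
  obtain ⟨k, hk⟩ := hx
  exact ⟨k, by rw [inv_pow, hk, inv_one]⟩

/-- a 2-element of `M` centralising the Sylow 2-subgroup `T` of `M` lies in `T` -/
theorem mem_syl_of_comm {T M : Subgroup G} (hT : IsSyl T M) {x : G} (hx : x ∈ M) (h2 : ∃ k : ℕ, x ^ 2 ^ k = 1)
    (hc : ∀ t ∈ T, x * t = t * x) : x ∈ T := by
  have h1 : IsPGroup 2 ↥(T ⊔ zpowers x : Subgroup G) := by
    apply IsPGroup.to_sup_of_normal_left' hT.two (isPGroup_zpowers h2)
    rw [zpowers_le, mem_normalizer_iff]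
    intro t
    constructor
    · intro ht
      rw [hc t ht, mul_inv_cancel_right]
      exact ht
    · intro ht
      have h3 := hc _ ht
      have h4 : t = x * t * x⁻¹ := by
        have h5 : x * (x * t * x⁻¹) = x * t := by
          rw [h3]; group
        exact (mul_left_cancel h5).symm
      rw [h4]; exact ht
  exact hT.max _ h1 le_sup_left (sup_le hT.le (by rwa [zpowers_le])) ((le_sup_right : zpowers x ≤ _) (mem_zpowers x))

/-- every element of `S` is in the derived group of `S ⊔ H` -/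
theorem mem_comm (f : Fr K S Z B H) {s : G} (hs : s ∈ S) : s ∈ ⁅S ⊔ H, S ⊔ H⁆ := by
  obtain ⟨s1, h1, h, hh, s2, h2, s3, h3, rfl⟩ := f.gen s hs
  have hS : S ≤ S ⊔ H := le_sup_left
  have hH : H ≤ S ⊔ H := le_sup_right
  exact mul_mem (commutator_mem_commutator (hS h1) (hH hh)) (commutator_mem_commutator (hS h2) (hS h3))

/-- `S ≤ C(L) L` if `S, H ≤ N(L)` -/
theorem inner_S (f : Fr K S Z B H) (fL : Fr L S' Z' B' H') (hS : S ≤ normalizer (L : Set G))
    (hH : H ≤ normalizer (L : Set G)) {s : G} (hs : s ∈ S) :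
    ∃ c ∈ centralizer (L : Set G), ∃ l ∈ L, s = c * l :=
  fL.innerComm _ (sup_le hS hH) s (mem_comm f hs) (el_of_mem f.syl.two hs)

/-- **if `S ≤ A L` with `A ≤ C(L)` commutative and centralised by `H` then `S ≤ L`** -/
theorem le_of_gen (f : Fr K S Z B H) (hH : H ≤ normalizer (L : Set G)) {A : Subgroup G}
    (hA : A ≤ centralizer (L : Set G)) (hcomm : ∀ a ∈ A, ∀ b ∈ A, a * b = b * a)
    (hHA : ∀ h ∈ H, ∀ a ∈ A, h * a = a * h) (hs : ∀ s ∈ S, ∃ a ∈ A, ∃ l ∈ L, s = a * l) : S ≤ L := by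
  intro s hsS
  obtain ⟨s1, h1, h, hh, s2, h2, s3, h3, rfl⟩ := f.gen s hsS
  have hc : ∀ a ∈ A, ∀ l ∈ L, a * l = l * a := fun a ha l hl => (commute_cent hl (hA ha)).symm
  apply L.mul_mem
  · obtain ⟨a, ha, l, hl, rfl⟩ := hs s1 h1
    have h4 : h * l⁻¹ * h⁻¹ ∈ L := (mem_normalizer_iff.mp (hH hh) _).mp (L.inv_mem hl)
    have h5 : a⁻¹ * h⁻¹ = h⁻¹ * a⁻¹ := by
      rw [← mul_inv_rev, ← mul_inv_rev, hHA h hh a ha]
    have h6 : a * l * h * (a * l)⁻¹ * h⁻¹ = l * (h * l⁻¹ * h⁻¹) := by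
      calc a * l * h * (a * l)⁻¹ * h⁻¹ = a * l * h * l⁻¹ * (a⁻¹ * h⁻¹) := by group
        _ = a * (l * (h * l⁻¹ * h⁻¹)) * a⁻¹ := by rw [h5]; group
        _ = l * (h * l⁻¹ * h⁻¹) * a * a⁻¹ := by rw [hc a ha _ (L.mul_mem hl h4)]
        _ = _ := by group
    rw [h6]
    exact L.mul_mem hl h4
  · obtain ⟨a, ha, l, hl, rfl⟩ := hs s2 h2
    obtain ⟨b, hb, m, hm, rfl⟩ := hs s3 h3
    have e1 := hc a ha m hm
    have e2 := hc b hb l hl
    have e3 := hcomm a ha b hb
    have e4 := hc a ha l hl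
    have e5 := hc b hb m hm
    have h6 : a * l * (b * m) * (a * l)⁻¹ * (b * m)⁻¹ = l * m * l⁻¹ * m⁻¹ := by
      have ea : Commute a l := e4
      have eb : Commute a b := e3
      have ec : Commute a m := e1
      have ed : Commute b l := e2
      have ee : Commute b m := e5
      calc a * l * (b * m) * (a * l)⁻¹ * (b * m)⁻¹
          = a * (l * b) * m * l⁻¹ * a⁻¹ * m⁻¹ * b⁻¹ := by group
        _ = (a * b) * (l * m * l⁻¹) * (a⁻¹ * m⁻¹) * b⁻¹ := by rw [ed.eq.symm]; group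
        _ = (a * b) * (l * m * l⁻¹ * m⁻¹) * (a⁻¹ * b⁻¹) := by rw [(ec.inv_inv).eq]; group
        _ = (l * m * l⁻¹ * m⁻¹) * (a * b) * (a⁻¹ * b⁻¹) := by
            have h7 : Commute (a * b) (l * m * l⁻¹ * m⁻¹) :=
              (Commute.mul_right (Commute.mul_right (Commute.mul_right (ea.mul_left ed) (ec.mul_left ee))
                ((ea.mul_left ed).inv_right)) ((ec.mul_left ee).inv_right))
            rw [h7.eq]
        _ = (l * m * l⁻¹ * m⁻¹) * (a * (b * a⁻¹) * b⁻¹) := by group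
        _ = (l * m * l⁻¹ * m⁻¹) * (a * (a⁻¹ * b) * b⁻¹) := by rw [(eb.symm.inv_right).eq]
        _ = _ := by group
    rw [h6]
    exact L.mul_mem (L.mul_mem (L.mul_mem hl hm) (L.inv_mem hl)) (L.inv_mem hm)

/-- **piece N** -/
theorem stepB [Finite G] (f : Fr K S Z B H) (fL : Fr L S' Z' B' H') (hF : FullPair K L Q U)
    (hS : S ≤ normalizer (L : Set G)) (hH : H ≤ normalizer (L : Set G))
    (hN : K ⊓ centralizer (L : Set G) = ⊥) :
    S ≤ L ∧ (∀ u ∈ U, ∃ r ∈ Q, ∃ z ∈ Z, u = r * z) ∧ (∀ r ∈ Q, ∃ z ∈ Z, r * z ∈ U) ∧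
      (∀ r ∈ Q, r * r = 1) := by
  have he := even_of_four f
  have hUN := hF.leU f.tight he
  have hSK : S ≤ K := f.syl.le
  have hHK : H ≤ K := f.H_le.trans f.B_le
  have hZS := f.Z_le
  -- `K ∩ N(L)` centralises `U`
  have hcent : ∀ x ∈ K, x ∈ normalizer (L : Set G) → ∀ u ∈ U, x * u = u * x := by
    intro x hx hxL u hu
    have h1 : x * u * x⁻¹ * u⁻¹ ∈ K ⊓ centralizer (L : Set G) :=
      commutator_mem hx hxL (hF.sylU.le hu) (hUN hu)
    rw [hN, mem_bot] at h1
    have h4 : x * u = (x * u * x⁻¹ * u⁻¹) * (u * x) := by group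
    rw [h4, h1, one_mul]
  -- the decomposition
  have hdec : ∀ u ∈ U, ∃ r ∈ Q, ∃ z ∈ Z, u = r * z := by
    intro u hu
    obtain ⟨c, hc, s, hs, husc⟩ := f.triv u (hUN hu) (by
      intro s hs
      refine ⟨1, one_mem _, ?_⟩
      rw [mul_one, ← hcent s (hSK hs) (hS hs) u hu]; group)
    -- `s` is central in `S`
    have hsZ : s ∈ Z := by
      apply f.centB s (f.S_le hs)
      intro t ht
      have h1 := hcent t (hSK ht) (hS ht) u hu
      have h2 := commute_cent (hSK ht) hc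
      have h3 : c * (t * s) = c * (s * t) := by
        calc c * (t * s) = (c * t) * s := by group
          _ = t * (c * s) := by rw [← h2]; group
          _ = (c * s) * t := by rw [← husc, h1]
          _ = c * (s * t) := by group
      exact (mul_left_cancel h3).symm
    refine ⟨c, ?_, s, hsZ, husc⟩
    -- `c = u s⁻¹` is a 2-element
    have hce : c = u * s⁻¹ := by rw [husc]; group
    have hus : u * s⁻¹ = s⁻¹ * u := by
      have h1 : Commute s u := hcent s (hSK hs) (hS hs) u hu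
      exact (h1.inv_left).symm.eq
    apply mem_syl_of_comm hF.sylQ hc
    · rw [hce]
      exact el_mul (el_of_mem hF.sylU.two hu) (el_inv (el_of_mem f.syl.two hs)) hus
    · intro q hq
      rw [hce]
      have h1 : Commute u q := (hF.comm q hq u hu).symm
      have h2 : Commute s q := commute_cent (hSK hs) (hF.sylQ.le hq)
      exact (h1.mul_left h2.inv_left).eq
  -- involutions
  have hUC : ∀ u ∈ U, u ∈ centralizer (K : Set G) → u = 1 := by
    intro u hu huK
    by_contra h1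
    obtain ⟨m, hm⟩ : ∃ m : ℕ, orderOf (u ^ m) = 2 := by
      obtain ⟨v, hv, hv2⟩ := exists_invol_of_two (H := zpowers u)
        (isPGroup_zpowers (el_of_mem hF.sylU.two hu)) (by rwa [Ne, zpowers_eq_bot])
      obtain ⟨m, rfl⟩ := mem_zpowers_iff.mp hv
      obtain ⟨m', hm'⟩ : ∃ m' : ℕ, u ^ m' = u ^ m := by
        have h2 : u ^ m ∈ Submonoid.powers u := by
          rw [← mem_powers_iff_mem_zpowers.symm]
          exact ⟨m, rfl⟩
        obtain ⟨m', hm'⟩ := h2
        exact ⟨m', hm'⟩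
      exact ⟨m', by rw [hm']; exact hv2⟩
    exact hF.noInv f.tight (pow_mem huK m) (pow_mem (hF.sylU.le hu) m) hm
  have hUZ : ∀ u ∈ U, u ∈ K → u = 1 := by
    intro u hu huK
    have h1 : u ∈ K ⊓ centralizer (L : Set G) := ⟨huK, hF.sylU.le hu⟩
    rwa [hN, mem_bot] at h1
  -- the projection to `Q`
  choose r hr z hz hrz using hdec
  let φ : U → Q := fun u => ⟨r u u.2, hr u u.2⟩
  have hinj : Function.Injective φ := by
    intro u v huv
    have h1 : r u u.2 = r v v.2 := congrArg Subtype.val huv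
    have h2 : (u : G)⁻¹ * v = (z u u.2)⁻¹ * z v v.2 := by
      conv_lhs => rw [hrz u u.2, hrz v v.2, h1]
      group
    have h3 : (u : G)⁻¹ * v = 1 := by
      apply hUZ _ (U.mul_mem (U.inv_mem u.2) v.2)
      rw [h2]
      exact hSK (S.mul_mem (S.inv_mem (hZS (hz _ _))) (hZS (hz _ _)))
    exact Subtype.ext (inv_mul_eq_one.mp h3)
  have hcard : Nat.card U = Nat.card Q := by
    obtain ⟨g, -, hg⟩ := hF.conj
    have hU := hF.sylU
    rw [hg, centralizer_cj] at hU
    apply le_antisymm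
    · obtain ⟨m, -, hm⟩ := hF.sylQ.conj_into (Q := cj g⁻¹ U) (hU.two.map _) (by
        intro x hx
        rw [mem_cj, inv_inv] at hx
        have h1 := mem_cj.mp (hU.le hx)
        have h2 : g⁻¹ * (g * x * g⁻¹) * g = x := by group
        rwa [h2] at h1)
      rw [← card_cj g⁻¹ U, ← card_cj m]
      apply Subgroup.card_le_of_le
      rintro _ ⟨x, hx, rfl⟩
      exact hm x hx
    · obtain ⟨m, -, hm⟩ := hU.conj_into (Q := cj g Q) (hF.sylQ.two.map _) (map_mono hF.sylQ.le)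
      rw [← card_cj g Q, ← card_cj m]
      apply Subgroup.card_le_of_le
      rintro _ ⟨x, hx, rfl⟩
      exact hm x hx
  have hsurj : Function.Surjective φ := ((Nat.bijective_iff_injective_and_card φ).mpr ⟨hinj, hcard⟩).2
  have hQ : ∀ q ∈ Q, ∃ z ∈ Z, q * z ∈ U := by
    intro q hq
    obtain ⟨u, hu⟩ := hsurj ⟨q, hq⟩
    have h1 : r u u.2 = q := congrArg Subtype.val hu
    exact ⟨z u u.2, hz _ _, by rw [← h1, ← hrz]; exact u.2⟩
  -- `Q` is elementary
  have hQ2 : ∀ q ∈ Q, q * q = 1 := by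
    intro q hq
    obtain ⟨z, hz, hqz⟩ := hQ q hq
    have h1 : Commute z q := commute_cent (hSK (hZS hz)) (hF.sylQ.le hq)
    have h2 : q * z * (q * z) = q * q := by
      calc q * z * (q * z) = q * (z * q) * z := by group
        _ = q * (q * z) * z := by rw [h1.eq]
        _ = q * q * (z * z) := by group
        _ = q * q := by rw [f.sq z hz, mul_one]
    have h3 := hUC _ (U.mul_mem hqz hqz) (by
      rw [h2]
      exact mul_mem (hF.sylQ.le hq) (hF.sylQ.le hq))
    rwa [h2] at h3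
  -- `U` is commutative
  have hUcomm : ∀ u ∈ U, ∀ v ∈ U, u * v = v * u := by
    intro u hu v hv
    have hsq : ∀ w ∈ U, w * w = 1 := by
      intro w hw
      have h1 : Commute (z w hw) (r w hw) := commute_cent (hSK (hZS (hz w hw))) (hF.sylQ.le (hr w hw))
      rw [hrz w hw]
      calc r w hw * z w hw * (r w hw * z w hw) = r w hw * (z w hw * r w hw) * z w hw := by group
        _ = r w hw * (r w hw * z w hw) * z w hw := by rw [h1.eq]
        _ = (r w hw * r w hw) * (z w hw * z w hw) := by group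
        _ = 1 := by rw [f.sq _ (hz w hw), hQ2 _ (hr w hw), one_mul]
    have h1 := hsq _ (U.mul_mem hu hv)
    have h2 : u⁻¹ = u := inv_eq_of_mul_eq_one_right (hsq u hu)
    have h3 : v⁻¹ = v := inv_eq_of_mul_eq_one_right (hsq v hv)
    calc u * v = (u * v)⁻¹ := (inv_eq_of_mul_eq_one_right h1).symm
      _ = v * u := by rw [mul_inv_rev, h2, h3]
  refine ⟨?_, fun u hu => ⟨r u hu, hr u hu, z u hu, hz u hu, hrz u hu⟩, hQ, hQ2⟩
  -- `S ≤ L`
  apply le_of_gen f hH hF.sylU.le hUcomm (fun h hh a ha => hcent h (hHK hh) (hH hh) a ha)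
  intro s hs
  obtain ⟨j, hj, l, hl, hjl⟩ := inner_S f fL hS hH hs
  refine ⟨j, ?_, l, hl, hjl⟩
  have hje : j = s * l⁻¹ := by rw [hjl]; group
  have hcu : ∀ u ∈ U, j * u = u * j := by
    intro u hu
    rw [hje]
    have h1 : Commute s u := hcent s (hSK hs) (hS hs) u hu
    have h2 : Commute l u := commute_cent hl (hF.sylU.le hu)
    exact (h1.mul_left h2.inv_left).eq
  -- `j` commutes with `l`; it is a 2-element modulo `L`: use the power trick
  have hjl' : Commute l j := commute_cent hl hj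
  obtain ⟨k, hk⟩ := el_of_mem f.syl.two hs
  have h5 : j ^ 2 ^ k * l ^ 2 ^ k = 1 := by
    rw [← hjl'.symm.mul_pow, ← hjl, hk]
  have h6 : j ^ 2 ^ k = 1 := by
    apply (fL.cen _ ?_ (pow_mem hj _))
    rw [eq_inv_of_mul_eq_one_left h5]
    exact L.inv_mem (L.pow_mem hl _)
  exact mem_syl_of_comm hF.sylU hj ⟨k, h6⟩ hcu

end Cfsg.Agent.OddHalf.D4.U3.StepB
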