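import Cfsg.Agent.OddHalf.D4.U3.StepA
import Cfsg.Agent.OddHalf.D4.U3.StepB

/-!
# ODD, D4, row `K = U₃(q)`: piece S (helper875)

`common_of` : a full pair is conjugate to one with a common Sylow 2-subgroup of `K` and `L`.
-/

set_option autoImplicit false
set_option linter.dupNamespace false

namespace Cfsg.Agent.OddHalf.D4.U3.Common

open Subgroup Cfsg.Agent.OddHalf.D4 Cfsg.Agent.OddHalf.D4.Basic Cfsg.Agent.OddHalf.D4.U3.Fr
  Cfsg.Agent.OddHalf.D4.U3.StepA Cfsg.Agent.OddHalf.D4.U3.StepB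
open Cfsg.Agent.OddHalf.D4.CommConj (Tight cj mem_cj cj_mul card_cj cj_eq_of_mem_normalizer
  mem_normalizer_of_cj_eq mem_cj_mul)

variable {G : Type*} [Group G]

/-- elements of `N(K)` fix `K` -/
theorem cj_eq {K : Subgroup G} {k : G} (hk : k ∈ K) : cj k K = K := cj_eq_of_mem_normalizer (le_normalizer hk)

/-- a 2-subgroup of `L` of the order of a Sylow subgroup is conjugate to it -/
theorem exists_cj_eq [Finite G] {S T L : Subgroup G} (hT : IsSyl T L) (hS : IsPGroup 2 ↥S) (hSL : S ≤ L)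
    (hc : Nat.card ↥T ≤ Nat.card ↥S) : ∃ l ∈ L, cj l T = S := by
  obtain ⟨m, hm, h1⟩ := hT.conj_into hS hSL
  refine ⟨m⁻¹, inv_mem hm, ?_⟩
  have h2 : S ≤ cj m⁻¹ T := fun s hs => by
    rw [mem_cj, inv_inv]; exact h1 s hs
  exact (eq_of_le_of_card_ge h2 (by rw [card_cj]; exact hc)).symm

/-- two Sylow subgroups have the same order -/
theorem card_le_of_syl [Finite G] {S T L : Subgroup G} (hT : IsSyl T L) (hS : IsPGroup 2 ↥S) (hSL : S ≤ L) :
    Nat.card ↥S ≤ Nat.card ↥T := by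
  obtain ⟨m, hm, h1⟩ := hT.conj_into hS hSL
  have h2 : cj m S ≤ T := fun s hs => by
    rw [mem_cj] at hs
    have := h1 _ hs
    have e : m * (m⁻¹ * s * m) * m⁻¹ = s := by group
    rwa [e] at this
  have h3 := Subgroup.card_le_of_le h2
  rwa [card_cj] at h3

/-- `C(L) ≤ N(L)` -/
theorem cent_le_norm (L : Subgroup G) : centralizer (L : Set G) ≤ normalizer (L : Set G) := by
  intro y hy
  apply mem_normalizer_of_cj_eq
  ext u
  rw [mem_cj]
  constructor
  · intro hu
    have h1 : (y⁻¹ * u * y) * y = y * (y⁻¹ * u * y) := mem_centralizer_iff.1 hy _ hu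
    have h2 : y⁻¹ * u * y = u := by
      have h3 : (y⁻¹ * u * y) * y = u * y := by rw [h1]; group
      exact mul_right_cancel h3
    rwa [h2] at hu
  · intro hu
    have h1 : u * y = y * u := mem_centralizer_iff.1 hy _ hu
    have h2 : y⁻¹ * u * y = u := by rw [mul_assoc, h1, inv_mul_cancel_left]
    rwa [h2]

/-- `k ∈ K` fixes the subgroups of `C(K)` -/
theorem cj_cent {K Q : Subgroup G} (hQ : Q ≤ centralizer (K : Set G)) {k : G} (hk : k ∈ K) : cj k Q = Q := by
  apply cj_eq_of_mem_normalizer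
  apply cent_le_norm
  rw [mem_centralizer_iff]
  intro q hq
  exact (mem_centralizer_iff.1 (hQ hq) k hk).symm

/-- **Piece S**, abstract form. -/
theorem common_of [Finite G] {K S Z B H Q : Subgroup G} {x : G}
    (hf : ∀ g : G, Fr (cj g K) (cj g S) (cj g Z) (cj g B) (cj g H))
    (hhalf : ∀ {K L Q U S Z B H S' Z' B' H' : Subgroup G}, Fr K S Z B H → Fr L S' Z' B' H' → FullPair K L Q U →
      S ≤ normalizer (L : Set G) → H ≤ normalizer (L : Set G) → K ⊓ normalizer (L : Set G) ≤ B →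
      K ⊓ centralizer (L : Set G) ≠ ⊥ → L ⊓ centralizer (K : Set G) ≠ ⊥ → S ≤ centralizer (L : Set G))
    (hdig : ∀ k ∈ K, ∀ g, g ∉ normalizer (K : Set G) → cj k S ≤ centralizer ((cj g K : Subgroup G) : Set G) →
      cj g (cj k S) ≤ centralizer (K : Set G) → False)
    (hQ : IsSyl Q (centralizer (K : Set G))) (hx : x ∉ normalizer (K : Set G))
    (hc : ∀ r ∈ Q, ∀ u ∈ cj x Q, r * u = u * r) :
    ∃ k ∈ K, ∃ y, y ∉ normalizer (K : Set G) ∧ cj y K = cj x K ∧ cj y (cj k S) = cj k S ∧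
      cj y Q = cj x Q ∧ (∀ u ∈ cj x Q, ∃ r ∈ Q, ∃ z ∈ cj k Z, u = r * z) ∧
      (∀ r ∈ Q, ∃ z ∈ cj k Z, r * z ∈ cj x Q) ∧ ∀ r ∈ Q, r * r = 1 := by
  -- the full pair
  have hU : IsSyl (cj x Q) (centralizer ((cj x K : Subgroup G) : Set G)) := by
    rw [centralizer_cj]
    exact hQ.cj x
  have hF : FullPair K (cj x K) Q (cj x Q) := ⟨⟨x, hx, rfl⟩, hQ, hU, hc⟩
  have hxK : cj x K ≠ K := fun h => hx (mem_normalizer_of_cj_eq h)
  have hone : ∀ Y : Subgroup G, cj 1 Y = Y := fun Y => cj_eq_of_mem_normalizer (one_mem _)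
  -- frames of `K`
  have f0 : Fr K S Z B H := by
    have := hf 1
    rwa [hone, hone, hone, hone, hone] at this
  have fK : ∀ k ∈ K, Fr K (cj k S) (cj k Z) (cj k B) (cj k H) := fun k hk => by
    have := hf k
    rwa [cj_eq hk] at this
  have fL : ∀ l ∈ cj x K, Fr (cj x K) (cj (l * x) S) (cj (l * x) Z) (cj (l * x) B) (cj (l * x) H) := fun l hl => by
    have := hf (l * x)
    rwa [cj_mul l x K, cj_eq hl] at this
  obtain ⟨k, hk, hS1, hH1, hD1⟩ := stepA f0 hF
  by_cases hN : K ⊓ centralizer ((cj x K : Subgroup G) : Set G) = ⊥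
  · -- the common Sylow subgroup
    obtain ⟨h1, h2, h3, h4⟩ := stepB (fK k hk) (hf x) hF hS1 hH1 hN
    obtain ⟨l, hl, hlS⟩ := exists_cj_eq (hf x).syl (fK k hk).syl.two h1 (by rw [card_cj, card_cj])
    have hyK : cj (l * x * k⁻¹) K = cj x K := by
      rw [cj_mul, cj_eq (inv_mem hk), cj_mul, cj_eq hl]
    refine ⟨k, hk, l * x * k⁻¹, fun hy => ?_, hyK, ?_, ?_, h2, h3, h4⟩
    · rw [cj_eq_of_mem_normalizer hy] at hyK
      exact hxK hyK.symm
    · rw [cj_mul, cj_inv_cj, cj_mul]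
      exact hlS
    · rw [cj_mul, cj_cent hQ.le (inv_mem hk), cj_mul]
      exact cj_cent hU.le hl
  · exfalso
    have fx := hf x
    have hF' : FullPair (cj x K) K (cj x Q) Q := hF.symm
    obtain ⟨l, hl, hS2, hH2, hD2⟩ := stepA fx hF'
    rw [← cj_mul] at hS2 hH2 hD2
    have f1 := fK k hk
    have f2 := fL l hl
    have hsyl2 := f2.syl
    by_cases hN' : cj x K ⊓ centralizer (K : Set G) = ⊥
    · -- the Sylow subgroup of `L` is the one of `K`
      obtain ⟨h1, -, -, -⟩ := stepB f2 f1 hF' hS2 hH2 hN'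
      have h3 : cj (l * x) S ≤ cj k S := fun s hs => by
        refine f1.twoB s (hD1 ⟨h1 hs, le_normalizer (hsyl2.le hs)⟩) ?_
        exact el_of_mem hsyl2.two hs
      have h4 : cj (l * x) S = cj k S := eq_of_le_of_card_ge h3 (by rw [card_cj, card_cj])
      -- an involution of `S` centralising `L`
      have h5 : ∃ y ∈ cj k S, y ≠ 1 ∧ y ∈ centralizer ((cj x K : Subgroup G) : Set G) := by
        by_contra hcon
        push Not at hcon
        apply hN
        rw [eq_bot_iff]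
        rintro y ⟨hyK, hyC⟩
        rw [mem_bot]
        have hyB : y ∈ cj k B := hD1 ⟨hyK, cent_le_norm _ hyC⟩
        have h6 : ∀ s ∈ cj k S, y * s = s * y := by
          intro s hs
          have h7 : y * s * y⁻¹ * s⁻¹ ∈ cj k S := mul_mem (f1.norm y hyB s hs) (inv_mem hs)
          have h8 : y * s * y⁻¹ * s⁻¹ ∈ centralizer ((cj x K : Subgroup G) : Set G) := by
            have h9 : s ∈ normalizer ((cj x K : Subgroup G) : Set G) := hS1 hs
            have h10 : s * y⁻¹ * s⁻¹ ∈ centralizer ((cj x K : Subgroup G) : Set G) := by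
              rw [mem_centralizer_iff]
              intro u hu
              have h11 : s⁻¹ * u * s ∈ cj x K := (mem_normalizer_iff''.mp h9 u).mp hu
              have h12 := mem_centralizer_iff.1 (inv_mem hyC) _ h11
              calc u * (s * y⁻¹ * s⁻¹) = s * ((s⁻¹ * u * s) * y⁻¹) * s⁻¹ := by group
                _ = s * (y⁻¹ * (s⁻¹ * u * s)) * s⁻¹ := by rw [h12]
                _ = s * y⁻¹ * s⁻¹ * u := by group
            have e : y * s * y⁻¹ * s⁻¹ = y * (s * y⁻¹ * s⁻¹) := by group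
            rw [e]; exact mul_mem hyC h10
          by_contra hne
          have h9 : y * s * y⁻¹ * s⁻¹ ≠ 1 := fun e => hne (by
            rw [mul_inv_eq_one, mul_inv_eq_iff_eq_mul] at e
            exact e)
          exact hcon _ h7 h9 h8
        by_contra hy1
        exact hcon y (f1.Z_le (f1.centB y hyB h6)) hy1 hyC
      obtain ⟨y, hy, hy1, hyC⟩ := h5
      rw [← h4] at hy
      exact hy1 (f2.cen y (hsyl2.le hy) hyC)
    · -- the digon
      have h1 := hhalf f1 f2 hF hS1 hH1 hD1 hN hN'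
      have h2 := hhalf f2 f1 hF' hS2 hH2 hD2 hN' hN
      have h3 : cj (l * x * k⁻¹) K = cj x K := by
        rw [cj_mul, cj_eq (inv_mem hk), cj_mul, cj_eq hl]
      refine hdig k hk (l * x * k⁻¹) (fun hy => ?_) (by rw [h3]; exact h1) ?_
      · rw [cj_eq_of_mem_normalizer hy] at h3
        exact hxK h3.symm
      · rw [cj_mul, cj_inv_cj]; exact h2

/-! ### The form for `Uni` -/

section Uni

open Cfsg.Agent.LieRecognition Cfsg.Agent.OddHalf.D4.U3.ParDefs

universe u v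

variable {G : Type u} [Group G] {F : Type v} [Field F] [Fintype F] [CharP F 2] {σ : F →+* F}
  [hσ : Fact (∀ x, σ (σ x) = x)] {n : ℕ}

/-- **Piece S** (`pair_common`) from the frame, `half` and the digon. -/
theorem pair_common_of [Finite G] {K Q : Subgroup G} (X : Uni K σ n)
    (hfr : ∀ {K' : Subgroup G} (Y : Uni K' σ n), Fr K' Y.p.S Y.p.Z Y.p.B (H0 Y.p))
    (hhalf : ∀ {K L Q U S Z B H S' Z' B' H' : Subgroup G}, Fr K S Z B H → Fr L S' Z' B' H' → FullPair K L Q U →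
      S ≤ normalizer (L : Set G) → H ≤ normalizer (L : Set G) → K ⊓ normalizer (L : Set G) ≤ B →
      K ⊓ centralizer (L : Set G) ≠ ⊥ → L ⊓ centralizer (K : Set G) ≠ ⊥ → S ≤ centralizer (L : Set G))
    (hdig : ∀ (Y : Uni K σ n) (g : G), g ∉ normalizer (K : Set G) →
      Y.p.S ≤ centralizer ((cj g K : Subgroup G) : Set G) → cj g Y.p.S ≤ centralizer (K : Set G) → False)
    {x : G} (hQ : IsSyl Q (centralizer (K : Set G))) (hx : x ∉ normalizer (K : Set G))
    (hc : ∀ r ∈ Q, ∀ u ∈ cj x Q, r * u = u * r) :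
    ∃ k ∈ K, ∃ y, y ∉ normalizer (K : Set G) ∧ cj y K = cj x K ∧ cj y (cj k X.p.S) = cj k X.p.S ∧
      cj y Q = cj x Q ∧ (∀ u ∈ cj x Q, ∃ r ∈ Q, ∃ z ∈ cj k X.p.Z, u = r * z) ∧
      (∀ r ∈ Q, ∃ z ∈ cj k X.p.Z, r * z ∈ cj x Q) ∧ ∀ r ∈ Q, r * r = 1 := by
  refine common_of (B := X.p.B) (H := H0 X.p) (fun g => ?_) (fun h1 h2 => hhalf h1 h2) (fun k hk g hg h1 h2 => ?_)
    hQ hx hc
  · have h := hfr (uconj X g)
    have e1 : (uconj X g).p.S = cj g X.p.S := X.p.conj_S g
    have e2 : (uconj X g).p.Z = cj g X.p.Z := X.p.conj_Z g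
    have e3 : (uconj X g).p.B = cj g X.p.B := conj_B X.p g
    have e4 : H0 (uconj X g).p = cj g (H0 X.p) := conj_H0 X.p g
    rwa [e1, e2, e3, e4] at h
  · have e : (uinn X ⟨k, hk⟩).p.S = cj k X.p.S := inn_S X.p ⟨k, hk⟩
    exact hdig (uinn X ⟨k, hk⟩) g hg (by rw [e]; exact h1) (by rw [e]; exact h2)

end Uni

end Cfsg.Agent.OddHalf.D4.U3.Common
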