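import Cfsg.Agent.OddHalf.D4.U3.ParFacts

/-!
# ODD, D4, row `K = U₃(q)`: the action of `N(K)` on `K`

`Tau p x τ`: modulo `K`, `x` acts on the Sylow 2-subgroup `S` of `K` as `a ↦ c τ a`. `Tau` is a homomorphism into
`Aut F`, its 2-elements in the kernel are in `C(K) K`.
-/

set_option autoImplicit false
set_option linter.dupNamespace false
set_option linter.unusedSectionVars false

namespace Cfsg.Agent.OddHalf.D4.U3.ParDefs

open Subgroup Cfsg.Agent.LieRecognition Cfsg.Agent.LieRecognition.HermHeis Cfsg.Agent.StdU3.URel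
  Cfsg.Agent.StdU3.Field Cfsg.Agent.StdU3.Semi Cfsg.Agent.OddHalf.D4.CommConj Cfsg.Agent.OddHalf.D4.Basic

universe u v

variable {G : Type u} [Group G] {F : Type v} [Field F] [Fintype F] [CharP F 2] {σ : F →+* F}
  [hσ : Fact (∀ x, σ (σ x) = x)] {n : ℕ}

namespace Par

variable {K : Subgroup G} (p : Par K σ n)

theorem pw : PW p.u ⊥ where
  inj := p.u_inj
  comm := by
    intro r hr x
    rw [mem_bot.mp hr, one_mul, mul_one]
  sq := by
    intro r hr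
    rw [mem_bot.mp hr, one_mul]
  disj := by
    intro x hx
    exact p.u_eq_one (mem_bot.mp hx)

/-- `x` acts on `S` as `a ↦ c τ a` -/
def Act (x : G) (c : F) (τ : F ≃+* F) : Prop := SL p.u ⊥ x c τ

variable {p}

theorem act_iff {x : G} {c : F} {τ : F ≃+* F} :
    p.Act x c τ ↔ ∀ y, ∃ y', x * p.u y * x⁻¹ = p.u y' ∧ y'.a = c * τ y.a := by
  constructor
  · intro h y
    obtain ⟨y', r, hr, h1, h2⟩ := h y
    exact ⟨y', by rw [h1, mem_bot.mp hr, one_mul], h2⟩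
  · intro h y
    obtain ⟨y', h1, h2⟩ := h y
    exact ⟨y', 1, one_mem _, by rw [h1, one_mul], h2⟩

theorem Act.mul {x x' : G} {c c' : F} {τ τ' : F ≃+* F} (h : p.Act x c τ) (h' : p.Act x' c' τ') :
    p.Act (x * x') (c * τ c') (τ * τ') := by
  refine SL.mul p.pw ?_ h h'
  intro r hr
  refine ⟨1, 1, one_mem _, ?_, rfl⟩
  rw [mem_bot.mp hr, map_one, mul_one, mul_one, mul_inv_cancel]

theorem Act.unique {x : G} {c c' : F} {τ τ' : F ≃+* F} (h : p.Act x c τ) (h' : p.Act x c' τ') :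
    c = c' ∧ τ = τ' := SL.unique p.hS p.pw h h'

theorem Act.one : p.Act 1 1 1 := SL.one

theorem Act.of_comm {x : G} (h : ∀ s ∈ p.S, x * s = s * x) : p.Act x 1 1 := by
  rw [act_iff]
  intro y
  refine ⟨y, ?_, by rw [one_mul]; rfl⟩
  rw [h _ (p.u_mem y), mul_inv_cancel_right]

theorem act_of_B {b : G} (hb : b ∈ p.B) : ∃ c, p.Act b c 1 := by
  obtain ⟨y, l, rfl⟩ := p.mem_B.mp hb
  refine ⟨wt σ l, ?_⟩
  rw [act_iff]
  intro x
  refine ⟨y * act l x * y⁻¹, ?_, ?_⟩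
  · have e : p.u y * p.d l * p.u x * (p.u y * p.d l)⁻¹ = p.u y * (p.d l * p.u x * (p.d l)⁻¹) * (p.u y)⁻¹ := by
      group
    rw [e, p.d_u, map_mul, map_mul, map_inv]
  · rw [mul_a, mul_a, inv_a, act_a]
    have := CharTwo.add_self_eq_zero y.a
    show y.a + wt σ l * x.a + y.a = wt σ l * x.a
    linear_combination this

theorem Act.cj [Finite G] {x : G} {c : F} {τ : F ≃+* F} (h : p.Act x c τ) : CommConj.cj x p.S = p.S := by
  apply eq_of_le_of_card_ge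
  · rintro _ ⟨_, ⟨y, rfl⟩, rfl⟩
    obtain ⟨y', h1, -⟩ := act_iff.mp h y
    exact ⟨y', h1.symm⟩
  · rw [card_cj]

/-- an element normalizing `S` acts semilinearly on it -/
theorem exists_act {x : G} (h : CommConj.cj x p.S = p.S) : ∃ c : F, c ≠ 0 ∧ ∃ τ : F ≃+* F, p.Act x c τ ∧
    ∀ z : Heis σ, z.a = 0 → ∃ z' : Heis σ, z'.a = 0 ∧ z'.b = (c * σ c) * τ z.b ∧
      x * p.u z * x⁻¹ = p.u z' := by
  apply Nm.exists_SL p.hS p.pw
  intro y
  have h1 : x * p.u y * x⁻¹ ∈ p.S := by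
    rw [← h]
    exact mem_cj_mul (p.u_mem y)
  obtain ⟨y', h2⟩ := h1
  exact ⟨y', 1, one_mem _, by rw [h2, one_mul]⟩

theorem Act.pow {x : G} {c : F} (h : p.Act x c 1) (i : ℕ) : p.Act (x ^ i) (c ^ i) 1 := by
  induction i with
  | zero => rw [pow_zero, pow_zero]; exact Act.one
  | succ i ih =>
    have h1 := ih.mul h
    rw [pow_succ, pow_succ]
    exact h1

theorem Act.eq_one {x : G} {c : F} (h : p.Act x c 1) (h2 : ∃ k : ℕ, x ^ 2 ^ k = 1) : c = 1 := by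
  obtain ⟨k, hk⟩ := h2
  have h1 := h.pow (2 ^ k)
  rw [hk] at h1
  have h3 := (h1.unique Act.one).1
  have h4 : (c - 1) ^ 2 ^ k = 0 := by
    rw [sub_pow_char_pow, h3, one_pow, sub_self]
  have h5 := (pow_eq_zero_iff (by positivity)).mp h4
  exact sub_eq_zero.mp h5

/-! ### inner automorphisms -/

/-- an automorphism of `K` trivial on `S / Z` is inner by an element of `S` -/
theorem inner_of_act [Finite G] {x : G} (hx : x ∈ normalizer (K : Set G)) (h : p.Act x 1 1) :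
    ∃ c ∈ centralizer (K : Set G), ∃ s ∈ p.S, x = c * s := by
  have hfin : Finite ↥K := Finite.of_injective (fun x : ↥K => (x : G)) (fun _ _ h => Subtype.ext h)
  set φ : MulAut ↥K := K.normalizerMonoidHom ⟨x, hx⟩ with hφ
  have hφc : ∀ k : ↥K, ((φ k : ↥K) : G) = x * k * x⁻¹ := fun k => rfl
  have h1 : Cfsg.Agent.StdU3.URelAut.Triv p.R φ := by
    intro y
    obtain ⟨y', h2, h3⟩ := act_iff.mp h y
    refine ⟨y', Subtype.ext ?_, ?_⟩
    · rw [hφc]; exact h2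
    · rw [h3, one_mul]; rfl
  obtain ⟨y, hy⟩ := h1.inner (fieldOK p.hS)
  refine ⟨x * (p.u y)⁻¹, ?_, p.u y, p.u_mem y, by group⟩
  rw [mem_centralizer_iff]
  intro k hk
  -- `x k' x⁻¹ = u k' u⁻¹`
  have h2 : ∀ k' ∈ K, x * k' * x⁻¹ = p.u y * k' * (p.u y)⁻¹ := by
    intro k' hk'
    have h3 := congrArg (fun ψ : MulAut ↥K => ((ψ ⟨k', hk'⟩ : ↥K) : G)) hy
    exact h3
  have h3 := h2 ((p.u y)⁻¹ * k * p.u y) (K.mul_mem (K.mul_mem (K.inv_mem (p.u_mem_K y)) hk) (p.u_mem_K y))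
  have e1 : p.u y * ((p.u y)⁻¹ * k * p.u y) * (p.u y)⁻¹ = k := by group
  rw [e1] at h3
  calc k * (x * (p.u y)⁻¹) = (x * ((p.u y)⁻¹ * k * p.u y) * x⁻¹) * (x * (p.u y)⁻¹) := by rw [h3]
    _ = x * (p.u y)⁻¹ * k := by group

/-- the form of 721's frame -/
theorem triv [Finite G] {y : G} (hy : y ∈ normalizer (K : Set G))
    (h : ∀ s ∈ p.S, ∃ z ∈ p.Z, y * s * y⁻¹ = s * z) :
    ∃ c ∈ centralizer (K : Set G), ∃ s ∈ p.S, y = c * s := by
  apply inner_of_act hy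
  rw [act_iff]
  intro x
  obtain ⟨z, ⟨z', hz', rfl⟩, h1⟩ := h _ (p.u_mem x)
  refine ⟨x * z', by rw [h1, map_mul], ?_⟩
  rw [mul_a, hz', add_zero, one_mul]; rfl

/-! ### the homomorphism -/

/-- modulo `K`, `x` acts on `S` with field automorphism `τ` -/
def Tau (p : Par K σ n) (x : G) (τ : F ≃+* F) : Prop := ∃ k ∈ K, ∃ c, p.Act (k * x) c τ

theorem exists_tau [Finite G] {x : G} (hx : x ∈ normalizer (K : Set G)) : ∃ τ, p.Tau x τ := by
  have h1 : IsSyl (CommConj.cj x p.S) K := by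
    have h2 := p.sylS.cj x
    rwa [cj_eq_of_mem_normalizer hx] at h2
  obtain ⟨k, hk, h3⟩ := p.sylS.exists_cj h1
  rw [← cj_mul] at h3
  obtain ⟨c, -, τ, h4, -⟩ := exists_act h3
  exact ⟨τ, k, hk, c, h4⟩

theorem Tau.unique [Finite G] {x : G} {τ τ' : F ≃+* F} (h : p.Tau x τ) (h' : p.Tau x τ') : τ = τ' := by
  obtain ⟨k, hk, c, h1⟩ := h
  obtain ⟨k', hk', c', h2⟩ := h'
  have h3 : CommConj.cj (k * k'⁻¹) p.S = p.S := by
    have e : k * x = (k * k'⁻¹) * (k' * x) := by group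
    have h4 := h1.cj
    rw [e, cj_mul, h2.cj] at h4
    exact h4
  obtain ⟨c₀, h5⟩ := act_of_B (p.mem_B_of_cj (K.mul_mem hk (K.inv_mem hk')) h3)
  have h6 := h5.mul h2
  have e : (k * k'⁻¹) * (k' * x) = k * x := by group
  rw [e, one_mul] at h6
  exact (h1.unique h6).2

theorem Tau.mul {x x' : G} {τ τ' : F ≃+* F} (hx : x ∈ normalizer (K : Set G)) (h : p.Tau x τ)
    (h' : p.Tau x' τ') : p.Tau (x * x') (τ * τ') := by
  obtain ⟨k, hk, c, h1⟩ := h
  obtain ⟨k', hk', c', h2⟩ := h'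
  refine ⟨k * (x * k' * x⁻¹), K.mul_mem hk ((mem_normalizer_iff.mp hx k').mp hk'), c * τ c', ?_⟩
  have e : k * (x * k' * x⁻¹) * (x * x') = (k * x) * (k' * x') := by group
  rw [e]
  exact h1.mul h2

theorem Tau.of_mem {k : G} (hk : k ∈ K) : p.Tau k 1 :=
  ⟨k⁻¹, K.inv_mem hk, 1, by rw [inv_mul_cancel]; exact Act.one⟩

theorem Tau.of_cent {x : G} (hx : x ∈ centralizer (K : Set G)) : p.Tau x 1 :=
  ⟨1, K.one_mem, 1, by
    rw [one_mul]
    exact Act.of_comm fun s hs => (mem_centralizer_iff.mp hx s (p.S_le hs)).symm⟩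

/-- `τ` as a homomorphism -/
noncomputable def tau [Finite G] (p : Par K σ n) : ↥(normalizer (K : Set G)) →* (F ≃+* F) where
  toFun x := (exists_tau (p := p) x.2).choose
  map_one' := (exists_tau (p := p) (1 : ↥(normalizer (K : Set G))).2).choose_spec.unique (Tau.of_mem K.one_mem)
  map_mul' x y := (exists_tau (p := p) (x * y).2).choose_spec.unique
    ((exists_tau (p := p) x.2).choose_spec.mul x.2 (exists_tau (p := p) y.2).choose_spec)

theorem tau_spec [Finite G] (p : Par K σ n) (x : ↥(normalizer (K : Set G))) : p.Tau x (p.tau x) :=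
  (exists_tau (p := p) x.2).choose_spec

theorem tau_eq [Finite G] {x : G} (hx : x ∈ normalizer (K : Set G)) {τ : F ≃+* F} (h : p.Tau x τ) :
    p.tau ⟨x, hx⟩ = τ := (tau_spec p ⟨x, hx⟩).unique h

/-- a 2-element of `N(K)` normalizes a Sylow 2-subgroup of `K` -/
theorem exists_normS [Finite G] {x : G} (hx : x ∈ normalizer (K : Set G)) (h2 : ∃ k : ℕ, x ^ 2 ^ k = 1) :
    ∃ k ∈ K, CommConj.cj (k⁻¹ * x * k) p.S = p.S := by
  have h1 : IsPGroup 2 ↥(zpowers x) := by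
    obtain ⟨k, hk⟩ := h2
    rw [IsPGroup.iff_card]
    obtain ⟨m, -, hm⟩ := (Nat.dvd_prime_pow Nat.prime_two).mp (orderOf_dvd_of_pow_eq_one hk)
    exact ⟨m, by rw [Nat.card_zpowers, hm]⟩
  obtain ⟨T, hT, hxT⟩ := exists_isSyl h1 (M := normalizer (K : Set G)) (by rw [zpowers_le]; exact hx)
  have hxT' : x ∈ T := hxT (mem_zpowers x)
  have h3 : IsSyl (T ⊓ K) K := hT.inf le_normalizer fun t ht => mem_normalizer_fintype fun k hk =>
    (mem_normalizer_iff.mp (hT.le ht) k).mp hk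
  obtain ⟨k, hk, h4⟩ := h3.exists_cj p.sylS
  refine ⟨k, hk, ?_⟩
  have h5 : CommConj.cj x (T ⊓ K) = T ⊓ K := by
    apply cj_eq_of_mem_normalizer
    apply mem_normalizer_fintype
    intro t ht
    exact ⟨T.mul_mem (T.mul_mem hxT' ht.1) (T.inv_mem hxT'), (mem_normalizer_iff.mp hx t).mp ht.2⟩
  rw [← h4, ← cj_mul] at h5
  have e : k⁻¹ * x * k = k⁻¹ * (x * k) := by group
  rw [e, cj_mul, h5, ← cj_mul, inv_mul_cancel]
  ext t
  rw [mem_cj]; simp

/-- **2-elements in the kernel of `τ` are in `C(K) K`** -/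
theorem inner [Finite G] {x : G} (hx : x ∈ normalizer (K : Set G)) (h2 : ∃ k : ℕ, x ^ 2 ^ k = 1)
    (h : p.Tau x 1) : ∃ c ∈ centralizer (K : Set G), ∃ s ∈ K, (∃ k : ℕ, s ^ 2 ^ k = 1) ∧ x = c * s := by
  obtain ⟨k, hk, h1⟩ := exists_normS (p := p) hx h2
  have hm : k⁻¹ * x * k ∈ normalizer (K : Set G) :=
    mul_mem (mul_mem (le_normalizer (K.inv_mem hk)) hx) (le_normalizer hk)
  have hm2 : ∃ j : ℕ, (k⁻¹ * x * k) ^ 2 ^ j = 1 := by
    obtain ⟨j, hj⟩ := h2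
    refine ⟨j, ?_⟩
    have e := conj_pow (i := 2 ^ j) (a := k⁻¹) (b := x)
    rw [inv_inv] at e
    rw [e, hj, mul_one, inv_mul_cancel]
  obtain ⟨c, -, τ, h3, -⟩ := exists_act h1
  have h4 : τ = 1 := by
    have h5 : p.Tau (k⁻¹ * x * k) τ := ⟨1, K.one_mem, c, by rw [one_mul]; exact h3⟩
    have h6 : p.Tau (k⁻¹ * x * k) (1 * 1 * 1) :=
      ((Tau.of_mem (K.inv_mem hk)).mul (le_normalizer (K.inv_mem hk)) h).mul
        (mul_mem (le_normalizer (K.inv_mem hk)) hx) (Tau.of_mem hk)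
    rw [one_mul, one_mul] at h6
    exact h5.unique h6
  subst h4
  have h5 := h3.eq_one hm2
  subst h5
  obtain ⟨c₀, hc₀, s, hs, h6⟩ := inner_of_act hm h3
  refine ⟨c₀, hc₀, k * s * k⁻¹, K.mul_mem (K.mul_mem hk (p.S_le hs)) (K.inv_mem hk), ?_, ?_⟩
  · obtain ⟨j, hj⟩ := p.S_two ⟨s, hs⟩
    have hj' : s ^ 2 ^ j = 1 := congrArg Subtype.val hj
    exact ⟨j, by rw [conj_pow, hj', mul_one, mul_inv_cancel]⟩
  · have h7 := mem_centralizer_iff.mp hc₀ k hk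
    calc x = k * (k⁻¹ * x * k) * k⁻¹ := by group
      _ = (k * c₀) * s * k⁻¹ := by rw [h6]; group
      _ = (c₀ * k) * s * k⁻¹ := by rw [h7]
      _ = c₀ * (k * s * k⁻¹) := by group

/-- 2-elements of derived groups are inner -/
theorem innerComm [Finite G] (p : Par K σ n) {D : Subgroup G} (hD : D ≤ normalizer (K : Set G)) {x : G}
    (hx : x ∈ ⁅D, D⁆) (h2 : ∃ k : ℕ, x ^ 2 ^ k = 1) :
    ∃ c ∈ centralizer (K : Set G), ∃ s ∈ K, (∃ k : ℕ, s ^ 2 ^ k = 1) ∧ x = c * s := by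
  have h1 : ⁅D, D⁆ ≤ (p.tau.ker).map (normalizer (K : Set G)).subtype := by
    rw [commutator_le]
    intro a ha b hb
    refine ⟨(⟨a, hD ha⟩ : ↥(normalizer (K : Set G))) * ⟨b, hD hb⟩ * (⟨a, hD ha⟩)⁻¹ * (⟨b, hD hb⟩)⁻¹, ?_, rfl⟩
    rw [SetLike.mem_coe, MonoidHom.mem_ker, map_mul, map_mul, map_mul, map_inv, map_inv,
      Cfsg.Agent.StdU3.FieldAut.comm (p.tau ⟨a, hD ha⟩)]
    group
  obtain ⟨y, hy, rfl⟩ := h1 hx
  have h3 := tau_spec p y
  rw [SetLike.mem_coe, MonoidHom.mem_ker] at hy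
  rw [hy] at h3
  exact inner y.2 h2 h3

/-- an element of order 2 of `Aut F` -/
theorem tau_cases [Finite G] (p : Par K σ n) {x : G} (hx : x ∈ normalizer (K : Set G)) (h2 : x * x = 1) :
    p.tau ⟨x, hx⟩ = 1 ∨ p.tau ⟨x, hx⟩ = Cfsg.Agent.StdU3.FieldAut.barE p.hS.hq := by
  by_cases h : p.tau ⟨x, hx⟩ = 1
  · exact Or.inl h
  · right
    refine Cfsg.Agent.StdU3.FieldAut.eq_bar p.hS.hq ?_ h
    rw [← map_mul]
    have : (⟨x, hx⟩ * ⟨x, hx⟩ : ↥(normalizer (K : Set G))) = 1 := Subtype.ext h2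
    rw [this, map_one]

/-- a four-group of `N(K)` contains an inner involution -/
theorem innerFour [Finite G] (p : Par K σ n) {a b : G} (ha : a ∈ normalizer (K : Set G))
    (hb : b ∈ normalizer (K : Set G)) (ha2 : orderOf a = 2) (hb2 : orderOf b = 2) (hab : a * b = b * a) :
    ∃ x : G, (x = a ∨ x = b ∨ x = a * b) ∧
      ∃ c ∈ centralizer (K : Set G), ∃ s ∈ K, (∃ k : ℕ, s ^ 2 ^ k = 1) ∧ x = c * s := by
  have ha' : a * a = 1 := by rw [← sq, ← ha2, pow_orderOf_eq_one]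
  have hb' : b * b = 1 := by rw [← sq, ← hb2, pow_orderOf_eq_one]
  have hab' : (a * b) * (a * b) = 1 := by
    calc (a * b) * (a * b) = a * (b * a) * b := by group
      _ = (a * a) * (b * b) := by rw [← hab]; group
      _ = 1 := by rw [ha', hb', mul_one]
  have key : ∀ x, ∀ hx : x ∈ normalizer (K : Set G), x * x = 1 → p.tau ⟨x, hx⟩ = 1 →
      ∃ c ∈ centralizer (K : Set G), ∃ s ∈ K, (∃ k : ℕ, s ^ 2 ^ k = 1) ∧ x = c * s := by
    intro x hx hx2 h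
    have h3 := tau_spec p ⟨x, hx⟩
    rw [h] at h3
    exact inner hx ⟨1, by rw [pow_one, sq, hx2]⟩ h3
  rcases p.tau_cases ha ha' with h1 | h1
  · exact ⟨a, Or.inl rfl, key a ha ha' h1⟩
  rcases p.tau_cases hb hb' with h2 | h2
  · exact ⟨b, Or.inr (Or.inl rfl), key b hb hb' h2⟩
  refine ⟨a * b, Or.inr (Or.inr rfl), key (a * b) (mul_mem ha hb) hab' ?_⟩
  have e : (⟨a * b, mul_mem ha hb⟩ : ↥(normalizer (K : Set G))) = ⟨a, ha⟩ * ⟨b, hb⟩ := rfl
  rw [e, map_mul, h2, ← h1, ← map_mul]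
  have : (⟨a, ha⟩ * ⟨a, ha⟩ : ↥(normalizer (K : Set G))) = 1 := Subtype.ext ha'
  rw [this, map_one]

/-- **(F1)**, the hypothesis `inner` of `Exists.fullPair_of_maxE` -/
theorem f1 [Finite G] (p : Par K σ n) (T : Subgroup G) (hT : IsSyl T (normalizer (K : Set G))) (y : G)
    (hy : y ∈ T) (h : ∀ s ∈ T, s ∈ K → s * y = y * s) :
    ∃ k ∈ centralizer (K : Set G), ∃ s ∈ T, s ∈ K ∧ (∀ u ∈ T, u ∈ K → u * s = s * u) ∧ y = k * s := by
  have h3 : IsSyl (T ⊓ K) K := hT.inf le_normalizer fun t ht => mem_normalizer_fintype fun k hk =>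
    (mem_normalizer_iff.mp (hT.le ht) k).mp hk
  obtain ⟨k, hk, h4⟩ := h3.exists_cj p.sylS
  have hm : k⁻¹ * y * k ∈ normalizer (K : Set G) :=
    mul_mem (mul_mem (le_normalizer (K.inv_mem hk)) (hT.le hy)) (le_normalizer hk)
  have h5 : ∀ s ∈ p.S, (k⁻¹ * y * k) * s = s * (k⁻¹ * y * k) := by
    intro s hs
    have h6 : k * s * k⁻¹ ∈ T ⊓ K := by
      rw [← h4]; exact mem_cj_mul hs
    have h7 := h _ h6.1 h6.2
    calc (k⁻¹ * y * k) * s = k⁻¹ * (y * (k * s * k⁻¹)) * k := by group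
      _ = k⁻¹ * ((k * s * k⁻¹) * y) * k := by rw [h7]
      _ = s * (k⁻¹ * y * k) := by group
  obtain ⟨c₀, hc₀, s, hs, h6⟩ := inner_of_act hm (Act.of_comm h5)
  have h7 := mem_centralizer_iff.mp hc₀ k hk
  have h8 : y = c₀ * (k * s * k⁻¹) := by
    calc y = k * (k⁻¹ * y * k) * k⁻¹ := by group
      _ = (k * c₀) * s * k⁻¹ := by rw [h6]; group
      _ = (c₀ * k) * s * k⁻¹ := by rw [h7]
      _ = c₀ * (k * s * k⁻¹) := by group
  have h9 : k * s * k⁻¹ ∈ T ⊓ K := by rw [← h4]; exact mem_cj_mul hs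
  refine ⟨c₀, hc₀, k * s * k⁻¹, h9.1, h9.2, ?_, h8⟩
  intro t ht htK
  have h10 := h t ht htK
  have h11 := mem_centralizer_iff.mp hc₀ t htK
  apply mul_left_cancel (a := c₀)
  calc c₀ * (t * (k * s * k⁻¹)) = (t * c₀) * (k * s * k⁻¹) := by rw [h11]; group
    _ = t * y := by rw [mul_assoc, ← h8]
    _ = y * t := h10
    _ = c₀ * (k * s * k⁻¹ * t) := by rw [h8]; group

end Par

end Cfsg.Agent.OddHalf.D4.U3.ParDefs
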