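import Cfsg.Agent.OddHalf.D4.U3.Fr
import Cfsg.Agent.OddHalf.D4.U3.Tau

/-!
# ODD, D4, row `K = U₃(q)`: the frame of `K`
-/

set_option autoImplicit false
set_option linter.dupNamespace false
set_option linter.unusedSectionVars false

namespace Cfsg.Agent.OddHalf.D4.U3.Fr

open Subgroup Cfsg.Agent.LieRecognition Cfsg.Agent.LieRecognition.HermHeis Cfsg.Agent.StdU3.URel
  Cfsg.Agent.StdU3.Field Cfsg.Agent.StdU3.Semi Cfsg.Agent.OddHalf.D4 Cfsg.Agent.OddHalf.D4.Basic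
  Cfsg.Agent.OddHalf.D4.U3.ParDefs
open Cfsg.Agent.OddHalf.D4.CommConj (Tight cj mem_cj cj_mul card_cj cj_eq_of_mem_normalizer
  mem_normalizer_of_cj_eq mem_cj_mul)

universe u v

variable {G : Type u} [Group G] {F : Type v} [Field F] [Fintype F] [CharP F 2] {σ : F →+* F}
  [hσ : Fact (∀ x, σ (σ x) = x)] {n : ℕ}

theorem nm_eq (hS : Sg σ n) (l : Fˣ) : nm σ l = N n (l : F) := by
  unfold nm
  rw [hS.eq]; rfl

theorem wt_eq (hS : Sg σ n) (l : Fˣ) : wt σ l = Cfsg.Agent.StdU3.PreDef.w n l := by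
  unfold wt Cfsg.Agent.StdU3.PreDef.w
  rw [hS.eq]

variable {K : Subgroup G} (p : Par K σ n)

/-- the `B`-invariant subgroups of `S` not in `Z` are `S` -/
theorem irr {T : Subgroup G} (hT : T ≤ p.S) (hB : ∀ b ∈ p.B, ∀ t ∈ T, b * t * b⁻¹ ∈ T) (hZ : ¬ T ≤ p.Z) :
    p.S ≤ T := by
  obtain ⟨t, ht, htZ⟩ := SetLike.not_le_iff_exists.mp hZ
  have hZT : p.Z ≤ T := by
    intro z hz
    obtain ⟨s', hs', h1⟩ := p.exists_comm_eq (hT ht) htZ hz
    rw [← h1]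
    have h2 := hB s' (p.S_le_B hs') _ (T.inv_mem ht)
    have e : t * s' * t⁻¹ * s'⁻¹ = t * (s' * t⁻¹ * s'⁻¹) := by group
    rw [e]
    exact T.mul_mem ht h2
  -- the coordinates of `T`
  let M : AddSubgroup F :=
    { carrier := {a | ∃ x : Heis σ, p.u x ∈ T ∧ x.a = a}
      zero_mem' := ⟨1, by rw [map_one]; exact T.one_mem, rfl⟩
      add_mem' := by
        rintro a b ⟨x, hx, rfl⟩ ⟨y, hy, rfl⟩
        exact ⟨x * y, by rw [map_mul]; exact T.mul_mem hx hy, rfl⟩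
      neg_mem' := by
        rintro a ⟨x, hx, rfl⟩
        refine ⟨x⁻¹, by rw [map_inv]; exact T.inv_mem hx, ?_⟩
        rw [inv_a, CharTwo.neg_eq] }
  have hM : ∀ l : Fˣ, ∀ m ∈ M, Cfsg.Agent.StdU3.PreDef.w n l * m ∈ M := by
    rintro l m ⟨x, hx, rfl⟩
    refine ⟨act l x, ?_, ?_⟩
    · rw [← p.d_u]
      exact hB _ (p.d_mem_B l) _ hx
    · rw [act_a, wt_eq p.hS]
  have hne : ∃ m ∈ M, m ≠ 0 := by
    obtain ⟨x, rfl⟩ := hT ht
    exact ⟨x.a, ⟨x, ht, rfl⟩, fun h0 => htZ (p.u_mem_Z h0)⟩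
  obtain ⟨m, hm, hm0⟩ := hne
  intro s hs
  obtain ⟨x, rfl⟩ := hs
  have h1 : x.a ∈ M := Cfsg.Agent.StdU3.Kernel.mem_of_closed p.hS.hq M hM hm hm0 x.a
  obtain ⟨y, hy, hya⟩ := h1
  have h2 : p.u (x * y⁻¹) ∈ p.Z := p.u_mem_Z (by rw [mul_a, inv_a, hya]; exact CharTwo.add_self_eq_zero _)
  have h3 : p.u x = p.u (x * y⁻¹) * p.u y := by rw [← map_mul]; congr 1; group
  rw [h3]
  exact T.mul_mem (hZT h2) hy

/-- the centralizer of `S` in `B` -/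
theorem centB {b : G} (hb : b ∈ p.B) (h : ∀ s ∈ p.S, b * s = s * b) : b ∈ p.Z := by
  obtain ⟨y, l, hbl⟩ := p.mem_B.mp hb
  -- `wt l = 1`
  obtain ⟨x, hx⟩ := exists_a p.hS (1 : F)
  have h1 := h _ (p.u_mem x)
  have h2 : p.u (y * act l x * y⁻¹) = p.u x := by
    rw [map_mul, map_mul, map_inv, ← p.d_u]
    have e : p.u y * (p.d l * p.u x * (p.d l)⁻¹) * (p.u y)⁻¹ = b * p.u x * b⁻¹ := by rw [hbl]; group
    rw [e, h1, mul_inv_cancel_right]
  have h3 := congrArg Heis.a (p.u_inj h2)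
  rw [mul_a, mul_a, inv_a, act_a, hx, mul_one] at h3
  have h4 : wt σ l = 1 := by
    have := CharTwo.add_self_eq_zero y.a
    linear_combination h3 - this
  have h5 : p.d l = 1 := by
    rw [Par.d_coe, p.R.d_one_of l h4]; rfl
  rw [h5, mul_one] at hbl
  apply p.mem_Z_of_comm
  · rw [hbl]; exact p.u_mem y
  · exact h

theorem fpf {s : G} (hs : s ∈ p.S) (h : ∀ x ∈ H0 p, x * s * x⁻¹ * s⁻¹ ∈ p.Z) : s ∈ p.Z := by
  obtain ⟨x, rfl⟩ := hs
  obtain ⟨l, hl, hl1⟩ := p.exists_h0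
  have h1 := h (p.d l) ⟨l, by rw [nm_eq p.hS, hl], rfl⟩
  rw [p.d_u, ← map_inv, ← map_mul, p.u_mem_Z_iff, mul_a, inv_a, act_a] at h1
  apply p.u_mem_Z
  have h2 : (wt σ l + 1) * x.a = 0 := by linear_combination h1
  rcases mul_eq_zero.mp h2 with h3 | h3
  · exact absurd (Cfsg.Agent.StdU3.Field.add_eq_zero.mp h3) hl1
  · exact h3

theorem simple (hK : IsSimpleGroup ↥K) {N : Subgroup G} (hN : N ≤ K) (h : ∀ k ∈ K, ∀ x ∈ N, k * x * k⁻¹ ∈ N) :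
    N = ⊥ ∨ N = K := by
  have hn : (N.subgroupOf K).Normal := by
    refine ⟨?_⟩
    intro x hx k
    rw [mem_subgroupOf] at hx ⊢
    exact h k k.2 _ hx
  rcases hn.eq_bot_or_eq_top with h1 | h1
  · left
    rw [subgroupOf_eq_bot] at h1
    rw [eq_bot_iff]
    exact le_trans (le_inf le_rfl hN) h1.le_bot
  · right
    rw [subgroupOf_eq_top] at h1
    exact le_antisymm hN h1

/-- **the frame of `K`** -/
theorem fr [Finite G] (X : Uni K σ n) : Fr K X.p.S X.p.Z X.p.B (H0 X.p) where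
  syl := X.p.sylS
  B_le := X.p.B_le
  Z_le := X.p.Z_le_S
  S_le := X.p.S_le_B
  H_le := by
    rintro x ⟨l, -, rfl⟩
    exact X.p.d_mem_B l
  norm b hb s hs := X.p.B_conj hb hs
  normZ b hb z hz := by
    apply X.p.mem_Z_of_sq (X.p.B_conj hb (X.p.Z_le_S hz))
    have e : b * z * b⁻¹ * (b * z * b⁻¹) = b * (z * z) * b⁻¹ := by group
    rw [e, X.p.Z_sq hz, mul_one, mul_inv_cancel]
  twoB b hb h2 := X.p.two_mem_S hb h2
  centB b hb h := centB X.p hb h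
  invol s hs h2 := X.p.mem_Z_of_sq hs (by rw [← sq, ← h2, pow_orderOf_eq_one])
  sq z hz := X.p.Z_sq hz
  commZ z hz s hs := X.p.Z_comm hz hs
  commH := by
    rintro z hz x ⟨l, hl, rfl⟩
    exact (X.p.d_comm_Z (by rw [← nm_eq X.p.hS, hl]) hz).symm
  ti g hg x hx hx1 h := X.p.mem_B_of hg hx hx1 h
  top D hD hS hB := X.p.eq_of_not_le X.sim hD hS hB
  simple N hN h := simple X.sim hN h
  full s hs hsZ z hz := X.p.exists_comm_eq hs hsZ hz
  gen s hs := by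
    obtain ⟨l, hl, hl1⟩ := X.p.exists_h0
    obtain ⟨s₁, h1, s₂, h2, s₃, h3, h⟩ := X.p.exists_comm_prod hl1 hs
    exact ⟨s₁, h1, X.p.d l, ⟨l, by rw [nm_eq X.p.hS, hl], rfl⟩, s₂, h2, s₃, h3, h⟩
  fpf s hs h := fpf X.p hs h
  irr T hT hB hZ := irr X.p hT hB hZ
  triv y hy h := X.p.triv hy h
  innerComm D hD x hx h2 := by
    obtain ⟨c, hc, s, hs, -, h⟩ := X.p.innerComm hD hx h2
    exact ⟨c, hc, s, hs, h⟩
  innerFour a ha b hb ha2 hb2 _ hab := by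
    obtain ⟨x, hx, c, hc, s, hs, -, h⟩ := X.p.innerFour ha hb ha2 hb2 hab
    exact ⟨x, hx, c, hc, s, hs, h⟩
  tight := X.tight
  std := X.std
  cen := X.cen
  core := X.core
  four := X.four

end Cfsg.Agent.OddHalf.D4.U3.Fr
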