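import Cfsg.Agent.OddHalf.D4.U3.StepB

/-!
# ODD, D4, row `K = U₃(q)`, piece O: `K ∩ C(L) ≠ 1`

`(K, L)` a full pair with `K ∩ C(L) ≠ 1`: then `S ≤ C(L)` for a Sylow 2-subgroup `S` of `K`, and the same with `K`
and `L` exchanged.
-/

set_option autoImplicit false

namespace Cfsg.Agent.OddHalf.D4.U3.StepC

open Subgroup Cfsg.Agent.OddHalf.D4 Cfsg.Agent.OddHalf.D4.Basic Cfsg.Agent.OddHalf.D4.U3.Fr
  Cfsg.Agent.OddHalf.D4.U3.StepA Cfsg.Agent.OddHalf.D4.U3.StepB
open Cfsg.Agent.OddHalf.D4.CommConj (Tight cj mem_cj cj_mul card_cj cj_eq_of_mem_normalizer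
  mem_normalizer_of_cj_eq mem_cj_mul)

section Frame

variable {G : Type*} [Group G] {K L Q U S Z B H S' Z' B' H' : Subgroup G}

/-- `N = K ∩ C(L)` meets `S` -/
theorem exists_ne (f : Fr K S Z B H) (hS : S ≤ normalizer (L : Set G)) (hB : K ⊓ normalizer (L : Set G) ≤ B)
    (hNn : ∀ m ∈ normalizer (L : Set G), ∀ c ∈ centralizer (L : Set G), m * c * m⁻¹ ∈ centralizer (L : Set G))
    (hCN : centralizer (L : Set G) ≤ normalizer (L : Set G))
    (hN : K ⊓ centralizer (L : Set G) ≠ ⊥) : ∃ y ∈ S, y ∈ centralizer (L : Set G) ∧ y ≠ 1 := by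
  have hSK : S ≤ K := f.syl.le
  obtain ⟨x, hx, hx1⟩ : ∃ x ∈ K ⊓ centralizer (L : Set G), x ≠ 1 := by
    by_contra h
    push Not at h
    exact hN (eq_bot_iff.mpr fun x hx => by rw [mem_bot]; exact h x hx)
  have hxB : x ∈ B := hB ⟨hx.1, hCN hx.2⟩
  by_contra hno
  push Not at hno
  have h1 : ∀ s ∈ S, x * s = s * x := by
    intro s hs
    have h2 : x * s * x⁻¹ * s⁻¹ ∈ S := S.mul_mem (f.norm x hxB s hs) (S.inv_mem hs)
    have h3 : x * s * x⁻¹ * s⁻¹ ∈ centralizer (L : Set G) := by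
      have e : x * s * x⁻¹ * s⁻¹ = x * (s * x⁻¹ * s⁻¹) := by group
      rw [e]
      exact mul_mem hx.2 (hNn s (hS hs) _ (inv_mem hx.2))
    have h4 := hno _ h2 h3
    have e : x * s = (x * s * x⁻¹ * s⁻¹) * (s * x) := by group
    rw [e, h4, one_mul]
  exact hx1 (hno x (f.Z_le (f.centB x hxB h1)) hx.2)

/-- an involution of `S ∩ C(L)` -/
theorem exists_inv [Finite G] (f : Fr K S Z B H) (hT : TightAt L) (hS : S ≤ normalizer (L : Set G))
    (hB : K ⊓ normalizer (L : Set G) ≤ B) (hN : K ⊓ centralizer (L : Set G) ≠ ⊥) :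
    ∃ y ∈ Z, y ∈ centralizer (L : Set G) ∧ orderOf y = 2 := by
  obtain ⟨y, hy, hyL, hy1⟩ := exists_ne f hS hB hT.norm hT.le hN
  obtain ⟨v, hv, hv2⟩ := exists_invol_of_two (H := zpowers y) (isPGroup_zpowers (el_of_mem f.syl.two hy))
    (by rwa [Ne, zpowers_eq_bot])
  obtain ⟨m, rfl⟩ := mem_zpowers_iff.mp hv
  exact ⟨_, f.invol _ (S.zpow_mem hy m) hv2, (centralizer (L : Set G)).zpow_mem hyL m, hv2⟩

/-- **piece O, one side** -/
theorem half [Finite G] (f : Fr K S Z B H) (fL : Fr L S' Z' B' H') (hF : FullPair K L Q U)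
    (hS : S ≤ normalizer (L : Set G)) (hH : H ≤ normalizer (L : Set G))
    (hB : K ⊓ normalizer (L : Set G) ≤ B)
    (hz : ∃ y ∈ Z, y ∈ centralizer (L : Set G) ∧ orderOf y = 2)
    (hz' : ∃ y ∈ L, y ∈ centralizer (K : Set G) ∧ orderOf y = 2) : S ≤ centralizer (L : Set G) := by
  have hTL := hF.tightL f.tight
  have hSK : S ≤ K := f.syl.le
  have hHK : H ≤ K := f.H_le.trans f.B_le
  obtain ⟨z0, hz0, hz0L, hz02⟩ := hz
  obtain ⟨z1, hz1, hz1K, hz12⟩ := hz'
  have hz0K : z0 ∈ K := hSK (f.Z_le hz0)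
  -- `C(K) ≤ N(L)`, `C(L) ≤ N(K)`
  have hCN : centralizer (K : Set G) ≤ normalizer (L : Set G) := fun c hc =>
    hTL.mem hz0L hz02 (commute_cent hz0K hc).symm
  have hJN : centralizer (L : Set G) ≤ normalizer (K : Set G) := fun c hc =>
    f.tight.mem hz1K hz12 (commute_cent hz1 hc).symm
  -- `C(K) ∩ C(L) = 1`
  have hCJ : centralizer (K : Set G) ⊓ centralizer (L : Set G) = ⊥ := by
    apply f.core _ inf_le_left
    · intro x hx o ho
      exact ⟨(centralizer (K : Set G)).mul_mem ((centralizer (K : Set G)).mul_mem hx ho.1)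
        ((centralizer (K : Set G)).inv_mem hx), hTL.norm x (hCN hx) o ho.2⟩
    · exact odd_of_forall fun u hu => hF.noInv f.tight hu.1 hu.2
  -- `C(L)` normalises `S`
  have hJS : ∀ j ∈ centralizer (L : Set G), ∀ s ∈ S, j * s * j⁻¹ ∈ S := by
    intro j hj
    have hjK := hJN hj
    have hKj : ∀ k ∈ K, j * k * j⁻¹ ∈ K := fun k hk => (mem_normalizer_iff.mp hjK k).mp hk
    have hx : j * z0 * j⁻¹ ∈ S := by
      apply f.twoB
      · exact hB ⟨hKj _ hz0K, hTL.le ((centralizer (L : Set G)).mul_mem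
          ((centralizer (L : Set G)).mul_mem hj hz0L) ((centralizer (L : Set G)).inv_mem hj))⟩
      · refine ⟨1, ?_⟩
        have h1 : orderOf (j * z0 * j⁻¹) = 2 := by rw [Basic.orderOf_conj]; exact hz02
        rw [pow_one, ← h1, pow_orderOf_eq_one]
    obtain ⟨k, hk, hkS⟩ := f.syl.conj_into (Q := cj j S) (f.syl.two.map _) (by
      rintro _ ⟨s, hs, rfl⟩
      exact hKj s (hSK hs))
    have hkB : k ∈ B := by
      apply f.ti k hk _ hx
      · intro h
        have h1 : orderOf (j * z0 * j⁻¹) = 2 := by rw [Basic.orderOf_conj]; exact hz02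
        exact ne_one_of_order h1 h
      · exact hkS _ (mem_cj_mul (f.Z_le hz0))
    intro s hs
    have h1 := f.norm k⁻¹ (B.inv_mem hkB) _ (hkS _ (mem_cj_mul (g := j) hs))
    have e : k⁻¹ * (k * (j * s * j⁻¹) * k⁻¹) * k⁻¹⁻¹ = j * s * j⁻¹ := by group
    rwa [e] at h1
  -- `[S, C(L)] ≤ S ∩ C(L)`, `[H, C(L)] ≤ C(L)`
  have hSJ : ∀ x ∈ normalizer (L : Set G), ∀ j ∈ centralizer (L : Set G),
      x * j * x⁻¹ * j⁻¹ ∈ centralizer (L : Set G) := fun x hx j hj =>
    mul_mem (hTL.norm x hx j hj) (inv_mem hj)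
  by_cases hle : S ⊓ centralizer (L : Set G) ≤ Z
  · exfalso
    have hdec : ∀ j ∈ centralizer (L : Set G), ∃ c ∈ centralizer (K : Set G), ∃ z ∈ Z, j = c * z := by
      intro j hj
      obtain ⟨c, hc, s, hs, rfl⟩ := f.triv j (hJN hj) (by
        intro s hs
        refine ⟨s⁻¹ * (j * s * j⁻¹), ?_, by group⟩
        apply hle
        refine ⟨S.mul_mem (S.inv_mem hs) (hJS j hj s hs), ?_⟩
        have e : s⁻¹ * (j * s * j⁻¹) = s⁻¹ * j * s⁻¹⁻¹ * j⁻¹ := by group
        rw [e]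
        exact hSJ _ (inv_mem (hS hs)) j hj)
      refine ⟨c, hc, s, ?_, rfl⟩
      apply f.fpf s hs
      intro h hh
      have hcomm := commute_cent (hHK hh) hc
      have hhs : h * s * h⁻¹ * s⁻¹ ∈ S := S.mul_mem (f.norm h (f.H_le hh) s hs) (S.inv_mem hs)
      apply hle
      refine ⟨hhs, ?_⟩
      have h1 := hSJ h (hH hh) _ hj
      have h2 := commute_cent (hSK hhs) hc
      have e : h * (c * s) * h⁻¹ * (c * s)⁻¹ = h * s * h⁻¹ * s⁻¹ := by
        calc h * (c * s) * h⁻¹ * (c * s)⁻¹ = (h * c) * s * h⁻¹ * s⁻¹ * c⁻¹ := by group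
          _ = (c * h) * s * h⁻¹ * s⁻¹ * c⁻¹ := by rw [hcomm]
          _ = (c * (h * s * h⁻¹ * s⁻¹)) * c⁻¹ := by group
          _ = ((h * s * h⁻¹ * s⁻¹) * c) * c⁻¹ := by rw [h2]
          _ = h * s * h⁻¹ * s⁻¹ := by group
      rwa [e] at h1
    have hsq : ∀ j ∈ centralizer (L : Set G), j * j = 1 := by
      intro j hj
      obtain ⟨c, hc, z, hz, hjcz⟩ := hdec j hj
      have h1 := commute_cent (hSK (f.Z_le hz)) hc
      have h2 : j * j = c * c := by
        calc j * j = c * z * (c * z) := by rw [hjcz]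
          _ = c * (z * c) * z := by group
          _ = c * (c * z) * z := by rw [h1]
          _ = c * c * (z * z) := by group
          _ = c * c := by rw [f.sq z hz, mul_one]
      have h3 : j * j ∈ centralizer (K : Set G) ⊓ centralizer (L : Set G) :=
        ⟨by rw [h2]; exact mul_mem hc hc, mul_mem hj hj⟩
      rwa [hCJ, mem_bot] at h3
    have hcomm : ∀ a ∈ centralizer (L : Set G), ∀ b ∈ centralizer (L : Set G), a * b = b * a := by
      intro a ha b hb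
      have h1 := hsq _ (mul_mem ha hb)
      have h2 : a⁻¹ = a := inv_eq_of_mul_eq_one_right (hsq a ha)
      have h3 : b⁻¹ = b := inv_eq_of_mul_eq_one_right (hsq b hb)
      calc a * b = (a * b)⁻¹ := (inv_eq_of_mul_eq_one_right h1).symm
        _ = b * a := by rw [mul_inv_rev, h2, h3]
    have hHJ : ∀ h ∈ H, ∀ a ∈ centralizer (L : Set G), h * a = a * h := by
      intro h hh a ha
      obtain ⟨c, hc, z, hz, rfl⟩ := hdec a ha
      have h1 := commute_cent (hHK hh) hc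
      have h2 := f.commH z hz h hh
      calc h * (c * z) = (h * c) * z := by group
        _ = c * (h * z) := by rw [h1]; group
        _ = c * z * h := by rw [← h2]; group
    have hSL : S ≤ L := le_of_gen f hH le_rfl hcomm hHJ fun s hs => inner_S f fL hS hH hs
    have h1 := fL.cen z0 (hSL (f.Z_le hz0)) hz0L
    exact ne_one_of_order hz02 h1
  · -- the case `S ∩ C(L) ≰ Z`
    obtain ⟨t, ht, htZ⟩ := SetLike.not_le_iff_exists.mp hle
    have hZL : Z ≤ centralizer (L : Set G) := by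
      intro z hz
      obtain ⟨s, hs, rfl⟩ := f.full t ht.1 htZ z hz
      have e : t * s * t⁻¹ * s⁻¹ = t * (s * t⁻¹ * s⁻¹) := by group
      rw [e]
      exact mul_mem ht.2 (hTL.norm s (hS hs) _ (inv_mem ht.2))
    have hBL : B ≤ normalizer (L : Set G) := fun b hb =>
      hTL.tight b z0 hz0L hz02 (hZL (f.normZ b hb z0 hz0))
    have h1 : S ≤ S ⊓ centralizer (L : Set G) := by
      apply f.irr _ inf_le_left _ hle
      intro b hb x hx
      exact ⟨f.norm b hb x hx.1, hTL.norm b (hBL hb) x hx.2⟩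
    exact h1.trans inf_le_right

/-- an involution of `K ∩ C(L)`, general position -/
theorem exists_inv' [Finite G] (f : Fr K S Z B H) (hT : TightAt L) {k : G} (hk : k ∈ K)
    (hS : cj k S ≤ normalizer (L : Set G)) (hB : K ⊓ normalizer (L : Set G) ≤ cj k B)
    (hN : K ⊓ centralizer (L : Set G) ≠ ⊥) : ∃ y ∈ K, y ∈ centralizer (L : Set G) ∧ orderOf y = 2 := by
  have hKk : cj k⁻¹ K = K := cj_eq_of_mem_normalizer (le_normalizer (inv_mem hk))
  have hT' : TightAt (cj k⁻¹ L) := hT.cj k⁻¹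
  obtain ⟨y, hy, hyL, hy2⟩ := exists_inv (L := cj k⁻¹ L) f hT' (by
      rw [normalizer_cj, ← cj_inv_cj k S]
      exact map_mono hS) (by
      rw [normalizer_cj]
      rintro x ⟨hx, hxL⟩
      have h1 : k * x * k⁻¹ ∈ K ⊓ normalizer (L : Set G) := by
        refine ⟨K.mul_mem (K.mul_mem hk hx) (K.inv_mem hk), ?_⟩
        have h2 := mem_cj.mp hxL
        rwa [inv_inv] at h2
      have h2 := mem_cj.mp (hB h1)
      have e : k⁻¹ * (k * x * k⁻¹) * k = x := by group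
      rwa [e] at h2) (by
      intro h0
      apply hN
      rw [eq_bot_iff]
      rintro x ⟨hx, hxL⟩
      have h1 : k⁻¹ * x * k ∈ K ⊓ centralizer ((cj k⁻¹ L : Subgroup G) : Set G) := by
        refine mem_inf.mpr ⟨K.mul_mem (K.mul_mem (K.inv_mem hk) hx) hk, ?_⟩
        rw [centralizer_cj, mem_cj, inv_inv]
        have e : k * (k⁻¹ * x * k) * k⁻¹ = x := by group
        rwa [e]
      rw [h0, mem_bot] at h1
      rw [mem_bot]
      have e : x = k * (k⁻¹ * x * k) * k⁻¹ := by group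
      rw [e, h1]; group)
  refine ⟨k * y * k⁻¹, K.mul_mem (K.mul_mem hk (f.syl.le (f.Z_le hy))) (K.inv_mem hk), ?_, ?_⟩
  · rw [centralizer_cj, mem_cj, inv_inv] at hyL
    exact hyL
  · rw [Basic.orderOf_conj]; exact hy2

/-- **piece O, one side**, without involutions -/
theorem half_of_ne [Finite G] (f : Fr K S Z B H) (fL : Fr L S' Z' B' H') (hF : FullPair K L Q U)
    (hS : S ≤ normalizer (L : Set G)) (hH : H ≤ normalizer (L : Set G))
    (hB : K ⊓ normalizer (L : Set G) ≤ B) (hN : K ⊓ centralizer (L : Set G) ≠ ⊥)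
    (hN' : L ⊓ centralizer (K : Set G) ≠ ⊥) : S ≤ centralizer (L : Set G) := by
  obtain ⟨l, hl, h1, -, h3⟩ := stepA fL hF.symm
  exact half f fL hF hS hH hB (exists_inv f (hF.tightL f.tight) hS hB hN) (exists_inv' fL f.tight hl h1 h3 hN')

/-- `L ∩ C(K) ≠ 1` -/
theorem ne_bot [Finite G] (f : Fr K S Z B H) (fL : Fr L S' Z' B' H') (hF : FullPair K L Q U)
    (hc : Nat.card S = Nat.card S') (hB : K ⊓ normalizer (L : Set G) ≤ B)
    (hS' : S' ≤ normalizer (K : Set G)) (hH' : H' ≤ normalizer (K : Set G))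
    (hz : ∃ y ∈ Z, y ∈ centralizer (L : Set G) ∧ orderOf y = 2) : L ⊓ centralizer (K : Set G) ≠ ⊥ := by
  intro h0
  obtain ⟨z0, hz0, hz0L, hz02⟩ := hz
  have hSK' : S' ≤ K := (stepB fL f hF.symm hS' hH' h0).1
  have hle : S' ≤ S := by
    intro s hs
    exact f.twoB s (hB ⟨hSK' hs, le_normalizer (fL.syl.le hs)⟩) (el_of_mem fL.syl.two hs)
  have heq : S' = S := Subgroup.eq_of_le_of_card_ge hle hc.le
  have h1 := fL.cen z0 (fL.syl.le (by rw [heq]; exact f.Z_le hz0)) hz0L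
  exact ne_one_of_order hz02 h1

/-- **piece O over the frames** -/
theorem stepC_fr [Finite G] (f : Fr K S Z B H) (fL : Fr L S' Z' B' H') (hF : FullPair K L Q U)
    (hc : Nat.card S = Nat.card S')
    (hS : S ≤ normalizer (L : Set G)) (hH : H ≤ normalizer (L : Set G)) (hB : K ⊓ normalizer (L : Set G) ≤ B)
    (hS' : S' ≤ normalizer (K : Set G)) (hH' : H' ≤ normalizer (K : Set G))
    (hB' : L ⊓ normalizer (K : Set G) ≤ B') (hN : K ⊓ centralizer (L : Set G) ≠ ⊥) :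
    S ≤ centralizer (L : Set G) ∧ S' ≤ centralizer (K : Set G) := by
  have hz := exists_inv f (hF.tightL f.tight) hS hB hN
  have hN' := ne_bot f fL hF hc hB hS' hH' hz
  have hz' := exists_inv fL f.tight hS' hB' hN'
  obtain ⟨y, hy, hyL, hy2⟩ := hz
  obtain ⟨y', hy', hyL', hy2'⟩ := hz'
  exact ⟨half f fL hF hS hH hB ⟨y, hy, hyL, hy2⟩ ⟨y', fL.syl.le (fL.Z_le hy'), hyL', hy2'⟩,
    half fL f hF.symm hS' hH' hB' ⟨y', hy', hyL', hy2'⟩ ⟨y, f.syl.le (f.Z_le hy), hyL, hy2⟩⟩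

end Frame

/-! ### The form of the plan -/

section Uni

open Cfsg.Agent.LieRecognition Cfsg.Agent.LieRecognition.HermHeis Cfsg.Agent.StdU3.Semi
  Cfsg.Agent.OddHalf.D4.U3.ParDefs

universe u v

variable {G : Type u} [Group G] {F : Type v} [Field F] [Fintype F] [CharP F 2] {σ : F →+* F}
  [hσ : Fact (∀ x, σ (σ x) = x)] {n : ℕ}

/-- **piece O**, given the instance of the frame -/
theorem stepC_of [Finite G] (fr : ∀ (K : Subgroup G) (X : Uni K σ n), Fr K X.p.S X.p.Z X.p.B (H0 X.p))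
    {K L Q U : Subgroup G} (X : Uni K σ n) (hF : FullPair K L Q U)
    (hN : K ⊓ centralizer (L : Set G) ≠ ⊥) {g : G} (hg : L = cj g K) :
    ∃ k ∈ K, ∃ l ∈ L, cj k X.p.S ≤ centralizer (L : Set G) ∧ cj (l * g) X.p.S ≤ centralizer (K : Set G) := by
  subst hg
  obtain ⟨k, hk, h1, h2, h3⟩ := stepA (fr K X) hF
  obtain ⟨l, hl, h1', h2', h3'⟩ := stepA (fr _ (uconj X g)) hF.symm
  have f1 := fr K (uinn X ⟨k, hk⟩)
  have f2 := fr _ (uinn (uconj X g) ⟨l, hl⟩)
  have e1 : (uinn X ⟨k, hk⟩).p.S = cj k X.p.S := inn_S X.p ⟨k, hk⟩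
  have e2 : H0 (uinn X ⟨k, hk⟩).p = cj k (H0 X.p) := inn_H0 X.p ⟨k, hk⟩
  have e3 : (uinn X ⟨k, hk⟩).p.B = cj k X.p.B := inn_B X.p ⟨k, hk⟩
  have e1' : (uinn (uconj X g) ⟨l, hl⟩).p.S = cj l (uconj X g).p.S := inn_S (uconj X g).p ⟨l, hl⟩
  have e2' : H0 (uinn (uconj X g) ⟨l, hl⟩).p = cj l (H0 (uconj X g).p) := inn_H0 (uconj X g).p ⟨l, hl⟩
  have e3' : (uinn (uconj X g) ⟨l, hl⟩).p.B = cj l (uconj X g).p.B := inn_B (uconj X g).p ⟨l, hl⟩
  have e4 : (uconj X g).p.S = cj g X.p.S := Par.conj_S X.p g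
  rw [e1, e2, e3] at f1
  rw [e1', e2', e3'] at f2
  have hc : Nat.card ↥(cj k X.p.S) = Nat.card ↥(cj l (uconj X g).p.S) := by
    rw [card_cj, card_cj, e4, card_cj]
  have h := stepC_fr f1 f2 hF hc h1 h2 h3 h1' h2' h3' hN
  refine ⟨k, hk, l, hl, h.1, ?_⟩
  rw [cj_mul, ← e4]
  exact h.2

end Uni

end Cfsg.Agent.OddHalf.D4.U3.StepC
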