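import Cfsg.Agent.OddHalf.D4.U3.Common
import Cfsg.Agent.OddHalf.D4.U3.FrInst
import Cfsg.Agent.OddHalf.D4.U3.StepC

/-!
# ODD, D4, row `K = U₃(q)`: piece S in the form of piece T (`TBase.TD.pair`, `TD.sq`)

The only hypothesis left is the digon `hdig`.
-/

set_option autoImplicit false
set_option linter.dupNamespace false

namespace Cfsg.Agent.OddHalf.D4.U3.CommonTD

open Subgroup Cfsg.Agent.LieRecognition Cfsg.Agent.LieRecognition.HermHeis Cfsg.Agent.OddHalf.D4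
  Cfsg.Agent.OddHalf.D4.Basic Cfsg.Agent.OddHalf.D4.U3.Fr Cfsg.Agent.OddHalf.D4.U3.ParDefs
  Cfsg.Agent.OddHalf.D4.U3.Common
open Cfsg.Agent.OddHalf.D4.CommConj (Tight cj mem_cj cj_mul card_cj cj_eq_of_mem_normalizer
  mem_normalizer_of_cj_eq mem_cj_mul)

universe u v

variable {G : Type u} [Group G] {F : Type v} [Field F] [Fintype F] [CharP F 2] {σ : F →+* F}
  [hσ : Fact (∀ x, σ (σ x) = x)] {n : ℕ}

/-- **Piece S** from the digon. -/
theorem pair_common_of [Finite G] {K Q : Subgroup G} (X : Uni K σ n)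
    (hdig : ∀ (Y : Uni K σ n) (g : G), g ∉ normalizer (K : Set G) →
      Y.p.S ≤ centralizer ((cj g K : Subgroup G) : Set G) → cj g Y.p.S ≤ centralizer (K : Set G) → False)
    {x : G} (hQ : IsSyl Q (centralizer (K : Set G))) (hx : x ∉ normalizer (K : Set G))
    (hc : ∀ r ∈ Q, ∀ u ∈ cj x Q, r * u = u * r) :
    ∃ k ∈ K, ∃ y, y ∉ normalizer (K : Set G) ∧ cj y K = cj x K ∧ cj y (cj k X.p.S) = cj k X.p.S ∧
      cj y Q = cj x Q ∧ (∀ u ∈ cj x Q, ∃ r ∈ Q, ∃ z ∈ cj k X.p.Z, u = r * z) ∧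
      (∀ r ∈ Q, ∃ z ∈ cj k X.p.Z, r * z ∈ cj x Q) ∧ ∀ r ∈ Q, r * r = 1 :=
  Common.pair_common_of X (fun Y => fr Y)
    (fun f fL hF hS hH hB hN hN' => StepC.half_of_ne f fL hF hS hH hB hN hN') hdig hQ hx hc

/-- the field `TBase.TD.pair` of piece T -/
theorem td_pair_of [Finite G] {K Q : Subgroup G} (X : Uni K σ n)
    (hdig : ∀ (Y : Uni K σ n) (g : G), g ∉ normalizer (K : Set G) →
      Y.p.S ≤ centralizer ((cj g K : Subgroup G) : Set G) → cj g Y.p.S ≤ centralizer (K : Set G) → False)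
    (hQ : IsSyl Q (centralizer (K : Set G))) (x : G) (hx : x ∉ normalizer (K : Set G))
    (hc : ∀ r ∈ Q, ∀ w ∈ cj x Q, r * w = w * r) :
    ∃ k ∈ normalizer (K : Set G), ∃ y, y ∉ normalizer (K : Set G) ∧ cj y Q = cj x Q ∧
      cj y (cj k X.p.u.range) = cj k X.p.u.range ∧
      ∀ r ∈ Q, ∃ z : Heis σ, z.a = 0 ∧ r * (k * X.p.u z * k⁻¹) ∈ cj x Q := by
  obtain ⟨k, hk, y, hy, -, hS, hyQ, -, h2, -⟩ := pair_common_of X hdig hQ hx hc
  refine ⟨k, le_normalizer hk, y, hy, hyQ, hS, fun r hr => ?_⟩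
  obtain ⟨z, hz, h3⟩ := h2 r hr
  rw [mem_cj] at hz
  obtain ⟨z', hz', e⟩ := hz
  refine ⟨z', hz', ?_⟩
  have e2 : k * X.p.u z' * k⁻¹ = z := by rw [← e]; group
  rwa [e2]

/-- the field `TBase.TD.sq` of piece T -/
theorem td_sq_of [Finite G] {K Q : Subgroup G} (X : Uni K σ n)
    (hdig : ∀ (Y : Uni K σ n) (g : G), g ∉ normalizer (K : Set G) →
      Y.p.S ≤ centralizer ((cj g K : Subgroup G) : Set G) → cj g Y.p.S ≤ centralizer (K : Set G) → False)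
    {x : G} (hQ : IsSyl Q (centralizer (K : Set G))) (hx : x ∉ normalizer (K : Set G))
    (hc : ∀ r ∈ Q, ∀ w ∈ cj x Q, r * w = w * r) : ∀ r ∈ Q, r * r = 1 := by
  obtain ⟨k, -, y, -, -, -, -, -, -, h⟩ := pair_common_of X hdig hQ hx hc
  exact h

/-- the conjugating element of a full pair, with `U = cj x Q` -/
theorem exists_x [Finite G] {K L Q U : Subgroup G} (hF : FullPair K L Q U) :
    ∃ x, x ∉ normalizer (K : Set G) ∧ cj x K = L ∧ cj x Q = U ∧ ∀ r ∈ Q, ∀ w ∈ cj x Q, r * w = w * r := by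
  obtain ⟨⟨g, hg, rfl⟩, hQ, hU, hc⟩ := hF
  have h1 : IsSyl (cj g Q) (centralizer ((cj g K : Subgroup G) : Set G)) := by
    rw [centralizer_cj]; exact hQ.cj g
  obtain ⟨j, hj, e⟩ := exists_cj_eq h1 hU.two hU.le (card_le_of_syl hU h1.two h1.le)
  have hj' : cj j (cj g K) = cj g K := cj_eq_of_mem_normalizer (cent_le_norm _ hj)
  refine ⟨j * g, fun h => hg ?_, by rw [cj_mul, hj'], by rw [cj_mul, e], ?_⟩
  · apply mem_normalizer_of_cj_eq
    rw [← hj', ← cj_mul]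
    exact cj_eq_of_mem_normalizer h
  · rw [cj_mul, e]; exact hc

end Cfsg.Agent.OddHalf.D4.U3.CommonTD
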