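import Cfsg.Agent.StdU3.Kernel
import Cfsg.Agent.StdU3.FieldAut
import Cfsg.Agent.OddHalf.D4.Basic
import Cfsg.Agent.OddHalf.D4.CommConj

/-!
# ODD, D4, row `K = U₃(q)`, `q = 2 ^ n ≥ 4`: the abstract half, definitions

`F = F_{q²}`, `bar`, `N`, `Tr` from `StdU3.Field`. `Chart`: a 2-group `P` with coordinates `a ∈ F`, `c ∈ F_q`,
`f ∈ Φ ≤ F_q` and centre `Z = {z b}`, `b ∈ F_q`. `Dat`: the chart, `Q`, the torus `h` and what half 1 proves about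
the normalizers of `V = Q Z` and `S`.
-/

set_option autoImplicit false

namespace Cfsg.Agent.OddHalf.D4.U3.Defs

open Subgroup Cfsg.Agent.StdU3.Field Cfsg.Agent.StdU3.PreDef Cfsg.Agent.OddHalf.D4.CommConj
  Cfsg.Agent.OddHalf.D4.Basic

universe u v

/-- A 2-group with coordinates `(a, c, f)`, `x² = z (N a + κ c + c f)`,
`[x, y] = z (Tr (a ā') + c f' + c' f)`. -/
structure Chart (G : Type u) [Group G] (F : Type v) [Field F] [Fintype F] [CharP F 2] (n : ℕ) where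
  hq : Qd F n
  P : Subgroup G
  two : IsPGroup 2 ↥P
  a : G → F
  c : G → F
  f : G → F
  z : F → G
  kap : F
  Phi : AddSubgroup F
  one_mem : (1 : F) ∈ Phi
  four : 4 ≤ Nat.card Phi
  fix_Phi : ∀ x ∈ Phi, bar n x = x
  fix_kap : bar n kap = kap
  a_mul : ∀ x ∈ P, ∀ y ∈ P, a (x * y) = a x + a y
  c_mul : ∀ x ∈ P, ∀ y ∈ P, c (x * y) = c x + c y
  f_mul : ∀ x ∈ P, ∀ y ∈ P, f (x * y) = f x + f y
  fix_c : ∀ x ∈ P, bar n (c x) = c x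
  f_mem : ∀ x ∈ P, f x ∈ Phi
  surj : ∀ α γ φ : F, bar n γ = γ → φ ∈ Phi → ∃ x ∈ P, a x = α ∧ c x = γ ∧ f x = φ
  z_mem : ∀ b, bar n b = b → z b ∈ P
  z_add : ∀ b b', bar n b = b → bar n b' = b' → z (b + b') = z b * z b'
  z_inj : ∀ b, bar n b = b → z b = 1 → b = 0
  a_z : ∀ b, bar n b = b → a (z b) = 0
  c_z : ∀ b, bar n b = b → c (z b) = 0
  f_z : ∀ b, bar n b = b → f (z b) = 0
  ker : ∀ x ∈ P, a x = 0 → c x = 0 → f x = 0 → ∃ b, bar n b = b ∧ x = z b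
  sq : ∀ x ∈ P, x * x = z (N n (a x) + kap * c x + c x * f x)
  comm : ∀ x ∈ P, ∀ y ∈ P, x * y = z (Tr n (a x * bar n (a y)) + (c x * f y + c y * f x)) * (y * x)

section

variable {G : Type u} [Group G] {F : Type v} [Field F] [Fintype F] [CharP F 2] {n : ℕ}

namespace Chart

variable (D : Chart G F n)

theorem a_one : D.a 1 = 0 := by
  have h := D.a_mul 1 D.P.one_mem 1 D.P.one_mem
  rw [mul_one] at h
  exact left_eq_add.mp h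

theorem c_one : D.c 1 = 0 := by
  have h := D.c_mul 1 D.P.one_mem 1 D.P.one_mem
  rw [mul_one] at h
  exact left_eq_add.mp h

theorem f_one : D.f 1 = 0 := by
  have h := D.f_mul 1 D.P.one_mem 1 D.P.one_mem
  rw [mul_one] at h
  exact left_eq_add.mp h

theorem a_inv {x : G} (hx : x ∈ D.P) : D.a x⁻¹ = D.a x := by
  have h := D.a_mul x hx x⁻¹ (D.P.inv_mem hx)
  rw [mul_inv_cancel, D.a_one] at h
  exact (Cfsg.Agent.StdU3.Field.add_eq_zero.mp h.symm).symm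

theorem c_inv {x : G} (hx : x ∈ D.P) : D.c x⁻¹ = D.c x := by
  have h := D.c_mul x hx x⁻¹ (D.P.inv_mem hx)
  rw [mul_inv_cancel, D.c_one] at h
  exact (Cfsg.Agent.StdU3.Field.add_eq_zero.mp h.symm).symm

theorem f_inv {x : G} (hx : x ∈ D.P) : D.f x⁻¹ = D.f x := by
  have h := D.f_mul x hx x⁻¹ (D.P.inv_mem hx)
  rw [mul_inv_cancel, D.f_one] at h
  exact (Cfsg.Agent.StdU3.Field.add_eq_zero.mp h.symm).symm

theorem z_zero : D.z 0 = 1 := by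
  have h := D.z_add 0 0 (bar_zero n) (bar_zero n)
  rw [add_zero] at h
  exact left_eq_mul.mp h

/-- the centre `Z = {z b}` of `P` -/
def Z : Subgroup G where
  carrier := {x | ∃ b, bar n b = b ∧ x = D.z b}
  one_mem' := ⟨0, bar_zero n, D.z_zero.symm⟩
  mul_mem' := by
    rintro x y ⟨b, hb, rfl⟩ ⟨b', hb', rfl⟩
    exact ⟨b + b', fixed_add hb hb', (D.z_add b b' hb hb').symm⟩
  inv_mem' := by
    rintro x ⟨b, hb, rfl⟩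
    refine ⟨b, hb, ?_⟩
    rw [inv_eq_iff_mul_eq_one, ← D.z_add b b hb hb, Cfsg.Agent.StdU3.Field.add_self, D.z_zero]

theorem mem_Z {x : G} : x ∈ D.Z ↔ ∃ b, bar n b = b ∧ x = D.z b := Iff.rfl

/-- a subgroup of `P` from a condition on the coordinates -/
def sub (p : F → F → F → Prop) (h0 : p 0 0 0)
    (hadd : ∀ α γ φ α' γ' φ', p α γ φ → p α' γ' φ' → p (α + α') (γ + γ') (φ + φ')) : Subgroup G where
  carrier := {x | x ∈ D.P ∧ p (D.a x) (D.c x) (D.f x)}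
  one_mem' := ⟨D.P.one_mem, by rw [D.a_one, D.c_one, D.f_one]; exact h0⟩
  mul_mem' := by
    rintro x y ⟨hx, hpx⟩ ⟨hy, hpy⟩
    refine ⟨D.P.mul_mem hx hy, ?_⟩
    rw [D.a_mul x hx y hy, D.c_mul x hx y hy, D.f_mul x hx y hy]
    exact hadd _ _ _ _ _ _ hpx hpy
  inv_mem' := by
    rintro x ⟨hx, hpx⟩
    refine ⟨D.P.inv_mem hx, ?_⟩
    rw [D.a_inv hx, D.c_inv hx, D.f_inv hx]
    exact hpx

/-- `S = {c = f = 0}`, a Sylow subgroup of `U₃(q)` -/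
def S : Subgroup G := D.sub (fun _ γ φ => γ = 0 ∧ φ = 0) ⟨rfl, rfl⟩ (by
  rintro α γ φ α' γ' φ' ⟨rfl, rfl⟩ ⟨rfl, rfl⟩; exact ⟨add_zero 0, add_zero 0⟩)

/-- `T₁ = {a = 0}` -/
def T1 : Subgroup G := D.sub (fun α _ _ => α = 0) rfl (by
  rintro α γ φ α' γ' φ' rfl rfl; exact add_zero 0)

/-- `E = {a = f = 0}` -/
def E : Subgroup G := D.sub (fun α _ φ => α = 0 ∧ φ = 0) ⟨rfl, rfl⟩ (by
  rintro α γ φ α' γ' φ' ⟨rfl, rfl⟩ ⟨rfl, rfl⟩; exact ⟨add_zero 0, add_zero 0⟩)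

/-- `V_A = {(φ A, φ N A, φ)}` (used for `κ = 0`) -/
def W (A : F) : Subgroup G := D.sub (fun α γ φ => α = φ * A ∧ γ = φ * N n A) ⟨by ring, by ring⟩ (by
  rintro α γ φ α' γ' φ' ⟨rfl, rfl⟩ ⟨rfl, rfl⟩; exact ⟨by ring, by ring⟩)

/-- `V = {a = c = 0}` -/
def V : Subgroup G := D.sub (fun α γ _ => α = 0 ∧ γ = 0) ⟨rfl, rfl⟩ (by
  rintro α γ φ α' γ' φ' ⟨rfl, rfl⟩ ⟨rfl, rfl⟩; exact ⟨add_zero 0, add_zero 0⟩)

theorem mem_S {x : G} : x ∈ D.S ↔ x ∈ D.P ∧ D.c x = 0 ∧ D.f x = 0 := Iff.rfl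
theorem mem_T1 {x : G} : x ∈ D.T1 ↔ x ∈ D.P ∧ D.a x = 0 := Iff.rfl
theorem mem_E {x : G} : x ∈ D.E ↔ x ∈ D.P ∧ D.a x = 0 ∧ D.f x = 0 := Iff.rfl
theorem mem_V {x : G} : x ∈ D.V ↔ x ∈ D.P ∧ D.a x = 0 ∧ D.c x = 0 := Iff.rfl
theorem mem_W {A : F} {x : G} : x ∈ D.W A ↔ x ∈ D.P ∧ D.a x = D.f x * A ∧ D.c x = D.f x * N n A := Iff.rfl

theorem W_zero : D.W 0 = D.V := by
  ext x
  rw [mem_W, mem_V, N_zero, mul_zero]

end Chart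

end

/-- The data that half 1 gives. -/
structure Dat (G : Type u) [Group G] (F : Type v) [Field F] [Fintype F] [CharP F 2] (n : ℕ) extends
    Chart G F n where
  Q : Subgroup G
  Q_le : Q ≤ toChart.V
  Q_sup : ∀ v ∈ toChart.V, ∃ r ∈ Q, ∃ b, bar n b = b ∧ v = r * z b
  Q_z : ∀ b, bar n b = b → z b ∈ Q → b = 0
  /-- the torus of `K` -/
  h : Fˣ → G
  h_P : ∀ l, cj (h l) P = P
  h_a : ∀ l, ∀ x ∈ P, a (h l * x * (h l)⁻¹) = w n l * a x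
  h_c : ∀ l, ∀ x ∈ P, c (h l * x * (h l)⁻¹) = N n (l : F) * c x
  h_f : ∀ l, ∀ x ∈ P, f (h l * x * (h l)⁻¹) = f x
  h_z : ∀ l b, bar n b = b → h l * z b * (h l)⁻¹ = z (N n (l : F) * b)
  h_Q : ∀ l, ∀ r ∈ Q, h l * r = r * h l
  /-- the elements of the torus of norm one centralise `T₁` -/
  h_T : ∀ l : Fˣ, N n (l : F) = 1 → ∀ x ∈ toChart.T1, h l * x = x * h l
  /-- a conjugate of `Q` in `V` is `{r * z (c₀ f r)}` -/
  memb : ∀ g : G, cj g Q ≤ toChart.V → ∃ c₀ : F, bar n c₀ = c₀ ∧ ∀ r ∈ Q, r * z (c₀ * f r) ∈ cj g Q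
  V_P : ∀ x : G, cj x toChart.V = toChart.V → cj x P = P
  V_S : ∀ x : G, cj x toChart.V = toChart.V → cj x toChart.S = toChart.S
  V_E : ∀ x : G, cj x toChart.V = toChart.V → cj x toChart.E = toChart.E
  /-- a 2-element normalizing `V` and trivial on the `a`-coordinates of `S` is in `P` -/
  ker_V : ∀ x : G, cj x toChart.V = toChart.V → (∃ k : ℕ, x ^ 2 ^ k = 1) →
    (∀ s ∈ toChart.S, a (x * s * x⁻¹) = a s) → x ∈ P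
  /-- elements normalizing `S` are semilinear on it -/
  sl : ∀ x : G, cj x toChart.S = toChart.S → ∃ c₀ : F, c₀ ≠ 0 ∧ ∃ τ : F ≃+* F,
    (∀ s ∈ toChart.S, a (x * s * x⁻¹) = c₀ * τ (a s)) ∧
    ∀ b, bar n b = b → x * z b * x⁻¹ = z (N n c₀ * τ b)

section

variable {G : Type u} [Group G] {F : Type v} [Field F] [Fintype F] [CharP F 2] {n : ℕ} (D : Dat G F n)

/-- `x` acts on `P / Z` as `(a, c, f) ↦ (c₀ ā, c, f)` -/
def TypF (x : G) : Prop := cj x D.P = D.P ∧ (∀ b, bar n b = b → x * D.z b = D.z b * x) ∧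
  ∃ c₀ : F, N n c₀ = 1 ∧ ∀ p ∈ D.P, D.a (x * p * x⁻¹) = c₀ * bar n (D.a p) ∧
    D.c (x * p * x⁻¹) = D.c p ∧ D.f (x * p * x⁻¹) = D.f p

/-- `x` acts on `P / Z` as `(a, c, f) ↦ (a, θ f, θ⁻¹ c)` -/
def TypG (x : G) : Prop := cj x D.P = D.P ∧ (∀ b, bar n b = b → x * D.z b = D.z b * x) ∧ D.kap = 0 ∧
  (∀ b, bar n b = b → b ∈ D.Phi) ∧
  ∃ θ : F, θ ≠ 0 ∧ bar n θ = θ ∧ ∀ p ∈ D.P, D.a (x * p * x⁻¹) = D.a p ∧
    D.c (x * p * x⁻¹) = θ * D.f p ∧ D.f (x * p * x⁻¹) = θ⁻¹ * D.c p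

/-- `x` acts on `P / Z` as `(a, c, f) ↦ (c₀ ā, θ f, θ⁻¹ c)` -/
def TypU (x : G) : Prop := cj x D.P = D.P ∧ (∀ b, bar n b = b → x * D.z b = D.z b * x) ∧ D.kap = 0 ∧
  (∀ b, bar n b = b → b ∈ D.Phi) ∧
  ∃ c₀ θ : F, N n c₀ = 1 ∧ θ ≠ 0 ∧ bar n θ = θ ∧ ∀ p ∈ D.P, D.a (x * p * x⁻¹) = c₀ * bar n (D.a p) ∧
    D.c (x * p * x⁻¹) = θ * D.f p ∧ D.f (x * p * x⁻¹) = θ⁻¹ * D.c p

/-- What we need about a Sylow 2-subgroup `T` of `N(P)` -/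
structure Syl (T : Subgroup G) : Prop where
  syl : IsSyl T (normalizer (D.P : Set G))
  le : D.P ≤ T
  comm : ∀ x ∈ T, ∀ y ∈ T, x * y * x⁻¹ * y⁻¹ ∈ D.P
  typ : ∀ x ∈ T, x * x ∈ D.P → x ∈ D.P ∨ TypF D x ∨ TypG D x ∨ TypU D x
  FF : ∀ x ∈ T, ∀ y ∈ T, TypF D x → TypF D y → x * y ∈ D.P
  GG : ∀ x ∈ T, ∀ y ∈ T, TypG D x → TypG D y → x * y ∈ D.P
  UU : ∀ x ∈ T, ∀ y ∈ T, TypU D x → TypU D y → x * y ∈ D.P

/-- a subgroup of `P` that is rich in commutators -/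
def Rich (R : Subgroup G) : Prop :=
  (∀ R₀ : Subgroup G, R₀ ≤ R → R₀.relIndex R ≤ 2 → D.Z ≤ ⁅R₀, R₀⁆) ∧
  ∀ R₀ : Subgroup G, R₀ ≤ R → R₀.relIndex R ≤ 4 → D.Z ≤ ⁅R₀, R⁆

end

end Cfsg.Agent.OddHalf.D4.U3.Defs
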