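import Cfsg.Agent.OddHalf.D4.FullPair
import Cfsg.Agent.OddHalf.D4.RkEnd.End

/-!
# ODD, D4: the digon, abstract form

`K`, `L = K^g ≠ K`, `S ≤ K` centralises `L`, `S' ≤ L` centralises `K`, `S'` is the set of 2-elements of `C(K)`,
`S` the set of 2-elements of `C(L)`; `Z`, `Z'` the involutions (and 1) of `S`, `S'`. `DD K`: the involutions
centralising some conjugate of `K`. Structure `Dg`, theorem `Dg.false_of`: if no product of involutions of
`Z` and `Z'` is in `DD K` (and some facts on the action of the 2-elements of `N(K^x)` on `K^x`), `A = Z Z'` is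
strongly closed, so (S1169) `G` is not simple.
-/

set_option autoImplicit false
set_option linter.dupNamespace false

namespace Cfsg.Agent.OddHalf.D4.U3.DigAbs

open Subgroup Cfsg.Agent.OddHalf.D4 Cfsg.Agent.OddHalf.D4.Basic
open Cfsg.Agent.OddHalf.D4.CommConj (cj mem_cj cj_mul card_cj cj_eq_of_mem_normalizer mem_normalizer_of_cj_eq
  mem_cj_mul)
open Cfsg.Agent.OddHalf.D4.RkEnd.Tools Cfsg.Agent.OddHalf.D4.RkEnd.End

universe u

variable {G : Type u} [Group G]

/-- the involutions centralising some conjugate of `K` -/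
def DD (K : Subgroup G) (d : G) : Prop := orderOf d = 2 ∧ ∃ x : G, d ∈ centralizer ((cj x K : Subgroup G) : Set G)

/-- the elements inducing inner automorphisms on `K` -/
def Inn (K : Subgroup G) (d : G) : Prop := ∃ c ∈ centralizer (K : Set G), ∃ k ∈ K, d = c * k

/-- the facts on one side -/
structure Side (K S Z S' : Subgroup G) : Prop where
  SK : S ≤ K
  ZS : Z ≤ S
  two : IsPGroup 2 S
  sq : ∀ z ∈ Z, z * z = 1
  zc : ∀ z ∈ Z, ∀ s ∈ S, z * s = s * z
  com : ∀ z ∈ Z, ∃ s ∈ S, ∃ t ∈ S, s * t * s⁻¹ * t⁻¹ = z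
  card : 4 ≤ Nat.card Z
  invB : ∀ k ∈ K, k ∈ normalizer (S : Set G) → k * k = 1 → k ∈ Z
  le' : S' ≤ centralizer (K : Set G)
  syl : ∀ c ∈ centralizer (K : Set G), ∀ m : ℕ, c ^ 2 ^ m = 1 → c ∈ S'
  out : ∀ d ∈ normalizer (K : Set G), d ∈ normalizer (S : Set G) → d * d = 1 → ¬ Inn K d → ∀ z ∈ Z, d * z = z * d

/-- the digon -/
structure Dg (K L S S' Z Z' : Subgroup G) : Prop where
  conj : ∃ g : G, L = cj g K
  ne : L ≠ K
  tight : TightAt K
  cen : ∀ x : G, ∀ k ∈ cj x K, k ∈ centralizer ((cj x K : Subgroup G) : Set G) → k = 1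
  four : ∀ x a b : G, a ∈ normalizer ((cj x K : Subgroup G) : Set G) →
    b ∈ normalizer ((cj x K : Subgroup G) : Set G) → orderOf a = 2 → orderOf b = 2 → a * b = b * a → a ≠ b →
    Inn (cj x K) a ∨ Inn (cj x K) b ∨ Inn (cj x K) (a * b)
  der : ∀ x : G, ∀ R : Subgroup G, IsPGroup 2 R → R ≤ normalizer ((cj x K : Subgroup G) : Set G) →
    ∀ s ∈ R, ∀ t ∈ R, Inn (cj x K) (s * t * s⁻¹ * t⁻¹)
  q2 : ∀ x d : G, DD K d → Inn (cj x K) d → d ∈ cj x K ∨ d ∈ centralizer ((cj x K : Subgroup G) : Set G)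
  inv : ∀ x : G, ∀ k ∈ cj x K, orderOf k = 2 → DD K k
  trace : ∀ x v z d : G, z ∈ cj x K → orderOf z = 2 → z ∈ centralizer ((cj v K : Subgroup G) : Set G) →
    d ∈ centralizer ((cj x K : Subgroup G) : Set G) → orderOf d = 2 → d ∈ cj v K
  q1 : ∀ z ∈ Z, ∀ y ∈ Z', z ≠ 1 → y ≠ 1 → ¬ DD K (z * y)
  left : Side K S Z S'
  right : Side L S' Z' S

/-! ### Generalities -/

theorem DD.conj {K : Subgroup G} {d : G} (h : DD K d) (y : G) : DD K (y * d * y⁻¹) := by
  obtain ⟨h2, x, hx⟩ := h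
  refine ⟨by rw [orderOf_conj, h2], y * x, ?_⟩
  rw [cj_mul, centralizer_cj]
  exact mem_cj_mul hx

theorem DD.of_conj {K : Subgroup G} {d y : G} (h : DD K (y * d * y⁻¹)) : DD K d := by
  have h1 := h.conj y⁻¹
  have e : y⁻¹ * (y * d * y⁻¹) * y⁻¹⁻¹ = d := by group
  rwa [e] at h1

theorem cj_one (K : Subgroup G) : cj (1 : G) K = K := by
  ext x
  rw [mem_cj]
  simp

/-- an involution centralises only one conjugate -/
theorem uniq {K : Subgroup G} (hK : TightAt K) {d x y : G} (hd : orderOf d = 2)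
    (h1 : d ∈ centralizer ((cj x K : Subgroup G) : Set G)) (h2 : d ∈ centralizer ((cj y K : Subgroup G) : Set G)) :
    cj x K = cj y K := by
  have h3 : cj y K = cj (y * x⁻¹) (cj x K) := by rw [cj_mul, cj_inv_cj]
  rw [h3] at h2
  have h4 := (hK.cj x).eq h1 hd h2
  rw [h3, cj_eq_of_mem_normalizer h4]

theorem mem_norm {K : Subgroup G} (hK : TightAt K) {d x y : G} (hd : orderOf d = 2)
    (h1 : d ∈ centralizer ((cj x K : Subgroup G) : Set G)) (h : y * d = d * y) :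
    y ∈ normalizer ((cj x K : Subgroup G) : Set G) := (hK.cj x).mem h1 hd h

theorem sq_of_conj {b w a : G} (h : w * a * w⁻¹ = b) (ha : a * a = 1) : b * b = 1 := by
  rw [← h]
  have e : w * a * w⁻¹ * (w * a * w⁻¹) = w * (a * a) * w⁻¹ := by group
  rw [e, ha]; group

variable {K L S S' Z Z' : Subgroup G}

theorem Side.exists_two (h : Side K S Z S') : ∃ a ∈ Z, ∃ b ∈ Z, a ≠ 1 ∧ b ≠ 1 ∧ a ≠ b := by
  have h1 := h.card
  have hf : Finite Z := Nat.finite_of_card_ne_zero (by omega)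
  have h2 : Nontrivial Z := Finite.one_lt_card_iff_nontrivial.mp (by omega)
  obtain ⟨a, ha⟩ := exists_ne (1 : Z)
  have h3 : ∃ b : Z, b ≠ 1 ∧ b ≠ a := by
    by_contra hcon
    push Not at hcon
    have h4 : (Set.univ : Set Z) ⊆ {1, a} := by
      intro b _
      by_cases hb : b = 1
      · exact Or.inl hb
      · exact Or.inr (hcon b hb)
    have h5 := Set.ncard_le_ncard h4 (Set.toFinite _)
    rw [Set.ncard_univ] at h5
    have h6 : ({1, a} : Set Z).ncard ≤ 2 := Set.ncard_insert_le _ _ |>.trans (by rw [Set.ncard_singleton])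
    omega
  obtain ⟨b, hb1, hba⟩ := h3
  refine ⟨a, a.2, b, b.2, ?_, ?_, ?_⟩
  · intro e; exact ha (Subtype.ext e)
  · intro e; exact hb1 (Subtype.ext e)
  · intro e; exact hba (Subtype.ext e.symm)

theorem Side.exists_one (h : Side K S Z S') : ∃ a ∈ Z, a ≠ 1 := by
  obtain ⟨a, ha, _, _, h1, _⟩ := h.exists_two
  exact ⟨a, ha, h1⟩

namespace Dg

variable (h : Dg K L S S' Z Z')
include h

theorem tightL : TightAt L := by
  obtain ⟨g, rfl⟩ := h.conj
  exact h.tight.cj g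

theorem cenK {k : G} (hk : k ∈ K) (hc : k ∈ centralizer (K : Set G)) : k = 1 := by
  have := h.cen 1
  rw [cj_one] at this
  exact this k hk hc

theorem cenL {k : G} (hk : k ∈ L) (hc : k ∈ centralizer (L : Set G)) : k = 1 := by
  obtain ⟨g, rfl⟩ := h.conj
  exact h.cen g k hk hc

theorem DD_iff {d : G} : DD L d ↔ DD K d := by
  obtain ⟨g, rfl⟩ := h.conj
  constructor
  · rintro ⟨h2, x, hx⟩
    exact ⟨h2, x * g, by rw [cj_mul]; exact hx⟩
  · rintro ⟨h2, x, hx⟩
    refine ⟨h2, x * g⁻¹, ?_⟩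
    rw [cj_mul, cj_inv_cj]
    exact hx

/-- `Z` and `Z'` commute -/
theorem comm {s t : G} (hs : s ∈ S) (ht : t ∈ S') : s * t = t * s :=
  mem_centralizer_iff.mp (h.left.le' ht) s (h.left.SK hs)

/-- the digon is symmetric -/
theorem symm : Dg L K S' S Z' Z := by
  obtain ⟨g, hg⟩ := h.conj
  have hx : ∀ x, cj x L = cj (x * g) K := by
    intro x
    rw [hg, cj_mul]
  refine ⟨⟨g⁻¹, by rw [hg, cj_inv_cj]⟩, h.ne.symm, h.tightL, ?_, ?_, ?_, ?_, ?_, ?_, ?_, h.right, h.left⟩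
  · intro x; rw [hx]; exact h.cen _
  · intro x; rw [hx]; exact h.four _
  · intro x; rw [hx]; exact h.der _
  · intro x d hd; rw [hx]; exact h.q2 _ d (h.DD_iff.mp hd)
  · intro x k hk hk2
    rw [hx] at hk
    exact h.DD_iff.mpr (h.inv _ k hk hk2)
  · intro x v; rw [hx, hx]; exact h.trace _ _
  · intro z hz y hy hz1 hy1 hd
    apply h.q1 y hy z hz hy1 hz1
    rw [h.comm (h.left.ZS hy) (h.right.ZS hz)]
    exact h.DD_iff.mp hd

theorem Z_cent {z : G} (hz : z ∈ Z) : z ∈ centralizer (L : Set G) := h.right.le' (h.left.ZS hz)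

theorem DD_Z {z : G} (hz : z ∈ Z) (h1 : z ≠ 1) : DD K z := by
  obtain ⟨g, hg⟩ := h.conj
  exact ⟨orderOf_two_of (h.left.sq z hz) h1, g, by rw [← hg]; exact h.Z_cent hz⟩

theorem DD_Z' {z : G} (hz : z ∈ Z') (h1 : z ≠ 1) : DD K z := h.DD_iff.mp (h.symm.DD_Z hz h1)

/-- a 2-element of `C(K)` of square 1 is in `Z'` -/
theorem invC {c : G} (hc : c ∈ centralizer (K : Set G)) (h2 : c * c = 1) : c ∈ Z' := by
  have h1 : c ∈ S' := h.left.syl c hc 1 (by rw [pow_one, sq]; exact h2)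
  exact h.right.invB c (h.right.SK h1) (le_normalizer h1) h2

/-- `N(K) ≤ N(S')` -/
theorem norm_S' [Finite G] {x : G} (hx : x ∈ normalizer (K : Set G)) : x ∈ normalizer (S' : Set G) := by
  apply mem_normalizer_of_le
  intro s hs
  obtain ⟨m, hm⟩ := h.right.two ⟨s, hs⟩
  have hm' : s ^ 2 ^ m = 1 := congrArg Subtype.val hm
  refine h.left.syl _ ?_ m ?_
  · have h1 := mem_cj_mul (g := x) (h.left.le' hs)
    rwa [← centralizer_cj, cj_eq_of_mem_normalizer hx] at h1
  · rw [conj_pow, hm']; group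

theorem norm_S [Finite G] {x : G} (hx : x ∈ normalizer (L : Set G)) : x ∈ normalizer (S : Set G) :=
  h.symm.norm_S' hx

/-- an element swapping `K` and `L` maps `S` to `S'` -/
theorem swap_S {x s : G} (hx : cj x L = K) (hs : s ∈ S) : x * s * x⁻¹ ∈ S' := by
  obtain ⟨m, hm⟩ := h.left.two ⟨s, hs⟩
  have hm' : s ^ 2 ^ m = 1 := congrArg Subtype.val hm
  refine h.left.syl _ ?_ m ?_
  · have h1 := mem_cj_mul (g := x) (h.right.le' hs)
    rwa [← centralizer_cj, hx] at h1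
  · rw [conj_pow, hm']; group

theorem swap_Z {x z : G} (hx : cj x L = K) (hz : z ∈ Z) : x * z * x⁻¹ ∈ Z' := by
  have h1 := h.swap_S hx (h.left.ZS hz)
  refine h.right.invB _ (h.right.SK h1) (le_normalizer h1) ?_
  have e : x * z * x⁻¹ * (x * z * x⁻¹) = x * (z * z) * x⁻¹ := by group
  rw [e, h.left.sq z hz]; group

/-! ### (R1) -/

/-- `c k ∈ A` if `c ∈ C(K)`, `k ∈ K`, `ck ∈ N(K) ∩ N(L)` has square 1 -/
theorem inner_mem [Finite G] {d : G} (hL : d ∈ normalizer (L : Set G)) (h2 : d * d = 1) (hi : Inn K d) :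
    ∃ z ∈ Z, ∃ y ∈ Z', d = z * y := by
  obtain ⟨c, hc, k, hk, rfl⟩ := hi
  have hck : c * k = k * c := (mem_centralizer_iff.mp hc k hk).symm
  have h3 : (c * c) * (k * k) = 1 := by
    rw [← h2]
    calc c * c * (k * k) = c * (c * k) * k := by group
      _ = c * (k * c) * k := by rw [hck]
      _ = c * k * (c * k) := by group
  have h4 : k * k = 1 := by
    apply h.cenK (mul_mem hk hk)
    have : k * k = (c * c)⁻¹ := (inv_eq_of_mul_eq_one_right h3).symm
    rw [this]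
    exact inv_mem (mul_mem hc hc)
  have h5 : c * c = 1 := by rw [h4, mul_one] at h3; exact h3
  have h6 : k ∈ normalizer (S : Set G) := by
    have h7 : c ∈ normalizer (S : Set G) := by
      rw [mem_normalizer_iff]
      intro s
      constructor
      · intro hs
        have : c * s * c⁻¹ = s := by
          rw [(mem_centralizer_iff.mp hc s (h.left.SK hs)).symm]; group
        rw [this]; exact hs
      · intro hs
        have h8 := mem_centralizer_iff.mp hc _ (h.left.SK hs)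
        have : s = c * s * c⁻¹ := by
          have h9 : c * s = c * s * c⁻¹ * c := by group
          rw [h8] at h9
          exact mul_left_cancel h9
        rw [this]; exact hs
    have h8 : k = c⁻¹ * (c * k) := by group
    rw [h8]
    exact mul_mem (inv_mem h7) (h.norm_S hL)
  exact ⟨k, h.left.invB k hk h6 h4, c, h.invC hc h5, hck⟩

omit h in
theorem norm_cj {x : G} (hx : cj x K = K) : x ∈ normalizer (K : Set G) := mem_normalizer_of_cj_eq hx

/-- an element of `DD ∩ N(K) ∩ N(L)` inner on `K` -/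
theorem r1a [Finite G] {d : G} (hd : DD K d) (hL : d ∈ normalizer (L : Set G)) (hi : Inn K d) :
    d ∈ Z ∨ d ∈ Z' := by
  have h2 := mul_self_of hd.1
  have h3 := h.q2 1 d hd
  rw [cj_one] at h3
  rcases h3 hi with h4 | h4
  · left
    exact h.left.invB d h4 (h.norm_S hL) h2
  · right
    exact h.invC h4 h2

/-- **(R1)** -/
theorem r1 [Finite G] {d : G} (hd : DD K d) (hK : d ∈ normalizer (K : Set G)) (hL : d ∈ normalizer (L : Set G)) :
    d ∈ Z ∨ d ∈ Z' := by
  by_cases hiK : Inn K d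
  · exact h.r1a hd hL hiK
  by_cases hiL : Inn L d
  · exact (h.symm.r1a (h.DD_iff.mpr hd) hK hiL).symm
  exfalso
  have h2 := mul_self_of hd.1
  have hZ := h.left.out d hK (h.norm_S hL) h2 hiK
  obtain ⟨hd2, x, hx⟩ := hd
  obtain ⟨g, hg⟩ := h.conj
  have hnc : d ∉ centralizer (L : Set G) := fun hc => hiL ⟨d, hc, 1, one_mem _, (mul_one d).symm⟩
  have hnl : d ∉ L := fun hc => hiL ⟨1, one_mem _, d, hc, (one_mul d).symm⟩
  -- an involution of `Z`, inner on `X`
  have key : ∀ z ∈ Z, z ≠ 1 → ¬ Inn (cj x K) z := by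
    intro z hz hz1 hi
    have hz2 := orderOf_two_of (h.left.sq z hz) hz1
    rcases h.q2 x z (h.DD_Z hz hz1) hi with h4 | h4
    · apply hnl
      rw [hg]
      refine h.trace x g z d h4 hz2 ?_ hx hd2
      rw [← hg]; exact h.Z_cent hz
    · have h5 : cj x K = cj g K := by
        apply uniq h.tight hz2 h4
        rw [← hg]; exact h.Z_cent hz
      apply hnc
      rw [hg, ← h5]
      exact hx
  obtain ⟨a, ha, b, hb, ha1, hb1, hab⟩ := h.left.exists_two
  have hn : ∀ z ∈ Z, z ∈ normalizer ((cj x K : Subgroup G) : Set G) := fun z hz =>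
    mem_norm h.tight hd2 hx (hZ z hz).symm
  have hcab : a * b = b * a := h.left.zc a ha b (h.left.ZS hb)
  rcases h.four x a b (hn a ha) (hn b hb) (orderOf_two_of (h.left.sq a ha) ha1)
    (orderOf_two_of (h.left.sq b hb) hb1) hcab hab with hi | hi | hi
  · exact key a ha ha1 hi
  · exact key b hb hb1 hi
  · refine key (a * b) (mul_mem ha hb) ?_ hi
    intro e
    apply hab
    have h3 : a = b⁻¹ := eq_inv_of_mul_eq_one_left e
    rw [h3]
    exact inv_eq_of_mul_eq_one_left (h.left.sq b hb)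

/-! ### (R2) -/

/-- `s ↦ s s^d` for `d` swapping `K` and `L` -/
def dl (d : G) (hs : cj d L = K) : S →* G where
  toFun s := (s : G) * (d * s * d⁻¹)
  map_one' := by simp
  map_mul' s t := by
    have h1 := h.swap_S hs s.2
    have h2 := h.comm t.2 h1
    show (s : G) * t * (d * (s * t) * d⁻¹) = s * (d * s * d⁻¹) * (t * (d * t * d⁻¹))
    calc (s : G) * t * (d * (s * t) * d⁻¹) = s * (t * (d * s * d⁻¹)) * (d * t * d⁻¹) := by group
      _ = s * ((d * s * d⁻¹) * t) * (d * t * d⁻¹) := by rw [h2]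
      _ = _ := by group

theorem dl_apply (d : G) (hs : cj d L = K) (s : S) : h.dl d hs s = (s : G) * (d * s * d⁻¹) := rfl

theorem dl_comm {d : G} (hd2 : d * d = 1) (hs : cj d L = K) (s : S) : h.dl d hs s * d = d * h.dl d hs s := by
  rw [dl_apply]
  have h1 := h.swap_S hs s.2
  have h2 := h.comm s.2 h1
  have h3 : d⁻¹ = d := inv_eq_of_mul_eq_one_left hd2
  rw [h3] at h2 ⊢
  calc (s : G) * (d * s * d) * d = (s * (d * s * d)) * d := by group
    _ = ((d * s * d) * s) * d := by rw [h2]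
    _ = d * (s * (d * s * d)) := by group

theorem dl_two (d : G) (hs : cj d L = K) : IsPGroup 2 (h.dl d hs).range := by
  intro y
  obtain ⟨s, hs'⟩ := y.2
  obtain ⟨m, hm⟩ := h.left.two s
  refine ⟨m, ?_⟩
  apply Subtype.ext
  show (y : G) ^ 2 ^ m = 1
  rw [← hs', ← map_pow, hm, map_one]

/-- **(R2)** -/
theorem r2 [Finite G] {d : G} (hd : DD K d) (hs : cj d L = K) : False := by
  have hdd := mul_self_of hd.1
  obtain ⟨hd2, x, hx⟩ := hd
  have hnorm : (h.dl d hs).range ≤ normalizer ((cj x K : Subgroup G) : Set G) := by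
    rintro _ ⟨s, rfl⟩
    exact mem_norm h.tight hd2 hx (h.dl_comm hdd hs s)
  -- `δ = d k`
  have key : ∀ z : S, (z : G) ∈ Z → z ≠ 1 → ∃ k ∈ cj x K, h.dl d hs z = d * k := by
    intro z hz hz1
    have hz1' : (z : G) ≠ 1 := fun e => hz1 (Subtype.ext e)
    obtain ⟨s, hsS, t, htS, hst⟩ := h.left.com z hz
    have hzst : z = ⟨s, hsS⟩ * ⟨t, htS⟩ * ⟨s, hsS⟩⁻¹ * ⟨t, htS⟩⁻¹ := Subtype.ext hst.symm
    have hin : Inn (cj x K) (h.dl d hs z) := by
      rw [hzst, map_mul, map_mul, map_mul, map_inv, map_inv]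
      exact h.der x _ (h.dl_two d hs) hnorm _ ⟨_, rfl⟩ _ ⟨_, rfl⟩
    -- `δ` is not in `DD`
    have hzd : d * (z : G) * d⁻¹ ∈ Z' := h.swap_Z hs hz
    have hzd1 : d * (z : G) * d⁻¹ ≠ 1 := by
      intro e
      apply hz1'
      calc (z : G) = d⁻¹ * (d * z * d⁻¹) * d := by group
        _ = 1 := by rw [e]; group
    have hnd : ¬ DD K (h.dl d hs z) := h.q1 z hz _ hzd hz1' hzd1
    have hsq : h.dl d hs z * h.dl d hs z = 1 := by
      rw [← map_mul]
      have : z * z = 1 := Subtype.ext (h.left.sq z hz)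
      rw [this, map_one]
    obtain ⟨c, hc, k, hk, hck⟩ := hin
    have hcomm : c * k = k * c := (mem_centralizer_iff.mp hc k hk).symm
    rw [hck] at hsq hnd
    have h3 : (c * c) * (k * k) = 1 := by
      rw [← hsq]
      calc c * c * (k * k) = c * (c * k) * k := by group
        _ = c * (k * c) * k := by rw [hcomm]
        _ = c * k * (c * k) := by group
    have h4 : k * k = 1 := by
      apply h.cen x _ (mul_mem hk hk)
      have : k * k = (c * c)⁻¹ := (inv_eq_of_mul_eq_one_right h3).symm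
      rw [this]
      exact inv_mem (mul_mem hc hc)
    have h5 : c * c = 1 := by rw [h4, mul_one] at h3; exact h3
    have hk1 : k ≠ 1 := by
      rintro rfl
      rw [mul_one] at hnd
      apply hnd
      refine ⟨orderOf_two_of h5 ?_, x, hc⟩
      rintro rfl
      rw [mul_one] at hck
      -- `δ = 1`
      rw [dl_apply] at hck
      have h6 : (z : G) = (d * z * d⁻¹)⁻¹ := eq_inv_of_mul_eq_one_left hck
      apply hz1'
      apply h.cenK (h.left.SK z.2)
      rw [h6]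
      exact inv_mem (h.left.le' (h.right.ZS hzd))
    -- `δ d` is conjugate to `d`
    have h6 : (z : G) * d * (z : G)⁻¹ = h.dl d hs z * d := by
      rw [dl_apply]
      have h7 : (z : G)⁻¹ = z := inv_eq_of_mul_eq_one_left (h.left.sq z hz)
      rw [h7]; group
    have h7 : DD K (h.dl d hs z * d) := by
      rw [← h6]
      exact DD.conj ⟨hd2, x, hx⟩ _
    have hdk : d * k = k * d := (mem_centralizer_iff.mp hx k hk).symm
    have h8 : h.dl d hs z * d = (c * d) * k := by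
      rw [hck, mul_assoc, ← hdk]; group
    have hcd : c * d ∈ centralizer ((cj x K : Subgroup G) : Set G) := mul_mem hc hx
    rcases h.q2 x _ h7 ⟨c * d, hcd, k, hk, h8⟩ with h9 | h9
    · rw [h8] at h9
      have h10 : c * d ∈ cj x K := by
        have := mul_mem h9 (inv_mem hk)
        rwa [mul_inv_cancel_right] at this
      have h11 := h.cen x _ h10 hcd
      have h12 : c = d := by
        have : d⁻¹ = d := inv_eq_of_mul_eq_one_left hdd
        rw [← this]
        exact eq_inv_of_mul_eq_one_left h11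
      exact ⟨k, hk, by rw [hck, h12]⟩
    · exfalso
      apply hk1
      apply h.cen x k hk
      rw [h8] at h9
      have := mul_mem (inv_mem hcd) h9
      rwa [inv_mul_cancel_left] at this
  obtain ⟨a, ha, b, hb, ha1, hb1, hab⟩ := h.left.exists_two
  have hab1 : a * b ≠ 1 := by
    intro e
    apply hab
    have h3 : a = b⁻¹ := eq_inv_of_mul_eq_one_left e
    rw [h3]
    exact inv_eq_of_mul_eq_one_left (h.left.sq b hb)
  obtain ⟨k1, hk1, e1⟩ := key ⟨a, h.left.ZS ha⟩ ha (fun e => ha1 (congrArg Subtype.val e))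
  obtain ⟨k2, hk2, e2⟩ := key ⟨b, h.left.ZS hb⟩ hb (fun e => hb1 (congrArg Subtype.val e))
  obtain ⟨k3, hk3, e3⟩ := key (⟨a, h.left.ZS ha⟩ * ⟨b, h.left.ZS hb⟩) (mul_mem ha hb)
    (fun e => hab1 (congrArg Subtype.val e))
  rw [map_mul, e1, e2] at e3
  have hdk : d * k1 = k1 * d := (mem_centralizer_iff.mp hx k1 hk1).symm
  have e4 : d * k1 * (d * k2) = k1 * k2 := by
    rw [hdk]
    calc k1 * d * (d * k2) = k1 * (d * d) * k2 := by group
      _ = k1 * k2 := by rw [hdd, mul_one]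
  rw [e4] at e3
  have h5 : d ∈ cj x K := by
    have : d = k1 * k2 * k3⁻¹ := by rw [e3]; group
    rw [this]
    exact mul_mem (mul_mem hk1 hk2) (inv_mem hk3)
  have h6 := h.cen x d h5 hx
  rw [h6, orderOf_one] at hd2
  omega

/-! ### the subgroup `A = Z Z'` -/

/-- `A = Z Z'` -/
def A : Subgroup G where
  carrier := {a | ∃ z ∈ Z, ∃ y ∈ Z', a = z * y}
  one_mem' := ⟨1, one_mem _, 1, one_mem _, (mul_one 1).symm⟩
  mul_mem' := by
    rintro _ _ ⟨z, hz, y, hy, rfl⟩ ⟨v, hv, w, hw, rfl⟩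
    refine ⟨z * v, mul_mem hz hv, y * w, mul_mem hy hw, ?_⟩
    have := h.comm (h.left.ZS hv) (h.right.ZS hy)
    calc z * y * (v * w) = z * (y * v) * w := by group
      _ = z * (v * y) * w := by rw [this]
      _ = z * v * (y * w) := by group
  inv_mem' := by
    rintro _ ⟨z, hz, y, hy, rfl⟩
    refine ⟨z⁻¹, inv_mem hz, y⁻¹, inv_mem hy, ?_⟩
    rw [mul_inv_rev]
    exact (h.comm (h.left.ZS (inv_mem hz)) (h.right.ZS (inv_mem hy))).symm

theorem mem_A {a : G} : a ∈ h.A ↔ ∃ z ∈ Z, ∃ y ∈ Z', a = z * y := Iff.rfl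

theorem Z_le_A : Z ≤ h.A := fun z hz => ⟨z, hz, 1, one_mem _, (mul_one z).symm⟩

theorem Z'_le_A : Z' ≤ h.A := fun z hz => ⟨1, one_mem _, z, hz, (one_mul z).symm⟩

theorem A_sq {a : G} (ha : a ∈ h.A) : a * a = 1 := by
  obtain ⟨z, hz, y, hy, rfl⟩ := ha
  have := h.comm (h.left.ZS hz) (h.right.ZS hy)
  calc z * y * (z * y) = z * (y * z) * y := by group
    _ = z * (z * y) * y := by rw [this]
    _ = (z * z) * (y * y) := by group
    _ = 1 := by rw [h.left.sq z hz, h.right.sq y hy, one_mul]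

theorem A_two : IsPGroup 2 h.A := isPGroup_of_elem fun _ ha => h.A_sq ha

theorem A_DD {a : G} (ha : a ∈ h.A) (hd : DD K a) : a ∈ Z ∨ a ∈ Z' := by
  obtain ⟨z, hz, y, hy, rfl⟩ := ha
  by_cases hz1 : z = 1
  · right; rw [hz1, one_mul]; exact hy
  by_cases hy1 : y = 1
  · left; rw [hy1, mul_one]; exact hz
  exact absurd hd (h.q1 z hz y hy hz1 hy1)

/-- `y A y⁻¹ ≤ A` if the elements of `DD` in `y A y⁻¹` are in `A` -/
theorem mem_norm_A [Finite G] {y : G} (hy : ∀ a ∈ h.A, DD K a → y * a * y⁻¹ ∈ h.A) :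
    y ∈ normalizer (h.A : Set G) := by
  apply mem_normalizer_of_le
  have hZ : ∀ z ∈ Z, y * z * y⁻¹ ∈ h.A := by
    intro z hz
    by_cases hz1 : z = 1
    · rw [hz1, mul_one, mul_inv_cancel]; exact one_mem _
    · exact hy z (h.Z_le_A hz) (h.DD_Z hz hz1)
  have hZ' : ∀ z ∈ Z', y * z * y⁻¹ ∈ h.A := by
    intro z hz
    by_cases hz1 : z = 1
    · rw [hz1, mul_one, mul_inv_cancel]; exact one_mem _
    · exact hy z (h.Z'_le_A hz) (h.DD_Z' hz hz1)
  rintro _ ⟨z, hz, v, hv, rfl⟩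
  have e : y * (z * v) * y⁻¹ = (y * z * y⁻¹) * (y * v * y⁻¹) := by group
  rw [e]
  exact mul_mem (hZ z hz) (hZ' v hv)

/-- `N(A)` permutes `{K, L}` -/
theorem norm_A {x : G} (hx : x ∈ normalizer (h.A : Set G)) :
    (x ∈ normalizer (K : Set G) ∧ x ∈ normalizer (L : Set G)) ∨ (cj x K = L ∧ cj x L = K) := by
  obtain ⟨g, hg⟩ := h.conj
  have hZ : cj x L = L ∨ cj x L = K := by
    obtain ⟨z, hz, hz1⟩ := h.left.exists_one
    have h1 : x * z * x⁻¹ ∈ h.A := (mem_normalizer_iff.mp hx z).mp (h.Z_le_A hz)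
    have h2 : DD K (x * z * x⁻¹) := (h.DD_Z hz hz1).conj x
    have h3 : x * z * x⁻¹ ∈ centralizer ((cj x L : Subgroup G) : Set G) := by
      rw [centralizer_cj]; exact mem_cj_mul (h.Z_cent hz)
    rw [hg, ← cj_mul] at h3
    rcases h.A_DD h1 h2 with h4 | h4
    · left
      have h5 := h.Z_cent h4
      rw [hg] at h5
      rw [hg, ← cj_mul]
      exact uniq h.tight h2.1 h3 h5
    · right
      have h5 := h.symm.Z_cent h4
      rw [← cj_one K] at h5
      have h6 := uniq h.tight h2.1 h3 h5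
      rw [cj_one] at h6
      rw [hg, ← cj_mul]
      exact h6
  have hZ' : cj x K = L ∨ cj x K = K := by
    obtain ⟨z, hz, hz1⟩ := h.right.exists_one
    have h1 : x * z * x⁻¹ ∈ h.A := (mem_normalizer_iff.mp hx z).mp (h.Z'_le_A hz)
    have h2 : DD K (x * z * x⁻¹) := (h.DD_Z' hz hz1).conj x
    have h3 : x * z * x⁻¹ ∈ centralizer ((cj x K : Subgroup G) : Set G) := by
      rw [centralizer_cj]; exact mem_cj_mul (h.symm.Z_cent hz)
    rcases h.A_DD h1 h2 with h4 | h4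
    · left
      have h5 := h.Z_cent h4
      rw [hg] at h5 ⊢
      exact uniq h.tight h2.1 h3 h5
    · right
      have h5 := h.symm.Z_cent h4
      rw [← cj_one K] at h5
      have h6 := uniq h.tight h2.1 h3 h5
      rw [cj_one] at h6
      exact h6
  rcases hZ with h1 | h1
  · rcases hZ' with h2 | h2
    · exfalso
      apply h.ne
      have h3 : cj x⁻¹ (cj x K) = cj x⁻¹ (cj x L) := by rw [h1, h2]
      rw [cj_inv_cj, cj_inv_cj] at h3
      exact h3.symm
    · left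
      exact ⟨mem_normalizer_of_cj_eq h2, mem_normalizer_of_cj_eq h1⟩
  · rcases hZ' with h2 | h2
    · right
      exact ⟨h2, h1⟩
    · exfalso
      apply h.ne
      have h3 : cj x⁻¹ (cj x K) = cj x⁻¹ (cj x L) := by rw [h1, h2]
      rw [cj_inv_cj, cj_inv_cj] at h3
      exact h3.symm

/-! ### (R3) -/

/-- the elements of `DD` in `N(A)` are in `A` -/
theorem DD_norm_A [Finite G] {d : G} (hd : DD K d) (hn : d ∈ normalizer (h.A : Set G)) : d ∈ h.A := by
  rcases h.norm_A hn with ⟨h1, h2⟩ | ⟨-, h2⟩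
  · rcases h.r1 hd h1 h2 with h3 | h3
    · exact h.Z_le_A h3
    · exact h.Z'_le_A h3
  · exact (h.r2 hd h2).elim

/-- `y A y⁻¹ ≤ N(A)` implies `y ∈ N(A)` -/
theorem key [Finite G] {y : G} (hy : cj y h.A ≤ normalizer (h.A : Set G)) : y ∈ normalizer (h.A : Set G) := by
  apply h.mem_norm_A
  intro a ha hd
  exact h.DD_norm_A (hd.conj y) (hy (mem_cj_mul ha))

theorem S_le_norm [Finite G] : S ≤ normalizer (h.A : Set G) := by
  intro s hs
  apply mem_normalizer_of_le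
  rintro _ ⟨z, hz, y, hy, rfl⟩
  have h1 := h.left.zc z hz s hs
  have h2 := h.comm hs (h.right.ZS hy)
  have e : s * (z * y) * s⁻¹ = z * y := by
    calc s * (z * y) * s⁻¹ = (s * z) * y * s⁻¹ := by group
      _ = (z * s) * y * s⁻¹ := by rw [h1]
      _ = z * (s * y) * s⁻¹ := by group
      _ = z * (y * s) * s⁻¹ := by rw [h2]
      _ = z * y := by group
  rw [e]
  exact ⟨z, hz, y, hy, rfl⟩

/-- `A` commutes with `S` -/
theorem S_comm_A {s a : G} (hs : s ∈ S) (ha : a ∈ h.A) : s * a = a * s := by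
  obtain ⟨z, hz, y, hy, rfl⟩ := ha
  have h1 := h.left.zc z hz s hs
  have h2 := h.comm hs (h.right.ZS hy)
  calc s * (z * y) = (s * z) * y := by group
    _ = (z * s) * y := by rw [h1]
    _ = z * (s * y) := by group
    _ = z * (y * s) := by rw [h2]
    _ = z * y * s := by group

/-- a Sylow 2-subgroup of `N(A)` is one of `G` -/
theorem syl_top [Finite G] {T : Subgroup G} (hT : IsSyl T (normalizer (h.A : Set G))) (hA : h.A ≤ T) :
    IsSyl T ⊤ := by
  have : Fact (Nat.Prime 2) := ⟨Nat.prime_two⟩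
  refine ⟨hT.two, le_top, ?_⟩
  intro Q hQ hle _
  refine (Cfsg.Agent.Blocks.SylowIn.eq_of_normalizer_inf_le (p := 2) hQ hle ?_).le
  intro x hx
  have h1 : cj x h.A ≤ T := by
    rw [← cj_eq_of_mem_normalizer hx.1]
    exact Subgroup.map_mono hA
  have h2 : x ∈ normalizer (h.A : Set G) := h.key (h1.trans hT.le)
  exact hT.max (normalizer (h.A : Set G) ⊓ Q) (hQ.to_le inf_le_right)
    (le_inf hT.le hle) inf_le_left ⟨h2, hx.2⟩

/-! ### (R4) -/

/-- the elements of `N(K) ∩ N(L)` conjugate into `A` are in `A` -/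
theorem r4a [Finite G] {T : Subgroup G} (hT : IsSyl T ⊤) (hTA : T ≤ normalizer (h.A : Set G)) {a w b : G} (ha : a ∈ h.A)
    (hb : w * a * w⁻¹ = b) (hK : b ∈ normalizer (K : Set G)) (hL : b ∈ normalizer (L : Set G)) : b ∈ h.A := by
  have hbb : b * b = 1 := sq_of_conj hb (h.A_sq ha)
  by_cases hiK : Inn K b
  · exact h.inner_mem hL hbb hiK
  by_cases hiL : Inn L b
  · obtain ⟨z, hz, y, hy, e⟩ := h.symm.inner_mem hK hbb hiL
    exact ⟨y, hy, z, hz, by rw [e]; exact (h.comm (h.left.ZS hy) (h.right.ZS hz)).symm⟩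
  -- `b` centralises `A`
  have hZ := h.left.out b hK (h.norm_S hL) hbb hiK
  have hZ' := h.right.out b hL (h.norm_S' hK) hbb hiL
  have hA : ∀ c ∈ h.A, c * b = b * c := by
    rintro _ ⟨z, hz, y, hy, rfl⟩
    calc z * y * b = z * (y * b) := by group
      _ = z * (b * y) := by rw [hZ' y hy]
      _ = (z * b) * y := by group
      _ = (b * z) * y := by rw [hZ z hz]
      _ = b * (z * y) := by group
  obtain ⟨R, hR, hAR⟩ := exists_isSyl (M := centralizer ({b} : Set G)) h.A_two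
    (fun c hc => mem_cent1.mpr (hA c hc))
  have hwA : cj w h.A ≤ centralizer ({b} : Set G) := by
    intro c hc
    rw [mem_cent1]
    have h1 := comm_of_elem (fun a ha => h.A_sq ha) (mem_cj.mp hc) ha
    rw [← hb]
    calc c * (w * a * w⁻¹) = w * ((w⁻¹ * c * w) * a) * w⁻¹ := by group
      _ = w * (a * (w⁻¹ * c * w)) * w⁻¹ := by rw [h1]
      _ = w * a * w⁻¹ * c := by group
  obtain ⟨m, hm, hmR⟩ := hR.conj_into (isPGroup_cj h.A_two) hwA
  obtain ⟨v, -, hv⟩ := hT.conj_into hR.two le_top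
  have h1 : cj v h.A ≤ normalizer (h.A : Set G) := by
    rintro _ ⟨c, hc, rfl⟩
    exact hTA (hv c (hAR hc))
  have h2 : cj (v * m * w) h.A ≤ normalizer (h.A : Set G) := by
    rw [mul_assoc, cj_mul, cj_mul]
    rintro _ ⟨c, hc, rfl⟩
    obtain ⟨c', hc', rfl⟩ := hc
    exact hTA (hv _ (hmR c' hc'))
  have h3 := h.key h1
  have h4 := h.key h2
  have h5 : v * b * v⁻¹ ∈ h.A := by
    have h6 := (mem_normalizer_iff.mp h4 a).mp ha
    have hmb := mem_cent1.mp hm
    have e : v * m * w * a * (v * m * w)⁻¹ = v * (m * b * m⁻¹) * v⁻¹ := by rw [← hb]; group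
    rw [e, hmb, mul_inv_cancel_right] at h6
    exact h6
  exact (mem_normalizer_iff.mp h3 b).mpr h5

/-- no element swapping `K` and `L` is conjugate into `A` -/
theorem r4b [Finite G] {T : Subgroup G} (hT : IsSyl T ⊤) (hTA : T ≤ normalizer (h.A : Set G)) {a w b : G} (ha : a ∈ h.A)
    (hb : w * a * w⁻¹ = b) (hs : cj b L = K) (hs' : cj b K = L) : False := by
  classical
  have hbb : b * b = 1 := sq_of_conj hb (h.A_sq ha)
  have hb1 : b ≠ 1 := by
    rintro rfl
    rw [cj_one] at hs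
    exact h.ne hs
  -- the subgroup `D`
  have hD : (h.dl b hs).range ≤ centralizer ({b} : Set G) := by
    rintro _ ⟨s, rfl⟩
    exact mem_cent1.mpr (h.dl_comm hbb hs s)
  obtain ⟨R, hR, hDR⟩ := exists_isSyl (h.dl_two b hs) hD
  have hwA : cj w h.A ≤ centralizer ({b} : Set G) := by
    intro c hc
    rw [mem_cent1]
    have h1 := comm_of_elem (fun a ha => h.A_sq ha) (mem_cj.mp hc) ha
    rw [← hb]
    calc c * (w * a * w⁻¹) = w * ((w⁻¹ * c * w) * a) * w⁻¹ := by group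
      _ = w * (a * (w⁻¹ * c * w)) * w⁻¹ := by rw [h1]
      _ = w * a * w⁻¹ * c := by group
  obtain ⟨m, hm, hmR⟩ := hR.conj_into (isPGroup_cj h.A_two) hwA
  obtain ⟨v, -, hv⟩ := hT.conj_into hR.two le_top
  have h2 : cj (v * m * w) h.A ≤ normalizer (h.A : Set G) := by
    rw [mul_assoc, cj_mul, cj_mul]
    rintro _ ⟨c, hc, rfl⟩
    obtain ⟨c', hc', rfl⟩ := hc
    exact hTA (hv _ (hmR c' hc'))
  have h4 := h.key h2
  have hvb : v * b * v⁻¹ ∈ h.A := by
    have h6 := (mem_normalizer_iff.mp h4 a).mp ha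
    have hmb := mem_cent1.mp hm
    have e : v * m * w * a * (v * m * w)⁻¹ = v * (m * b * m⁻¹) * v⁻¹ := by rw [← hb]; group
    rw [e, hmb, mul_inv_cancel_right] at h6
    exact h6
  -- commutators of elements of `T` normalize `K` and `L`
  have hcomm : ∀ s ∈ T, ∀ t ∈ T, s * t * s⁻¹ * t⁻¹ ∈ normalizer (K : Set G) ∧
      s * t * s⁻¹ * t⁻¹ ∈ normalizer (L : Set G) := by
    have hinv : ∀ x : G, cj x K = L → cj x⁻¹ L = K := by
      intro x hx
      rw [← hx, cj_inv_cj]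
    have hinv' : ∀ x : G, cj x L = K → cj x⁻¹ K = L := by
      intro x hx
      rw [← hx, cj_inv_cj]
    have hnK : ∀ x : G, x ∈ normalizer (K : Set G) → cj x K = K ∧ cj x⁻¹ K = K := fun x hx =>
      ⟨cj_eq_of_mem_normalizer hx, cj_eq_of_mem_normalizer (inv_mem hx)⟩
    have hnL : ∀ x : G, x ∈ normalizer (L : Set G) → cj x L = L ∧ cj x⁻¹ L = L := fun x hx =>
      ⟨cj_eq_of_mem_normalizer hx, cj_eq_of_mem_normalizer (inv_mem hx)⟩
    intro s hs t ht
    constructor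
    · apply mem_normalizer_of_cj_eq
      rw [cj_mul, cj_mul, cj_mul]
      rcases h.norm_A (hTA hs) with ⟨a1, a2⟩ | ⟨a1, a2⟩ <;> rcases h.norm_A (hTA ht) with ⟨b1, b2⟩ | ⟨b1, b2⟩
      · rw [(hnK t b1).2, (hnK s a1).2, (hnK t b1).1, (hnK s a1).1]
      · rw [hinv' t b2, (hnL s a2).2, b2, (hnK s a1).1]
      · rw [(hnK t b1).2, hinv' s a2, (hnL t b2).1, a2]
      · rw [hinv' t b2, hinv s a1, b1, a2]
    · apply mem_normalizer_of_cj_eq
      rw [cj_mul, cj_mul, cj_mul]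
      rcases h.norm_A (hTA hs) with ⟨a1, a2⟩ | ⟨a1, a2⟩ <;> rcases h.norm_A (hTA ht) with ⟨b1, b2⟩ | ⟨b1, b2⟩
      · rw [(hnL t b2).2, (hnL s a2).2, (hnL t b2).1, (hnL s a2).1]
      · rw [hinv t b1, (hnK s a1).2, b1, (hnL s a2).1]
      · rw [(hnL t b2).2, hinv s a1, (hnK t b1).1, a1]
      · rw [hinv t b1, hinv' s a2, b2, a1]
  -- the elements `v δ(z) v⁻¹` are in `A`
  have hf : ∀ z : S, (z : G) ∈ Z → v * h.dl b hs z * v⁻¹ ∈ h.A := by
    intro z hz
    obtain ⟨s, hsS, t, htS, hst⟩ := h.left.com z hz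
    have hzst : z = ⟨s, hsS⟩ * ⟨t, htS⟩ * ⟨s, hsS⟩⁻¹ * ⟨t, htS⟩⁻¹ := Subtype.ext hst.symm
    have h5 : v * h.dl b hs z * v⁻¹ = (v * h.dl b hs ⟨s, hsS⟩ * v⁻¹) * (v * h.dl b hs ⟨t, htS⟩ * v⁻¹) *
        (v * h.dl b hs ⟨s, hsS⟩ * v⁻¹)⁻¹ * (v * h.dl b hs ⟨t, htS⟩ * v⁻¹)⁻¹ := by
      rw [hzst, map_mul, map_mul, map_mul, map_inv, map_inv]
      group
    have h6 := hcomm _ (hv _ (hDR ⟨⟨s, hsS⟩, rfl⟩)) _ (hv _ (hDR ⟨⟨t, htS⟩, rfl⟩))
    rw [← h5] at h6
    have h7 : h.dl b hs z ∈ h.A := ⟨z, hz, b * z * b⁻¹, h.swap_Z hs hz, rfl⟩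
    exact h.r4a hT hTA h7 rfl h6.1 h6.2
  -- `z ↦` the `Z'`-part of `v δ(z) v⁻¹` is injective
  have huniq : ∀ z ∈ Z, ∀ y ∈ Z', ∀ z' ∈ Z, ∀ y' ∈ Z', z * y = z' * y' → z = z' ∧ y = y' := by
    intro z hz y hy z' hz' y' hy' e
    have h5 : z'⁻¹ * z = y' * y⁻¹ := by
      rw [eq_mul_inv_iff_mul_eq, mul_assoc, e]; group
    have h6 : z'⁻¹ * z = 1 := by
      apply h.cenK (mul_mem (inv_mem (h.left.SK (h.left.ZS hz'))) (h.left.SK (h.left.ZS hz)))
      rw [h5]
      exact mul_mem (h.left.le' (h.right.ZS hy')) (inv_mem (h.left.le' (h.right.ZS hy)))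
    have h7 : z = z' := (inv_mul_eq_one.mp h6).symm
    subst h7
    exact ⟨rfl, mul_left_cancel e⟩
  have hch : ∀ z : Z, ∃ y : Z', ∃ z₀ ∈ Z, v * h.dl b hs ⟨z, h.left.ZS z.2⟩ * v⁻¹ = z₀ * y := by
    intro z
    obtain ⟨z₀, hz₀, y, hy, e⟩ := hf ⟨z, h.left.ZS z.2⟩ z.2
    exact ⟨⟨y, hy⟩, z₀, hz₀, e⟩
  choose f z₀ hz₀ hfe using hch
  -- nontrivial `v δ(z) v⁻¹` is not in `Z`
  have hnZ : ∀ z : S, (z : G) ∈ Z → z ≠ 1 → v * h.dl b hs z * v⁻¹ ∉ Z := by
    intro z hz hz1 hmem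
    have hz1' : (z : G) ≠ 1 := fun e => hz1 (Subtype.ext e)
    have hzd : b * (z : G) * b⁻¹ ∈ Z' := h.swap_Z hs hz
    have hzd1 : b * (z : G) * b⁻¹ ≠ 1 := by
      intro e
      apply hz1'
      calc (z : G) = b⁻¹ * (b * z * b⁻¹) * b := by group
        _ = 1 := by rw [e]; group
    have hnd : ¬ DD K (h.dl b hs z) := h.q1 z hz _ hzd hz1' hzd1
    apply hnd
    have hne : v * h.dl b hs z * v⁻¹ ≠ 1 := by
      intro e
      have e1 : h.dl b hs z = 1 := by
        calc h.dl b hs z = v⁻¹ * (v * h.dl b hs z * v⁻¹) * v := by group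
          _ = 1 := by rw [e]; group
      rw [dl_apply] at e1
      have h6 : (z : G) = (b * z * b⁻¹)⁻¹ := eq_inv_of_mul_eq_one_left e1
      apply hz1'
      apply h.cenK (h.left.SK z.2)
      rw [h6]
      exact inv_mem (h.left.le' (h.right.ZS hzd))
    exact DD.of_conj (h.DD_Z hmem hne)
  have hfinj : Function.Injective f := by
    intro z1 z2 e
    by_contra hne
    let s1 : S := ⟨z1, h.left.ZS z1.2⟩
    let s2 : S := ⟨z2, h.left.ZS z2.2⟩
    have h5 : v * h.dl b hs (s1 * s2⁻¹) * v⁻¹ ∈ Z := by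
      have h6 : v * h.dl b hs (s1 * s2⁻¹) * v⁻¹ = (v * h.dl b hs s1 * v⁻¹) * (v * h.dl b hs s2 * v⁻¹)⁻¹ := by
        rw [map_mul, map_inv]; group
      have h7 : v * h.dl b hs s1 * v⁻¹ = z₀ z1 * f z1 := hfe z1
      have h8 : v * h.dl b hs s2 * v⁻¹ = z₀ z2 * f z2 := hfe z2
      rw [h6, h7, h8, e]
      have h9 : z₀ z1 * (f z2 : G) * (z₀ z2 * (f z2 : G))⁻¹ = z₀ z1 * (z₀ z2)⁻¹ := by group
      rw [h9]
      exact mul_mem (hz₀ z1) (inv_mem (hz₀ z2))
    refine hnZ (s1 * s2⁻¹) (mul_mem z1.2 (inv_mem z2.2)) ?_ h5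
    intro e1
    apply hne
    have h6 : s1 = s2 := mul_inv_eq_one.mp e1
    exact Subtype.ext (congrArg (fun s : S => (s : G)) h6)
  have hcard : Nat.card Z = Nat.card Z' := by
    apply le_antisymm (Nat.card_le_card_of_injective f hfinj)
    let f' : Z' → Z := fun y => ⟨b⁻¹ * y * b, by
      have h5 := h.symm.swap_Z (x := b⁻¹) (by rw [← hs, cj_inv_cj]) y.2
      rwa [inv_inv] at h5⟩
    apply Nat.card_le_card_of_injective f'
    intro y1 y2 e
    have e1 : b⁻¹ * (y1 : G) * b = b⁻¹ * y2 * b := congrArg Subtype.val e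
    exact Subtype.ext (mul_left_cancel (mul_right_cancel e1))
  have hfsurj : Function.Surjective f := by
    have h5 := (Nat.bijective_iff_injective_and_card f).mpr ⟨hfinj, hcard⟩
    exact h5.2
  obtain ⟨zb, hzb, yb, hyb, eb⟩ := hvb
  obtain ⟨z, hz⟩ := hfsurj ⟨yb, hyb⟩
  have hz' : (f z : G) = yb := congrArg Subtype.val hz
  -- `v b δ(z) v⁻¹ ∈ Z`
  have h5 : v * (z * b * (z : G)⁻¹) * v⁻¹ ∈ Z := by
    have h6 : (z : G)⁻¹ = z := inv_eq_of_mul_eq_one_left (h.left.sq z z.2)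
    have hbi : b⁻¹ = b := inv_eq_of_mul_eq_one_left hbb
    have h7 : (z : G) * b * (z : G)⁻¹ = h.dl b hs ⟨z, h.left.ZS z.2⟩ * b := by
      rw [dl_apply, h6]
      show (z : G) * b * z = z * (b * z * b⁻¹) * b
      group
    have h8 : v * (z * b * (z : G)⁻¹) * v⁻¹ = (v * h.dl b hs ⟨z, h.left.ZS z.2⟩ * v⁻¹) * (v * b * v⁻¹) := by
      rw [h7]; group
    have h9 : v * b * v⁻¹ = yb * zb := by
      rw [eb]; exact h.comm (h.left.ZS hzb) (h.right.ZS hyb)
    rw [h8, hfe z, h9, hz']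
    have h10 : z₀ z * yb * (yb * zb) = z₀ z * (yb * yb) * zb := by group
    rw [h10, h.right.sq yb hyb, mul_one]
    exact mul_mem (hz₀ z) hzb
  have hne : v * (z * b * (z : G)⁻¹) * v⁻¹ ≠ 1 := by
    intro e
    apply hb1
    calc b = (z : G)⁻¹ * (v⁻¹ * (v * (z * b * (z : G)⁻¹) * v⁻¹) * v) * z := by group
      _ = 1 := by rw [e]; group
  exact h.r2 (DD.of_conj (DD.of_conj (h.DD_Z h5 hne))) hs

/-- **(R4)**: `A` is strongly closed -/
theorem strongly_closed [Finite G] {T : Subgroup G} (hT : IsSyl T ⊤) (hTA : T ≤ normalizer (h.A : Set G)) :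
    ∀ a ∈ h.A, ∀ w : G, w * a * w⁻¹ ∈ T → w * a * w⁻¹ ∈ h.A := by
  intro a ha w hw
  rcases h.norm_A (hTA hw) with ⟨h1, h2⟩ | ⟨h1, h2⟩
  · exact h.r4a hT hTA ha rfl h1 h2
  · exact (h.r4b hT hTA ha rfl h2 h1).elim

/-- **(R5)**: the digon does not exist -/
theorem false_of [Finite G] [IsSimpleGroup G] (gold : Cfsg.Agent.StdSz.EndClosed.Gold.{u}) : False := by
  have hcomm : ∀ a ∈ h.A, ∀ b ∈ h.A, a * b = b * a := fun a ha b hb =>
    comm_of_elem (fun a ha => h.A_sq ha) ha hb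
  -- the 2-group `S A`
  have hSA : IsPGroup 2 (S ⊔ h.A : Subgroup G) :=
    IsPGroup.to_sup_of_normal_right' h.left.two h.A_two h.S_le_norm
  have hAN : h.A ≤ normalizer (h.A : Set G) := le_normalizer
  obtain ⟨T, hT, hle⟩ := exists_isSyl hSA (sup_le h.S_le_norm hAN)
  have hA : h.A ≤ T := le_sup_right.trans hle
  have hS : S ≤ T := le_sup_left.trans hle
  have htop := h.syl_top hT hA
  obtain ⟨z, hz, hz1⟩ := h.left.exists_one
  obtain ⟨y, hy, hy1⟩ := h.right.exists_one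
  have hAne : h.A ≠ ⊥ := by
    intro e
    have := h.Z_le_A hz
    rw [e, mem_bot] at this
    exact hz1 this
  have hAc : IsMulCommutative h.A := ⟨⟨fun a b => Subtype.ext (hcomm a a.2 b b.2)⟩⟩
  have hsc : Cfsg.IsStronglyClosed h.A ((sylowOf htop : Sylow 2 G) : Subgroup G) :=
    ⟨hA, fun a ha w hw => h.strongly_closed htop hT.le a ha w hw⟩
  rcases gold (sylowOf htop) h.A hAne hAc hsc with h1 | ⟨H, hH⟩
  · obtain ⟨s, hs, t, ht, hst⟩ := h.left.com z hz
    have h2 := h1.is_comm.comm (⟨s, hS hs⟩ : ↥((sylowOf htop : Sylow 2 G) : Subgroup G)) ⟨t, hS ht⟩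
    have h3 : s * t = t * s := congrArg Subtype.val h2
    apply hz1
    rw [← hst, h3]; group
  · have hoz := orderOf_two_of (h.left.sq z hz) hz1
    have hzy1 : z * y ≠ 1 := by
      intro e
      apply hz1
      have h2 : z = y⁻¹ := eq_inv_of_mul_eq_one_left e
      apply h.cenK (h.left.SK (h.left.ZS hz))
      rw [h2]
      exact inv_mem (h.left.le' (h.right.ZS hy))
    have hzyA : z * y ∈ h.A := ⟨z, hz, y, hy, rfl⟩
    have hozy := orderOf_two_of (h.A_sq hzyA) hzy1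
    obtain ⟨c, hc⟩ := isConj_iff.mp (conj_of_se hH hoz hozy)
    have h3 := (h.DD_Z hz hz1).conj c
    rw [hc] at h3
    exact h.q1 z hz y hy hz1 hy1 h3

end Dg

end Cfsg.Agent.OddHalf.D4.U3.DigAbs
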