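import Cfsg.Agent.StdU3.Semi
import Cfsg.Agent.OddHalf.D4.FullPair
import Cfsg.Agent.OddHalf.D4.U3.Defs

/-!
# ODD, D4, row `K = U₃(q)`, `q = 2 ^ n ≥ 4`: the concrete half, definitions

`Par K σ n`: the subgroup `K` with a parametrisation as `PSU₃(q)` (`URel`). `Uni K σ n`: `K` is a standard
subgroup of `G`, `Z(K) = 1`, `m₂(C(K)) ≥ 2`, `O(C(K)) = 1`.
-/

set_option autoImplicit false
set_option linter.dupNamespace false

namespace Cfsg.Agent.OddHalf.D4.U3.ParDefs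

open Subgroup Cfsg.Agent.LieRecognition Cfsg.Agent.LieRecognition.HermHeis Cfsg.Agent.StdU3.URel
  Cfsg.Agent.StdU3.Field Cfsg.Agent.StdU3.Semi Cfsg.Agent.OddHalf.D4.CommConj Cfsg.Agent.OddHalf.D4.Basic

universe u v

variable {G : Type u} [Group G] {F : Type v} [Field F] [Fintype F] [CharP F 2] {σ : F →+* F}
  [hσ : Fact (∀ x, σ (σ x) = x)] {n : ℕ}

/-- `K` with a parametrisation as `PSU₃(q)` -/
structure Par (K : Subgroup G) (σ : F →+* F) [hσ : Fact (∀ x, σ (σ x) = x)] (n : ℕ) where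
  hS : Sg σ n
  R : URel ↥K σ

/-- conjugation as an isomorphism `K ≃* cj g K` -/
noncomputable def cjEquiv (g : G) (K : Subgroup G) : ↥K ≃* ↥(cj g K) :=
  K.equivMapOfInjective (MulAut.conj g).toMonoidHom (MulAut.conj g).injective

theorem cjEquiv_coe (g : G) (K : Subgroup G) (x : K) : ((cjEquiv g K x : cj g K) : G) = g * x * g⁻¹ := rfl

namespace Par

variable {K : Subgroup G} (p : Par K σ n)

/-- the parametrisation of the Sylow 2-subgroup -/
def u : Heis σ →* G := K.subtype.comp p.R.u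

/-- the torus -/
def d : Fˣ →* G := K.subtype.comp p.R.d

/-- the Weyl element -/
def w : G := (p.R.w : G)

/-- the Sylow 2-subgroup -/
def S : Subgroup G := p.u.range

/-- the Borel subgroup `N_K(S)` -/
def B : Subgroup G := p.R.B.map K.subtype

/-- the centre of `S` -/
def Z : Subgroup G where
  carrier := {x | ∃ y : Heis σ, y.a = 0 ∧ x = p.u y}
  one_mem' := ⟨1, rfl, (map_one _).symm⟩
  mul_mem' := by
    rintro x y ⟨x', hx, rfl⟩ ⟨y', hy, rfl⟩
    refine ⟨x' * y', ?_, (map_mul _ _ _).symm⟩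
    rw [mul_a, hx, hy, add_zero]
  inv_mem' := by
    rintro x ⟨x', hx, rfl⟩
    refine ⟨x'⁻¹, ?_, (map_inv _ _).symm⟩
    rw [inv_a, hx]

/-- the conjugate parametrisation of `cj g K` -/
noncomputable def conj (g : G) : Par (cj g K) σ n := ⟨p.hS, p.R.map (cjEquiv g K)⟩

theorem conj_u (g : G) (x : Heis σ) : (p.conj g).u x = g * p.u x * g⁻¹ := rfl
theorem conj_d (g : G) (l : Fˣ) : (p.conj g).d l = g * p.d l * g⁻¹ := rfl
theorem conj_w (g : G) : (p.conj g).w = g * p.w * g⁻¹ := rfl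

theorem mem_S {x : G} : x ∈ p.S ↔ ∃ y, p.u y = x := Iff.rfl
theorem mem_Z {x : G} : x ∈ p.Z ↔ ∃ y : Heis σ, y.a = 0 ∧ x = p.u y := Iff.rfl

theorem Z_le_S : p.Z ≤ p.S := by
  rintro x ⟨y, -, rfl⟩
  exact ⟨y, rfl⟩

theorem S_le : p.S ≤ K := by
  rintro x ⟨y, rfl⟩
  exact (p.R.u y).2

theorem d_mem (l : Fˣ) : p.d l ∈ K := (p.R.d l).2

theorem w_mem : p.w ∈ K := p.R.w.2

theorem mem_B {x : G} : x ∈ p.B ↔ ∃ y l, x = p.u y * p.d l := by
  constructor
  · rintro ⟨b, ⟨y, l, rfl⟩, rfl⟩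
    exact ⟨y, l, rfl⟩
  · rintro ⟨y, l, rfl⟩
    exact ⟨p.R.u y * p.R.d l, ⟨y, l, rfl⟩, rfl⟩

theorem conj_S (g : G) : (p.conj g).S = cj g p.S := by
  ext x
  rw [mem_S, mem_cj, mem_S]
  constructor
  · rintro ⟨y, rfl⟩
    exact ⟨y, by rw [conj_u]; group⟩
  · rintro ⟨y, hy⟩
    exact ⟨y, by rw [conj_u, hy]; group⟩

theorem conj_Z (g : G) : (p.conj g).Z = cj g p.Z := by
  ext x
  rw [mem_Z, mem_cj, mem_Z]
  constructor
  · rintro ⟨y, hy, rfl⟩
    exact ⟨y, hy, by rw [conj_u]; group⟩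
  · rintro ⟨y, hy, h⟩
    exact ⟨y, hy, by rw [conj_u, ← h]; group⟩

end Par

/-- the standing hypotheses on `K` in the concrete half -/
structure Uni (K : Subgroup G) (σ : F →+* F) [hσ : Fact (∀ x, σ (σ x) = x)] (n : ℕ) where
  p : Par K σ n
  sim : IsSimpleGroup ↥K
  tight : TightAt K
  /-- `K` commutes with no conjugate -/
  std : ∀ g : G, ¬ cj g K ≤ centralizer (K : Set G)
  cen : ∀ x ∈ K, x ∈ centralizer (K : Set G) → x = 1
  /-- `O(C(K)) = 1` -/
  core : ∀ O : Subgroup G, O ≤ centralizer (K : Set G) →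
    (∀ x ∈ centralizer (K : Set G), ∀ o ∈ O, x * o * x⁻¹ ∈ O) → Odd (Nat.card O) → O = ⊥
  /-- `m₂(C(K)) ≥ 2` -/
  four : ∃ r ∈ centralizer (K : Set G), ∃ s ∈ centralizer (K : Set G), orderOf r = 2 ∧ orderOf s = 2 ∧
    r ≠ s ∧ r * s = s * r

/-- the same with another parametrisation of `K` -/
def Uni.change {K : Subgroup G} (X : Uni K σ n) (p' : Par K σ n) : Uni K σ n :=
  ⟨p', X.sim, X.tight, X.std, X.cen, X.core, X.four⟩

end Cfsg.Agent.OddHalf.D4.U3.ParDefs
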