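import Mathlib
import Cfsg.Agent.OddHalf.D4.U3.ParDefs

/-!
# ODD, D4, row `K = U₃(q)`: the digon, contract

`Dig X g`: `L = cj g K ≠ K`, a Sylow 2-subgroup `S` of `K` centralises `L` and `S_L = cj g S` centralises `K`.
`Out X g` collects what the pieces P (`DigOne`) and Q (`DigTwo`) prove about it; piece R (`DigThree`) uses only it.
-/

set_option autoImplicit false
set_option linter.dupNamespace false

namespace Cfsg.Agent.OddHalf.D4.U3.DigDefs

open Subgroup Cfsg.Agent.LieRecognition Cfsg.Agent.LieRecognition.HermHeis Cfsg.Agent.StdU3.URel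
  Cfsg.Agent.StdU3.Field Cfsg.Agent.StdU3.Semi Cfsg.Agent.OddHalf.D4.CommConj Cfsg.Agent.OddHalf.D4.Basic
open Cfsg.Agent.OddHalf.D4.U3.ParDefs

universe u v

variable {G : Type u} [Group G] {F : Type v} [Field F] [Fintype F] [CharP F 2] {σ : F →+* F}
  [hσ : Fact (∀ x, σ (σ x) = x)] {n : ℕ} {K : Subgroup G}

/-- the involutions that centralise a conjugate of `K` -/
def DD (K : Subgroup G) (d : G) : Prop :=
  orderOf d = 2 ∧ ∃ y : G, d ∈ centralizer ((cj y K : Subgroup G) : Set G)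

theorem mem_cent_cj {x d : G} {K : Subgroup G} :
    d ∈ centralizer ((cj x K : Subgroup G) : Set G) ↔ x⁻¹ * d * x ∈ centralizer (K : Set G) := by
  rw [centralizer_cj, mem_cj]

theorem mem_norm_cj {x d : G} {K : Subgroup G} :
    d ∈ normalizer ((cj x K : Subgroup G) : Set G) ↔ x⁻¹ * d * x ∈ normalizer (K : Set G) := by
  rw [normalizer_cj, mem_cj]

theorem DD.conj {d : G} (h : DD K d) (x : G) : DD K (x * d * x⁻¹) := by
  obtain ⟨h2, y, hy⟩ := h
  refine ⟨by rw [Basic.orderOf_conj, h2], x * y, ?_⟩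
  rw [mem_cent_cj] at hy ⊢
  have e : (x * y)⁻¹ * (x * d * x⁻¹) * (x * y) = y⁻¹ * d * y := by group
  rw [e]; exact hy

theorem dd_conj_iff {d x : G} : DD K (x * d * x⁻¹) ↔ DD K d := by
  refine ⟨fun h => ?_, fun h => h.conj x⟩
  have := h.conj x⁻¹
  have e : x⁻¹ * (x * d * x⁻¹) * x⁻¹⁻¹ = d := by group
  rwa [e] at this

theorem dd_cj {d x : G} : DD (cj x K) d ↔ DD K d := by
  constructor
  · rintro ⟨h2, y, hy⟩
    exact ⟨h2, y * x, by rw [cj_mul]; exact hy⟩
  · rintro ⟨h2, y, hy⟩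
    refine ⟨h2, y * x⁻¹, ?_⟩
    have e : cj (y * x⁻¹) (cj x K) = cj y K := by rw [← cj_mul]; congr 1; group
    rw [e]; exact hy

theorem dd_of_mem {d : G} (h2 : orderOf d = 2) (h : d ∈ centralizer (K : Set G)) : DD K d := by
  refine ⟨h2, 1, ?_⟩
  rw [mem_cent_cj]; simpa using h

/-- the conjugate of `K` centralised by `d ∈ DD` is unique -/
theorem DD.unique (hT : TightAt K) {d x y : G} (h2 : orderOf d = 2)
    (hx : d ∈ centralizer ((cj x K : Subgroup G) : Set G)) (hy : d ∈ centralizer ((cj y K : Subgroup G) : Set G)) :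
    cj x K = cj y K := by
  rw [mem_cent_cj] at hx hy
  have h1 : orderOf (x⁻¹ * d * x) = 2 := by
    have := Basic.orderOf_conj x⁻¹ d
    rw [inv_inv] at this
    rw [this, h2]
  have h3 : y⁻¹ * x ∈ normalizer (K : Set G) := by
    apply hT.tight (y⁻¹ * x) _ hx h1
    have e : y⁻¹ * x * (x⁻¹ * d * x) * (y⁻¹ * x)⁻¹ = y⁻¹ * d * y := by group
    rw [e]; exact hy
  have h4 := cj_eq_of_mem_normalizer h3
  rw [cj_mul] at h4
  calc cj x K = cj y (cj y⁻¹ (cj x K)) := (cj_cj_inv y _).symm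
    _ = cj y K := by rw [h4]

/-- the conjugate of the standing hypotheses -/
noncomputable def conjU (X : Uni K σ n) (g : G) : Uni (cj g K) σ n where
  p := X.p.conj g
  sim := (cjEquiv g K).isSimpleGroup_congr.mp X.sim
  tight := X.tight.cj g
  std := by
    intro x h
    apply X.std (g⁻¹ * x * g)
    intro y hy
    have h1 : g * y * g⁻¹ ∈ cj x (cj g K) := by
      rw [mem_cj, mem_cj] at *
      have e : g⁻¹ * (x⁻¹ * (g * y * g⁻¹) * x) * g = (g⁻¹ * x * g)⁻¹ * y * (g⁻¹ * x * g) := by group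
      rw [e]; exact hy
    have h2 := h h1
    rw [SetLike.mem_coe.symm] at h2
    have h3 : g * y * g⁻¹ ∈ centralizer ((cj g K : Subgroup G) : Set G) := h h1
    rw [mem_cent_cj] at h3
    have e : g⁻¹ * (g * y * g⁻¹) * g = y := by group
    rwa [e] at h3
  cen := by
    intro x hx hc
    rw [mem_cj] at hx
    rw [mem_cent_cj] at hc
    have h1 := X.cen _ hx hc
    have : x = g * (g⁻¹ * x * g) * g⁻¹ := by group
    rw [this, h1]; group
  core := by
    intro O hO hn hodd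
    have h1 : cj g⁻¹ O = ⊥ := by
      apply X.core
      · intro x hx
        rw [mem_cj, inv_inv] at hx
        have h2 := hO hx
        rw [mem_cent_cj] at h2
        have e : g⁻¹ * (g * x * g⁻¹) * g = x := by group
        rwa [e] at h2
      · intro x hx o ho
        rw [mem_cj, inv_inv] at ho ⊢
        have h2 : g * x * g⁻¹ ∈ centralizer ((cj g K : Subgroup G) : Set G) := by
          rw [mem_cent_cj]
          have e : g⁻¹ * (g * x * g⁻¹) * g = x := by group
          rw [e]; exact hx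
        have h3 := hn _ h2 _ ho
        have e : g * (x * o * x⁻¹) * g⁻¹ = g * x * g⁻¹ * (g * o * g⁻¹) * (g * x * g⁻¹)⁻¹ := by group
        rw [e]; exact h3
      · rw [card_cj]; exact hodd
    have h2 := cj_cj_inv g O
    rw [h1] at h2
    rw [← h2]
    exact Subgroup.map_bot _
  four := by
    obtain ⟨r, hr, s, hs, hr2, hs2, hne, hc⟩ := X.four
    refine ⟨g * r * g⁻¹, ?_, g * s * g⁻¹, ?_, ?_, ?_, ?_, ?_⟩
    · rw [mem_cent_cj]
      have e : g⁻¹ * (g * r * g⁻¹) * g = r := by group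
      rw [e]; exact hr
    · rw [mem_cent_cj]
      have e : g⁻¹ * (g * s * g⁻¹) * g = s := by group
      rw [e]; exact hs
    · rw [Basic.orderOf_conj, hr2]
    · rw [Basic.orderOf_conj, hs2]
    · intro h
      exact hne (mul_left_cancel (mul_right_cancel h))
    · calc g * r * g⁻¹ * (g * s * g⁻¹) = g * (r * s) * g⁻¹ := by group
        _ = g * (s * r) * g⁻¹ := by rw [hc]
        _ = _ := by group

theorem conjU_S (X : Uni K σ n) (g : G) : (conjU X g).p.S = cj g X.p.S := Par.conj_S _ _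
theorem conjU_Z (X : Uni K σ n) (g : G) : (conjU X g).p.Z = cj g X.p.Z := Par.conj_Z _ _

/-- the digon: `S` centralises `L = cj g K` and `S_L = cj g S` centralises `K` -/
structure Dig (X : Uni K σ n) (g : G) : Prop where
  nm : g ∉ normalizer (K : Set G)
  h1 : X.p.S ≤ centralizer ((cj g K : Subgroup G) : Set G)
  h2 : cj g X.p.S ≤ centralizer (K : Set G)

theorem Dig.symm {X : Uni K σ n} {g : G} (h : Dig X g) : Dig (conjU X g) g⁻¹ where
  nm := by
    intro h1
    apply h.nm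
    rw [mem_norm_cj] at h1
    have e : g⁻¹ * g⁻¹ * g = g⁻¹ := by group
    rw [e] at h1
    have h2 := inv_mem h1
    rwa [inv_inv] at h2
  h1 := by
    rw [conjU_S, cj_inv_cj]; exact h.h2
  h2 := by
    rw [conjU_S, cj_inv_cj]; exact h.h1

/-- **What the pieces P and Q prove.** `L = cj g K`, `S_L = cj g S`, `Z_L = cj g Z`. -/
structure Out (X : Uni K σ n) (g : G) : Prop where
  /-- `C(K) ≤ N(L)` -/
  C_le : centralizer (K : Set G) ≤ normalizer ((cj g K : Subgroup G) : Set G)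
  /-- `C(L) ≤ N(K)` -/
  J_le : centralizer ((cj g K : Subgroup G) : Set G) ≤ normalizer (K : Set G)
  /-- `[C(K), C(L)] = 1` -/
  comm : ∀ c ∈ centralizer (K : Set G), ∀ j ∈ centralizer ((cj g K : Subgroup G) : Set G), c * j = j * c
  /-- `C(K) ∩ C(L) = 1` -/
  inf : ∀ c ∈ centralizer (K : Set G), c ∈ centralizer ((cj g K : Subgroup G) : Set G) → c = 1
  /-- `K ∩ N(L) ≤ B` -/
  K_le : K ⊓ normalizer ((cj g K : Subgroup G) : Set G) ≤ X.p.B
  /-- `L ∩ N(K) ≤ B_L` -/
  L_le : cj g K ⊓ normalizer (K : Set G) ≤ cj g X.p.B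
  /-- `S_L` is the normal Sylow 2-subgroup of `C(K)` -/
  sylC : IsSyl (cj g X.p.S) (centralizer (K : Set G))
  nC : ∀ c ∈ centralizer (K : Set G), cj c (cj g X.p.S) = cj g X.p.S
  twoC : ∀ c ∈ centralizer (K : Set G), (∃ m : ℕ, c ^ 2 ^ m = 1) → c ∈ cj g X.p.S
  invC : ∀ c ∈ centralizer (K : Set G), orderOf c = 2 → c ∈ cj g X.p.Z
  /-- `S` is the normal Sylow 2-subgroup of `C(L)` -/
  sylJ : IsSyl X.p.S (centralizer ((cj g K : Subgroup G) : Set G))
  nJ : ∀ c ∈ centralizer ((cj g K : Subgroup G) : Set G), cj c X.p.S = X.p.S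
  twoJ : ∀ c ∈ centralizer ((cj g K : Subgroup G) : Set G), (∃ m : ℕ, c ^ 2 ^ m = 1) → c ∈ X.p.S
  invJ : ∀ c ∈ centralizer ((cj g K : Subgroup G) : Set G), orderOf c = 2 → c ∈ X.p.Z
  /-- the involutions of `K` are in `DD` -/
  ddK : ∀ x ∈ K, orderOf x = 2 → DD K x
  /-- **(Q1)** -/
  q1 : ∀ z ∈ X.p.Z, z ≠ 1 → ∀ v ∈ cj g X.p.Z, v ≠ 1 → ¬ DD K (z * v)
  /-- **(Q2)** for every conjugate `Y = cj y K` -/
  q2 : ∀ y : G, ∀ c ∈ centralizer ((cj y K : Subgroup G) : Set G), ∀ x ∈ cj y K, DD K (c * x) → c = 1 ∨ x = 1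

end Cfsg.Agent.OddHalf.D4.U3.DigDefs
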