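import Cfsg.Agent.OddHalf.D4.U3.ParFacts

/-!
# ODD, D4, row `K = U₃(q)`: 2-elements of `N(K)` centralising the torus centralise `K`

`cent_torus`: `p : Par K σ n`, `y ∈ N(K)` a 2-element commuting with all `p.d l` commutes with `K`.
-/

set_option autoImplicit false
set_option linter.dupNamespace false
set_option linter.unusedSectionVars false

namespace Cfsg.Agent.OddHalf.D4.U3.Torus

open Subgroup Cfsg.Agent.LieRecognition Cfsg.Agent.LieRecognition.HermHeis Cfsg.Agent.StdU3.URel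
  Cfsg.Agent.StdU3.URelAut Cfsg.Agent.StdU3.FieldAut
  Cfsg.Agent.StdU3.Field Cfsg.Agent.StdU3.Semi Cfsg.Agent.OddHalf.D4.CommConj Cfsg.Agent.OddHalf.D4.Basic
open Cfsg.Agent.OddHalf.D4.U3.ParDefs

universe u v

/-! ### The field -/

section field

variable {F : Type v} [Field F] [Fintype F] [CharP F 2] {σ : F →+* F} [hσ : Fact (∀ x, σ (σ x) = x)] {n : ℕ}

theorem ncard_fixed (h : Qd F n) : ({x : F | bar n x = x} : Set F).ncard = 2 ^ n := by
  let A : AddSubgroup F :=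
    { carrier := {x | bar n x = x}
      add_mem' := fun ha hb => fixed_add ha hb
      zero_mem' := bar_zero n
      neg_mem' := fun {x} hx => by
        have : -x = x := CharTwo.neg_eq x
        rw [this]; exact hx }
  let φ : F →+ F := AddMonoidHom.mk' (fun x => Tr n x) (fun x y => Tr_add n x y)
  have h1 : φ.ker = A := by
    ext x
    rw [AddMonoidHom.mem_ker]
    exact ⟨fun h => fixed_of_Tr h, fun h => Tr_of_fixed h⟩
  have h2 : φ.range = A := by
    ext x
    rw [AddMonoidHom.mem_range]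
    constructor
    · rintro ⟨y, rfl⟩; exact fixed_Tr h y
    · intro hx
      obtain ⟨y, hy⟩ := exists_Tr_eq h one_ne_zero hx
      exact ⟨bar n y, by rw [← hy, one_mul]; rfl⟩
  have h3 := AddSubgroup.card_mul_index φ.ker
  rw [AddSubgroup.index_ker, h1, h2, Nat.card_eq_fintype_card (α := F), h.hK, ← sq] at h3
  have h4 : Nat.card A = 2 ^ n := Nat.pow_left_injective (n := 2) (by norm_num) h3
  rw [← h4]
  exact (Nat.card_coe_set_eq _).symm

/-- the weights generate the field -/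
theorem eq_one_of_wt (hS : Sg σ n) {τ : F ≃+* F} (h : ∀ l : Fˣ, τ (wt σ l) = wt σ l) : τ = 1 := by
  obtain ⟨k, hk, hk3, -⟩ := exists_norm_one hS.hq
  have hσk : σ (k : F) = (k : F)⁻¹ := by
    rw [hS.eq]
    exact eq_inv_of_mul_eq_one_right hk
  have hw : wt σ k = (k : F) ^ 3 := by
    unfold wt
    rw [hσk, inv_inv]; ring
  have hnot : (k : F) ^ 3 ∉ ({x : F | bar n x = x} : Set F) := by
    intro h1
    have h1 : bar n ((k : F) ^ 3) = (k : F) ^ 3 := h1
    rw [bar_pow, ← hS.eq, hσk] at h1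
    have h2 : ((k : F) ^ 3 - 1) ^ 2 = 0 := by
      have h3 : ((k : F) ^ 3) * (k : F) ^ 3 = 1 := by
        nth_rewrite 1 [← h1]
        rw [← mul_pow, inv_mul_cancel₀ k.ne_zero, one_pow]
      have := CharTwo.two_eq_zero (R := F)
      linear_combination h3 - ((k : F) ^ 3 - 1) * this
    exact hk3 (sub_eq_zero.mp ((pow_eq_zero_iff two_ne_zero).mp h2))
  have hcard : 2 ^ n < (insert ((k : F) ^ 3) {x : F | bar n x = x} : Set F).ncard := by
    rw [Set.ncard_insert_of_notMem hnot (Set.toFinite _), ncard_fixed hS.hq]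
    omega
  refine (eq_one_of_fixed hS.hq (c := 1) hcard ?_).1
  intro x hx
  rw [one_mul]
  rcases hx with rfl | hx
  · rw [← hw]; exact h k
  · have hx : bar n x = x := hx
    by_cases h0 : x = 0
    · rw [h0, map_zero]
    · have h1 := h (Units.mk0 x h0)
      rw [wt_of_fixed σ (l := Units.mk0 x h0) (by rw [Units.val_mk0, hS.eq, hx])] at h1
      exact h1

theorem hat_hat (l : Fˣ) : hat σ (hat σ l) = l := by
  apply Units.ext
  rw [hat_val, hat_val, map_inv₀, HermHeis.sig, inv_inv]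

/-- no automorphism inverts the weights up to `σ` -/
theorem false_of_hat (hS : Sg σ n) {τ : F ≃+* F} (h : ∀ l : Fˣ, τ (wt σ l) = wt σ (hat σ l)) : False := by
  have h2 : τ * τ = 1 := by
    apply eq_one_of_wt hS
    intro l
    show τ (τ (wt σ l)) = wt σ l
    rw [h, h, hat_hat]
  obtain ⟨l, hl, hl1⟩ := exists_fixed_ne hS.hq
  have hlσ : σ (l : F) = l := by rw [hS.eq, hl]
  have hfix : τ (l : F) = l := by
    by_cases h1 : τ = 1
    · rw [h1]; rfl
    · rw [eq_bar hS.hq h2 h1]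
      exact hl
  have hhat : hat σ l = l⁻¹ := by
    apply Units.ext
    rw [hat_val, hlσ, Units.val_inv_eq_inv_val]
  have h3 := h l
  rw [hhat, wt_inv, wt_of_fixed σ hlσ, hfix] at h3
  have h4 : (l : F) * l = 1 := by
    nth_rewrite 1 [h3]
    exact inv_mul_cancel₀ l.ne_zero
  apply hl1
  have h5 : ((l : F) - 1) ^ 2 = 0 := by
    have := CharTwo.two_eq_zero (R := F)
    linear_combination h4 - ((l : F) - 1) * this
  exact sub_eq_zero.mp ((pow_eq_zero_iff two_ne_zero).mp h5)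

/-- a scalar of 2-power order is one -/
theorem eq_one_of_pow {c : F} {m : ℕ} (h : c ^ 2 ^ m = 1) : c = 1 := by
  have h1 : (c - 1) ^ 2 ^ m = 0 := by
    rw [sub_pow_char_pow, h, one_pow, sub_self]
  exact sub_eq_zero.mp ((pow_eq_zero_iff (pow_ne_zero _ two_ne_zero)).mp h1)

/-- no nontrivial element is fixed by the torus -/
theorem eq_one_of_act (hS : Sg σ n) {x : Heis σ} (h : ∀ l : Fˣ, act l x = x) : x = 1 := by
  obtain ⟨l, hl, hl1⟩ := (fieldOK hS).fixed
  have hl1' : (l : F) ≠ 1 := fun h => hl1 (Units.ext h)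
  have hw : wt σ l ≠ 1 := by rwa [wt_of_fixed σ hl]
  have hn : nm σ l ≠ 1 := by
    rw [nm_of_fixed σ hl]
    intro h
    apply hl1'
    have h1 : ((l : F) - 1) ^ 2 = 0 := by
      have := CharTwo.two_eq_zero (R := F)
      linear_combination h - ((l : F) - 1) * this
    exact sub_eq_zero.mp ((pow_eq_zero_iff (two_ne_zero)).mp h1)
  exact act_fixed_eq_one hw hn (h l)

end field

/-! ### The group -/

variable {G : Type u} [Group G] {F : Type v} [Field F] [Fintype F] [CharP F 2] {σ : F →+* F}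
  [hσ : Fact (∀ x, σ (σ x) = x)] {n : ℕ} {K : Subgroup G}

theorem pw_bot (p : Par K σ n) : PW p.u (⊥ : Subgroup G) where
  inj := p.u_inj
  comm := by
    intro r hr x
    rw [mem_bot.mp hr, one_mul, mul_one]
  sq := by
    intro r hr
    rw [mem_bot.mp hr, one_mul]
  disj := fun x hx => p.u_eq_one (mem_bot.mp hx)

/-- the semilinear action on `S / Z` of an element normalising `S` -/
theorem exists_sl (p : Par K σ n) {y : G} (hy : cj y p.S = p.S) :
    ∃ c : F, c ≠ 0 ∧ ∃ τ : F ≃+* F, SL p.u (⊥ : Subgroup G) y c τ := by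
  have h : Nm p.u (⊥ : Subgroup G) y := by
    intro x
    have h1 : y * p.u x * y⁻¹ ∈ p.S := by
      rw [← hy]; exact mem_cj_mul (p.u_mem x)
    obtain ⟨x', hx'⟩ := h1
    exact ⟨x', 1, one_mem _, by rw [one_mul, hx']⟩
  obtain ⟨c, hc, τ, h1, -⟩ := h.exists_SL p.hS (pw_bot p)
  exact ⟨c, hc, τ, h1⟩

theorem sl_bot {p : Par K σ n} {y : G} {c : F} {τ : F ≃+* F} (h : SL p.u (⊥ : Subgroup G) y c τ) (x : Heis σ) :
    ∃ x' : Heis σ, y * p.u x * y⁻¹ = p.u x' ∧ x'.a = c * τ x.a := by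
  obtain ⟨x', r, hr, h1, h2⟩ := h x
  rw [mem_bot.mp hr, one_mul] at h1
  exact ⟨x', h1, h2⟩

/-- if `y d(l) y⁻¹ = d(f l)` then `τ (wt l) = wt (f l)` -/
theorem sl_wt (p : Par K σ n) {y : G} {c : F} (hc : c ≠ 0) {τ : F ≃+* F} (h : SL p.u (⊥ : Subgroup G) y c τ)
    {l m : Fˣ} (hl : y * p.d l * y⁻¹ = p.d m) : τ (wt σ l) = wt σ m := by
  obtain ⟨x, hx⟩ := exists_a p.hS (1 : F)
  obtain ⟨x', h1, h2⟩ := sl_bot h x
  obtain ⟨x'', h3, h4⟩ := sl_bot h (act l x)
  have h5 : y * p.u (act l x) * y⁻¹ = p.u (act m x') := by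
    rw [← p.d_u, ← p.d_u]
    calc y * (p.d l * p.u x * (p.d l)⁻¹) * y⁻¹
        = (y * p.d l * y⁻¹) * (y * p.u x * y⁻¹) * (y * p.d l * y⁻¹)⁻¹ := by group
      _ = p.d m * p.u x' * (p.d m)⁻¹ := by rw [hl, h1]
  rw [h3] at h5
  have h6 := congrArg Heis.a (p.u_inj h5)
  rw [h4, act_a, act_a, h2, hx, mul_one, map_one, mul_one] at h6
  apply mul_left_cancel₀ hc
  rw [h6, mul_comm]

/-- powers of an element acting linearly -/
theorem sl_pow (p : Par K σ n) {y : G} {c : F} (h : SL p.u (⊥ : Subgroup G) y c 1) (m : ℕ) :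
    SL p.u (⊥ : Subgroup G) (y ^ m) (c ^ m) 1 := by
  induction m with
  | zero => rw [pow_zero, pow_zero]; exact SL.one
  | succ m ih =>
    have h1 := SL.mul (pw_bot p) (s := y ^ m) (s' := y) (by
      intro r hr
      exact ⟨1, 1, one_mem _, by rw [mem_bot.mp hr]; simp, rfl⟩) ih h
    rw [pow_succ, pow_succ]
    exact h1

/-- an element centralising the torus and normalising `S` -/
theorem cent_of_norm [Finite G] (p : Par K σ n) {y : G} (hy : y ∈ normalizer (K : Set G))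
    (h2 : ∃ m : ℕ, y ^ 2 ^ m = 1) (hc : ∀ l, y * p.d l = p.d l * y) (hS : cj y p.S = p.S) :
    y ∈ centralizer (K : Set G) := by
  have hfin : Finite ↥K := Finite.of_injective (fun x : ↥K => (x : G)) (fun _ _ h => Subtype.ext h)
  obtain ⟨c, hc0, τ, hsl⟩ := exists_sl p hS
  have hτ : τ = 1 := by
    apply eq_one_of_wt p.hS
    intro l
    exact sl_wt p hc0 hsl (by rw [hc l, mul_inv_cancel_right])
  subst hτ
  obtain ⟨m, hm⟩ := h2
  have h3 := sl_pow p hsl (2 ^ m)
  rw [hm] at h3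
  have h4 := (h3.unique p.hS (pw_bot p) SL.one).1
  have hc1 : c = 1 := eq_one_of_pow h4
  subst hc1
  set φ : MulAut K := K.normalizerMonoidHom ⟨y, hy⟩ with hφ
  have hφa : ∀ k : K, ((φ k : K) : G) = y * k * y⁻¹ := fun k => rfl
  have ht : Triv p.R φ := by
    intro x
    obtain ⟨x', h5, h6⟩ := sl_bot hsl x
    refine ⟨x', Subtype.ext ?_, ?_⟩
    · rw [hφa]; exact h5
    · rw [h6, one_mul]; rfl
  obtain ⟨x, hx⟩ := ht.inner (fieldOK p.hS)
  have hK : ∀ k ∈ K, y * k * y⁻¹ = p.u x * k * (p.u x)⁻¹ := by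
    intro k hk
    have h7 := hφa ⟨k, hk⟩
    rw [hx] at h7
    exact h7.symm
  have hx1 : x = 1 := by
    apply eq_one_of_act p.hS
    intro l
    apply p.u_inj
    rw [← p.d_u]
    have h8 := hK _ (p.d_mem l)
    rw [hc l, mul_inv_cancel_right] at h8
    rw [mul_inv_eq_iff_eq_mul]
    rw [eq_mul_inv_iff_mul_eq] at h8
    exact h8
  subst hx1
  rw [mem_centralizer_iff]
  intro k hk
  have h9 := hK k hk
  rw [map_one, one_mul, inv_one, mul_one, mul_inv_eq_iff_eq_mul] at h9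
  exact h9.symm

/-- **2-elements of `N(K)` centralising the torus centralise `K`.** -/
theorem cent_torus [Finite G] (p : Par K σ n) {y : G} (hy : y ∈ normalizer (K : Set G))
    (h2 : ∃ m : ℕ, y ^ 2 ^ m = 1) (hc : ∀ l, y * p.d l = p.d l * y) :
    y ∈ centralizer (K : Set G) := by
  by_cases hS : cj y p.S = p.S
  · exact cent_of_norm p hy h2 hc hS
  exfalso
  -- `y S y⁻¹ = k⁻¹ S k`
  have hyK : cj y p.S ≤ K := by
    rintro _ ⟨s, hs, rfl⟩
    exact (mem_normalizer_iff.mp hy s).mp (p.S_le hs)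
  obtain ⟨k, hk, hle⟩ := p.exists_cj_le (T := cj y p.S) (p.S_two.map _) hyK
  have heq : cj k (cj y p.S) = p.S := by
    apply eq_of_le_of_card_ge hle
    rw [card_cj, card_cj]
  have heq' : cj y p.S = cj k⁻¹ p.S := by
    rw [← cj_inv_cj k (cj y p.S), heq]
  have hkB : k⁻¹ ∉ p.B := by
    intro h
    exact hS (by rw [heq', p.cj_S_of_B h])
  obtain ⟨x, v, l, hkx⟩ := p.bruhat (K.inv_mem hk) hkB
  have h3 : cj y p.S = cj (p.u x) (cj p.w p.S) := by
    rw [heq', hkx, cj_mul, cj_mul, p.cj_S_of_B (p.mem_B.mpr ⟨v, l, rfl⟩)]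
  have hw1 : p.w⁻¹ = p.w := inv_eq_of_mul_eq_one_right p.w_w
  -- the torus normalises it, so `x = 1`
  have hx1 : x = 1 := by
    apply eq_one_of_act p.hS
    intro l
    have h4 : cj (p.d l) (cj y p.S) = cj y p.S := by
      rw [← cj_mul, ← hc l, cj_mul, p.cj_S_of_B (p.d_mem_B l)]
    rw [h3] at h4
    have h5 : cj (p.w⁻¹ * (p.u x)⁻¹ * p.d l * p.u x * p.w) p.S = p.S := by
      rw [cj_mul, cj_mul, cj_mul, cj_mul, h4, cj_inv_cj, cj_inv_cj]
    have h6 : p.w⁻¹ * (p.u x)⁻¹ * p.d l * p.u x * p.w ∈ p.B := by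
      apply p.mem_B_of_cj _ h5
      exact K.mul_mem (K.mul_mem (K.mul_mem (K.mul_mem (K.inv_mem p.w_mem) (K.inv_mem (p.u_mem_K x)))
        (p.d_mem l)) (p.u_mem_K x)) p.w_mem
    have h7 : p.w * p.u (x⁻¹ * act l x) * p.w ∈ p.B := by
      have e : p.w * p.u (x⁻¹ * act l x) * p.w =
          (p.w⁻¹ * (p.u x)⁻¹ * p.d l * p.u x * p.w) * p.d (hat σ l)⁻¹ := by
        have e1 : p.w * p.d (hat σ l)⁻¹ = (p.d l)⁻¹ * p.w := by
          rw [map_inv, mul_inv_eq_iff_eq_mul, mul_assoc, ← p.d_conj_w, inv_mul_cancel_left]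
        calc p.w * p.u (x⁻¹ * act l x) * p.w
            = p.w * ((p.u x)⁻¹ * (p.d l * p.u x * (p.d l)⁻¹)) * p.w := by
              rw [map_mul, map_inv, p.d_u]
          _ = p.w * (p.u x)⁻¹ * p.d l * p.u x * ((p.d l)⁻¹ * p.w) := by group
          _ = _ := by rw [← e1, hw1]; group
      rw [e]
      exact mul_mem h6 (p.d_mem_B _)
    have h8 : p.R.w * p.R.u (x⁻¹ * act l x) * p.R.w ∈ p.R.B := p.mem_RB.mpr h7
    have h9 := p.R.eq_one_of_conj h8
    exact (inv_mul_eq_one.mp h9).symm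
  subst hx1
  have h4 : cj y p.S = cj p.w p.S := by
    rw [h3, map_one]
    ext t
    rw [mem_cj]; simp
  have h5 : cj (p.w * y) p.S = p.S := by
    rw [cj_mul, h4, ← cj_mul, p.w_w]
    ext t
    rw [mem_cj]; simp
  obtain ⟨c, hc0, τ, hsl⟩ := exists_sl p h5
  apply false_of_hat p.hS (τ := τ)
  intro l
  apply sl_wt p hc0 hsl
  have e1 : p.w * p.d l = p.d (hat σ l) * p.w := congrArg Subtype.val (p.R.w_d l)
  calc p.w * y * p.d l * (p.w * y)⁻¹ = p.w * (y * p.d l) * y⁻¹ * p.w⁻¹ := by group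
    _ = p.w * (p.d l * y) * y⁻¹ * p.w⁻¹ := by rw [hc l]
    _ = (p.w * p.d l) * p.w⁻¹ := by group
    _ = p.d (hat σ l) := by rw [e1]; group

end Cfsg.Agent.OddHalf.D4.U3.Torus
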