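import Cfsg.Agent.OddHalf.D4.Digon
import Cfsg.Agent.OddHalf.D4.U3.FrInst
import Cfsg.Agent.OddHalf.D4.U3.Torus

/-!
# ODD, D4, row `K = U₃(q)`: the digon

`facts`: the facts of `Digon.Facts` for a `Uni`; `digon_false`: no digon.
-/

set_option autoImplicit false
set_option linter.dupNamespace false

namespace Cfsg.Agent.OddHalf.D4.U3.DigFacts

open Subgroup Cfsg.Agent.LieRecognition Cfsg.Agent.LieRecognition.HermHeis Cfsg.Agent.StdU3.URel
  Cfsg.Agent.StdU3.Field Cfsg.Agent.StdU3.Semi Cfsg.Agent.OddHalf.D4.Basic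
  Cfsg.Agent.StrongEmb.Basic Cfsg.Agent.StrongEmb.TwoRank Cfsg.Agent.StrongEmb.Split Cfsg.Agent.StrongEmb.Consequences
open Cfsg.Agent.OddHalf.D4.CommConj (Tight cj mem_cj cj_mul card_cj cj_eq_of_mem_normalizer
  mem_normalizer_of_cj_eq mem_cj_mul)
open Cfsg.Agent.OddHalf.D4.U3.ParDefs Cfsg.Agent.OddHalf.D4.U3

universe u v

variable {G : Type u} [Group G] {F : Type v} [Field F] [Fintype F] [CharP F 2] {σ : F →+* F}
  [hσ : Fact (∀ x, σ (σ x) = x)] {n : ℕ} {K : Subgroup G}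

/-- the torus has odd order -/
theorem odd_T (p : Par K σ n) : Odd (Nat.card ↥p.d.range) := by
  have h1 : Nat.card ↥p.d.range ∣ Nat.card Fˣ := Subgroup.card_range_dvd p.d
  refine Odd.of_dvd_nat ?_ h1
  rw [Nat.card_units, p.hF, ← pow_mul]
  have h2 : 0 < n * 2 := by
    have := p.hS.hq.hn
    omega
  have h3 : Even (2 ^ (n * 2)) := (even_two).pow_of_ne_zero (by omega)
  have h4 : 0 < 2 ^ (n * 2) := by positivity
  obtain ⟨m, hm⟩ := h3
  exact ⟨m - 1, by omega⟩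

/-- two commuting involutions of `S` -/
theorem exists_pair [Finite G] (p : Par K σ n) :
    ∃ a ∈ p.S, ∃ b ∈ p.S, orderOf a = 2 ∧ orderOf b = 2 ∧ a ≠ b ∧ a * b = b * a := by
  have hn := p.hS.hq.hn
  have hc : 4 ≤ Nat.card ↥p.Z := by
    rw [p.card_Z]
    calc 4 = 2 ^ 2 := by norm_num
      _ ≤ 2 ^ n := Nat.pow_le_pow_right (by norm_num) hn
  obtain ⟨a, ha, ha1⟩ := p.exists_Z_ne
  have h2 : ∃ b ∈ p.Z, b ≠ 1 ∧ b ≠ a := by
    by_contra hcon
    push Not at hcon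
    have h3 : (p.Z : Set G) ⊆ {1, a} := by
      intro b hb
      by_cases hb1 : b = 1
      · left; exact hb1
      · right; exact hcon b hb hb1
    have h4 := Set.ncard_le_ncard h3 (Set.toFinite _)
    have h5 : (p.Z : Set G).ncard = Nat.card ↥p.Z := (Nat.card_coe_set_eq _).symm
    have h6 : ({1, a} : Set G).ncard ≤ 2 := Set.ncard_insert_le _ _ |>.trans (by rw [Set.ncard_singleton])
    omega
  obtain ⟨b, hb, hb1, hba⟩ := h2
  have ord : ∀ z ∈ p.Z, z ≠ 1 → orderOf z = 2 := fun z hz hz1 =>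
    orderOf_eq_prime (by rw [pow_two]; exact p.Z_sq hz) hz1
  exact ⟨a, p.Z_le_S ha, b, p.Z_le_S hb, ord a ha ha1, ord b hb hb1, fun h => hba h.symm,
    p.Z_comm ha (p.Z_le_S hb)⟩

/-- **The facts on `K`.** -/
theorem facts [Finite G] (X : Uni K σ n) : Digon.Facts K X.p.S X.p.d.range X.p.w where
  S_le := X.p.S_le
  T_le := by
    rintro _ ⟨l, rfl⟩
    exact X.p.d_mem l
  w_mem := X.p.w_mem
  two := X.p.S_two
  odd := odd_T X.p
  TS := by
    rintro _ ⟨l, rfl⟩ _ ⟨x, rfl⟩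
    rw [X.p.d_u]
    exact ⟨_, rfl⟩
  wT := by
    have hw1 : X.p.w⁻¹ = X.p.w := inv_eq_of_mul_eq_one_right X.p.w_w
    have h1 : ∀ l, X.p.w * X.p.d l * X.p.w⁻¹ = X.p.d (hat σ l) := by
      intro l
      rw [hw1, mul_assoc, X.p.d_conj_w, ← mul_assoc, X.p.w_w, one_mul]
    rw [mem_normalizer_iff]
    intro h
    constructor
    · rintro ⟨l, rfl⟩
      exact ⟨_, (h1 l).symm⟩
    · rintro ⟨l, hl⟩
      refine ⟨hat σ l, ?_⟩
      rw [← h1 l, hl, hw1]
      calc X.p.w * (X.p.w * h * X.p.w) * X.p.w = (X.p.w * X.p.w) * h * (X.p.w * X.p.w) := by group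
        _ = h := by rw [X.p.w_w, one_mul, mul_one]
  gen := by
    intro Y hS hT hw g hg
    have hB : ∀ b ∈ X.p.B, b ∈ Y := by
      intro b hb
      obtain ⟨y, l, rfl⟩ := X.p.mem_B.mp hb
      exact mul_mem (hS (X.p.u_mem y)) (hT ⟨l, rfl⟩)
    by_cases h : g ∈ X.p.B
    · exact hB g h
    · obtain ⟨x, y, l, rfl⟩ := X.p.bruhat hg h
      exact mul_mem (mul_mem (hS (X.p.u_mem x)) hw) (mul_mem (hS (X.p.u_mem y)) (hT ⟨l, rfl⟩))
  simp := by
    intro N hN ⟨x, hx, hxK, hx1⟩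
    rcases Fr.simple X.sim (N := N ⊓ K) inf_le_right (fun k hk x hx =>
      ⟨hN k hk x hx.1, K.mul_mem (K.mul_mem hk hx.2) (K.inv_mem hk)⟩) with h | h
    · exfalso
      apply hx1
      have : x ∈ N ⊓ K := ⟨hx, hxK⟩
      rw [h] at this
      exact mem_bot.mp this
    · exact inf_eq_right.mp h
  cen := X.cen
  pair := exists_pair X.p
  f1 := fun y hy h => X.p.inner_of_act hy (Par.Act.of_comm h)
  f2 := fun y hy h2 h => Torus.cent_torus X.p hy h2 fun l => h _ ⟨l, rfl⟩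

/-- **No digon.** -/
theorem digon_false [Finite G] (hBen : ∀ (Y : Type u) [Group Y] [Finite Y], BenderHolds Y) (X : Uni K σ n) (g : G)
    (hg : g ∉ normalizer (K : Set G)) (h1 : X.p.S ≤ centralizer ((cj g K : Subgroup G) : Set G))
    (h2 : cj g X.p.S ≤ centralizer (K : Set G)) : False :=
  Digon.false_of hBen (facts X) X.tight X.std X.core hg h1 h2

end Cfsg.Agent.OddHalf.D4.U3.DigFacts
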