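import Cfsg.Agent.OddHalf.D4.U3.Tools
import Cfsg.Agent.OddHalf.D4.RkEnd.End

/-!
# ODD, D4, row `K = U₃(q)`, `q = 2 ^ n ≥ 4`: PIECE J (the end), core

`false_of`: `Syl D T`, `T` Sylow in `G`, an element of `T` conjugate into `Z` is in `Z` or of type `U`: contradiction.
-/

set_option autoImplicit false
set_option linter.unusedSectionVars false

namespace Cfsg.Agent.OddHalf.D4.U3.EndCore

open Subgroup Cfsg.Agent.StdU3.Field Cfsg.Agent.StdU3.PreDef Cfsg.Agent.OddHalf.D4.CommConj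
  Cfsg.Agent.OddHalf.D4.Basic Cfsg.Agent.OddHalf.D4.U3.Defs Cfsg.Agent.OddHalf.D4.U3.Tools

universe u v

variable {G : Type u} [Group G] {F : Type v} [Field F] [Fintype F] [CharP F 2] {n : ℕ}
  {D : Dat G F n} {T : Subgroup G}

theorem norm_of (hT : Syl D T) {x : G} (hx : x ∈ T) : cj x D.P = D.P :=
  cj_eq_of_mem_normalizer (hT.syl.le hx)

theorem norm_Z (hT : Syl D T) {x : G} (hx : x ∈ T) {y : G} (hy : y ∈ D.Z) : x * y * x⁻¹ ∈ D.Z :=
  conj_Z D.toChart (norm_of hT hx) hy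

/-- an element of `T` with square in `P` centralizes `Z` -/
theorem comm_Z (hT : Syl D T) {x : G} (hx : x ∈ T) (hx2 : x * x ∈ D.P) {y : G} (hy : y ∈ D.Z) :
    x * y = y * x := by
  rcases hT.typ x hx hx2 with h | h | h | h
  · exact Z_central D.toChart h hy
  all_goals
    obtain ⟨b, hb, rfl⟩ := hy
    exact h.2.1 b hb

theorem Z_le_T (hT : Syl D T) : D.Z ≤ T := (Z_le D.toChart).trans hT.le

/-- elements of type `U` are not in `P` -/
theorem notMem_of_U {b : G} (hU : TypU D b) : b ∉ D.P := by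
  intro hb
  obtain ⟨-, -, -, -, c₀, θ, -, hθ, -, h⟩ := hU
  obtain ⟨p, hp, -, hpc, hpf⟩ := D.surj 0 0 1 (bar_zero n) D.one_mem
  obtain ⟨-, h2, -⟩ := h p hp
  rw [D.c_mul _ (D.P.mul_mem hb hp) _ (D.P.inv_mem hb), D.c_mul b hb p hp,
    D.toChart.c_inv hb, hpc, hpf, add_zero, Cfsg.Agent.StdU3.Field.add_self, mul_one] at h2
  exact hθ h2.symm

theorem sq_inj {x y : F} (h : x ^ 2 = y ^ 2) : x = y := by
  have h1 : (x + y) ^ 2 = 0 := by
    have h2 : (x + y) ^ 2 = x ^ 2 + y ^ 2 + (x * y + x * y) := by ring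
    rw [h2, h, Cfsg.Agent.StdU3.Field.add_self, Cfsg.Agent.StdU3.Field.add_self, add_zero]
  exact Cfsg.Agent.StdU3.Field.add_eq_zero.mp (pow_eq_zero_iff (two_ne_zero) |>.mp h1)

theorem exists_sqrt (a : F) : ∃ x : F, x ^ 2 = a := by
  have h1 : ringChar F = 2 := ringChar.eq_iff.mpr inferInstance
  obtain ⟨r, hr⟩ := FiniteField.isSquare_of_char_two h1 a
  exact ⟨r, by rw [hr, sq]⟩

/-- `p = s (b s b⁻¹)` with `b p b⁻¹ = p z(ε)`, `p² = z(ε)` -/
theorem twist {b : G} (hU : TypU D b) (hb2 : b * b = 1) {ε : F} (hε : bar n ε = ε) :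
    ∃ p ∈ D.P, b * p * b⁻¹ = p * D.z ε ∧ p * p = D.z ε := by
  obtain ⟨hP, -, hkap, -, c₀, θ, hc₀, hθ, -, h⟩ := hU
  obtain ⟨x, hx⟩ := exists_sqrt (c₀ * ε)
  have hN : c₀ * bar n c₀ = 1 := by rw [← N_def]; exact hc₀
  have hxb : c₀ * bar n x = x := by
    apply sq_inj
    have h1 : (c₀ * bar n x) ^ 2 = c₀ ^ 2 * bar n (x ^ 2) := by rw [bar_pow]; ring
    rw [h1, hx, bar_mul, hε]
    calc c₀ ^ 2 * (bar n c₀ * ε) = c₀ * (c₀ * bar n c₀) * ε := by ring
      _ = c₀ * ε := by rw [hN, mul_one]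
  have hNx : N n x = ε := by
    have h1 : bar n x = x * bar n c₀ := by
      calc bar n x = (c₀ * bar n c₀) * bar n x := by rw [hN, one_mul]
        _ = (c₀ * bar n x) * bar n c₀ := by ring
        _ = x * bar n c₀ := by rw [hxb]
    rw [N_def, h1]
    calc x * (x * bar n c₀) = x ^ 2 * bar n c₀ := by ring
      _ = c₀ * bar n c₀ * ε := by rw [hx]; ring
      _ = ε := by rw [hN, one_mul]
  obtain ⟨e, he⟩ := exists_Tr_one D.hq
  rw [Tr_def] at he
  obtain ⟨s, hs, hsa, hsc, hsf⟩ := D.surj (x * e) 0 0 (bar_zero n) (zero_mem _)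
  obtain ⟨h1, h2, h3⟩ := h s hs
  have ht : b * s * b⁻¹ ∈ D.P := by
    have := mem_cj_mul (g := b) hs
    rwa [hP] at this
  set t := b * s * b⁻¹ with htdef
  rw [hsa] at h1
  rw [hsf, mul_zero] at h2
  rw [hsc, mul_zero] at h3
  have hadd : x * e + c₀ * bar n (x * e) = x := by
    rw [bar_mul, ← mul_assoc, hxb, ← mul_add, he, mul_one]
  have hpa : D.a (s * t) = x := by rw [D.a_mul s hs t ht, hsa, h1, hadd]
  have hpc : D.c (s * t) = 0 := by rw [D.c_mul s hs t ht, hsc, h2, add_zero]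
  have hpf : D.f (s * t) = 0 := by rw [D.f_mul s hs t ht, hsf, h3, add_zero]
  have hp : s * t ∈ D.P := D.P.mul_mem hs ht
  refine ⟨s * t, hp, ?_, ?_⟩
  · have hbt : b * (s * t) * b⁻¹ = t * s := by
      rw [htdef]
      calc b * (s * (b * s * b⁻¹)) * b⁻¹ = b * s * b⁻¹ * ((b * b) * s * (b * b)⁻¹) := by group
        _ = b * s * b⁻¹ * s := by rw [hb2]; group
    rw [hbt, D.comm t ht s hs, h1, hsa, h2, h3, hsc, hsf]
    have hB : Tr n (c₀ * bar n (x * e) * bar n (x * e)) + ((0 : F) * 0 + 0 * 0) = ε := by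
      have h4 := N_add' D.hq (x * e) (c₀ * bar n (x * e))
      have h5 : N n (c₀ * bar n (x * e)) = N n (x * e) := by rw [N_mul, N_bar D.hq, hc₀, one_mul]
      rw [hadd, hNx, h5, Cfsg.Agent.StdU3.Field.add_self, zero_add, Tr_comm D.hq] at h4
      rw [← h4]
      ring
    rw [hB]
    exact (z_comm D.toChart hp hε).symm
  · rw [D.sq _ hp, hpa, hpc, hpf, hNx, mul_zero, mul_zero, add_zero, add_zero]

theorem card_le_two_mul [Finite G] {A B : Subgroup G} (t : G) (h : ∀ b ∈ B, b ∈ A ∨ t * b ∈ A) :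
    Nat.card B ≤ 2 * Nat.card A := by
  classical
  let φ : B → A × Bool := fun b =>
    if hb : (b : G) ∈ A then (⟨b, hb⟩, true) else (⟨t * b, (h b b.2).resolve_left hb⟩, false)
  have hφ : Function.Injective φ := by
    intro b b' hbb
    by_cases h1 : (b : G) ∈ A <;> by_cases h2 : (b' : G) ∈ A
    · simp only [φ, dif_pos h1, dif_pos h2, Prod.mk.injEq, Subtype.mk.injEq] at hbb
      exact Subtype.ext hbb.1
    · simp [φ, h1, h2] at hbb
    · simp [φ, h1, h2] at hbb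
    · simp only [φ, dif_neg h1, dif_neg h2, Prod.mk.injEq, Subtype.mk.injEq] at hbb
      exact Subtype.ext (mul_left_cancel hbb.1)
  have h3 := Nat.card_le_card_of_injective φ hφ
  rw [Nat.card_prod, Nat.card_eq_fintype_card (α := Bool), Fintype.card_bool] at h3
  omega

theorem two_mul_card_le [Finite G] {A B : Subgroup G} (t : G) (hA : A ≤ B) (ht : t ∉ A)
    (h : ∀ a ∈ A, a * t ∈ B) : 2 * Nat.card A ≤ Nat.card B := by
  classical
  let φ : A × Bool → B := fun p => bif p.2 then ⟨p.1, hA p.1.2⟩ else ⟨p.1 * t, h _ p.1.2⟩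
  have hφ : Function.Injective φ := by
    rintro ⟨a, i⟩ ⟨a', j⟩ hp
    cases i <;> cases j
    · have h1 := congrArg Subtype.val hp
      have h2 : (a : G) = a' := mul_right_cancel h1
      rw [Subtype.ext h2]
    · exfalso
      have h1 : (a : G) * t = a' := congrArg Subtype.val hp
      apply ht
      have h2 : t = (a : G)⁻¹ * a' := by rw [← h1]; group
      rw [h2]
      exact A.mul_mem (A.inv_mem a.2) a'.2
    · exfalso
      have h1 : (a : G) = a' * t := congrArg Subtype.val hp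
      apply ht
      have h2 : t = (a' : G)⁻¹ * a := by rw [h1]; group
      rw [h2]
      exact A.mul_mem (A.inv_mem a'.2) a.2
    · have h1 : (a : G) = (a' : G) := congrArg (fun x : B => (x : G)) hp
      rw [Subtype.ext h1]
  have h3 := Nat.card_le_card_of_injective φ hφ
  rw [Nat.card_prod, Nat.card_eq_fintype_card (α := Bool), Fintype.card_bool] at h3
  omega

/-- normalization of the conjugating element -/
theorem normalise [Finite G] (hT : Syl D T) (htop : IsSyl T ⊤) {b g : G} (hg : g * b * g⁻¹ ∈ D.Z)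
    (hb1 : b ≠ 1) : ∃ g' : G, g' * b * g'⁻¹ ∈ D.Z ∧ (∀ t ∈ T, t * (g' * b * g'⁻¹) = (g' * b * g'⁻¹) * t) ∧
      ∀ x ∈ T, x * b = b * x → g' * x * g'⁻¹ ∈ T := by
  obtain ⟨b₁, hb₁, hgb⟩ := hg
  have hne : b₁ ≠ 0 := by
    rintro rfl
    rw [D.toChart.z_zero] at hgb
    exact hb1 (by
      calc b = g⁻¹ * (g * b * g⁻¹) * g := by group
        _ = 1 := by rw [hgb]; group)
  have hZne : D.Z ≠ ⊥ := by
    intro h
    have h1 : D.z b₁ ∈ D.Z := ⟨b₁, hb₁, rfl⟩
    rw [h, mem_bot] at h1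
    exact hne (D.z_inj b₁ hb₁ h1)
  obtain ⟨z₀, hz₀, hz₀2, hz₀c⟩ := exists_central_invol (T := T) (N := D.Z) htop.two (Z_le_T hT) hZne
    (fun t ht y hy => norm_Z hT ht hy)
  obtain ⟨b₀, hb₀, hzb⟩ := hz₀
  have hne₀ : b₀ ≠ 0 := by
    rintro rfl
    rw [D.toChart.z_zero] at hzb
    rw [hzb, orderOf_one] at hz₀2
    omega
  obtain ⟨l, hl⟩ := exists_norm D.hq (b := b₀ * b₁⁻¹) (fixed_mul hb₀ (fixed_inv hb₁))
  have hl0 : l ≠ 0 := by
    rintro rfl
    rw [N_zero] at hl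
    exact (mul_ne_zero hne₀ (inv_ne_zero hne)) hl.symm
  set L : Fˣ := Units.mk0 l hl0 with hL
  have h1 : (D.h L * g) * b * (D.h L * g)⁻¹ = z₀ := by
    calc (D.h L * g) * b * (D.h L * g)⁻¹ = D.h L * (g * b * g⁻¹) * (D.h L)⁻¹ := by group
      _ = D.z (N n (L : F) * b₁) := by rw [hgb, D.h_z L b₁ hb₁]
      _ = z₀ := by
        rw [hzb, hL, Units.val_mk0, hl, mul_assoc, inv_mul_cancel₀ hne, mul_one]
  set g₁ := D.h L * g with hg₁
  have hTz : T ≤ centralizer ({z₀} : Set G) := by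
    intro t ht
    rw [mem_centralizer_singleton_iff]
    exact hz₀c t ht
  have hS : IsSyl T (centralizer ({z₀} : Set G)) := htop.mono hTz le_top
  have hC2 : IsPGroup 2 ↥(cj g₁ (T ⊓ centralizer ({b} : Set G))) :=
    (htop.two.to_le inf_le_left).map _
  have hCle : cj g₁ (T ⊓ centralizer ({b} : Set G)) ≤ centralizer ({z₀} : Set G) := by
    rintro _ ⟨x, hx, rfl⟩
    rw [mem_centralizer_singleton_iff]
    have h2 := mem_centralizer_singleton_iff.mp hx.2
    show g₁ * x * g₁⁻¹ * z₀ = z₀ * (g₁ * x * g₁⁻¹)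
    rw [← h1]
    calc g₁ * x * g₁⁻¹ * (g₁ * b * g₁⁻¹) = g₁ * (x * b) * g₁⁻¹ := by group
      _ = g₁ * (b * x) * g₁⁻¹ := by rw [h2]
      _ = g₁ * b * g₁⁻¹ * (g₁ * x * g₁⁻¹) := by group
  obtain ⟨m, hm, hmq⟩ := hS.conj_into hC2 hCle
  have hm' := mem_centralizer_singleton_iff.mp hm
  have h2 : (m * g₁) * b * (m * g₁)⁻¹ = z₀ := by
    calc (m * g₁) * b * (m * g₁)⁻¹ = m * (g₁ * b * g₁⁻¹) * m⁻¹ := by group
      _ = m * z₀ * m⁻¹ := by rw [h1]
      _ = z₀ := by rw [hm']; group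
  refine ⟨m * g₁, ?_, ?_, ?_⟩
  · rw [h2]; exact ⟨b₀, hb₀, hzb⟩
  · rw [h2]; exact hz₀c
  · intro x hx hxb
    have h3 := hmq (g₁ * x * g₁⁻¹) (mem_cj_mul ⟨hx, mem_centralizer_singleton_iff.mpr hxb⟩)
    have h4 : m * (g₁ * x * g₁⁻¹) * m⁻¹ = m * g₁ * x * (m * g₁)⁻¹ := by group
    rwa [h4] at h3

/-- **no element of type `U` is conjugate into `Z`** -/
theorem false_U [Finite G] (hT : Syl D T) (htop : IsSyl T ⊤)
    (hin : ∀ b ∈ T, b ≠ 1 → (∃ g : G, g * b * g⁻¹ ∈ D.Z) → b ∈ D.Z ∨ TypU D b)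
    {b g₀ : G} (hb : b ∈ T) (hU : TypU D b) (hg₀ : g₀ * b * g₀⁻¹ ∈ D.Z) : False := by
  have hbP := notMem_of_U hU
  have hb1 : b ≠ 1 := fun h => hbP (h ▸ D.P.one_mem)
  have hbZ : b ∉ D.Z := fun h => hbP (Z_le D.toChart h)
  obtain ⟨g, hg, hgc, hgT⟩ := normalise hT htop hg₀ hb1
  set z₀ := g * b * g⁻¹ with hz₀
  have hb2 : b * b = 1 := by
    have h1 := Z_sq D.toChart hg
    calc b * b = g⁻¹ * (z₀ * z₀) * g := by rw [hz₀]; group
      _ = 1 := by rw [h1]; group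
  have hbcomm : ∀ y ∈ D.Z, y * b = b * y := by
    intro y hy
    obtain ⟨β, hβ, rfl⟩ := hy
    exact (hU.2.1 β hβ).symm
  have hz₀sq : z₀ * z₀ = 1 := Z_sq D.toChart hg
  -- elements `z β b` are conjugate to `b`
  have hconj : ∀ y ∈ D.Z, ∃ p : G, p * (y * b) * p⁻¹ = b := by
    intro y hy
    obtain ⟨β, hβ, rfl⟩ := hy
    obtain ⟨p, hp, hp1, -⟩ := twist hU hb2 hβ
    refine ⟨p, ?_⟩
    have h1 : b * p = p * (D.z β * b) := by
      calc b * p = b * p * b⁻¹ * b := by group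
        _ = p * D.z β * b := by rw [hp1]
        _ = p * (D.z β * b) := by group
    calc p * (D.z β * b) * p⁻¹ = b * p * p⁻¹ := by rw [h1]
      _ = b := by group
  -- the two cases for elements of `B₀`
  have hB1 : ∀ y ∈ D.Z, g * y * g⁻¹ ∈ T := fun y hy => hgT y (Z_le_T hT hy) (hbcomm y hy)
  have hB2 : ∀ y ∈ D.Z, g * (y * b) * g⁻¹ ∈ T := by
    intro y hy
    apply hgT _ (T.mul_mem (Z_le_T hT hy) hb)
    rw [mul_assoc, ← mul_assoc b y b, ← hbcomm y hy]; group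
  have hcase1 : ∀ y ∈ D.Z, g * y * g⁻¹ ∈ D.Z ∨ TypU D (g * y * g⁻¹) := by
    intro y hy
    by_cases hy1 : y = 1
    · left; rw [hy1]
      have : g * 1 * g⁻¹ = 1 := by group
      rw [this]; exact D.Z.one_mem
    apply hin _ (hB1 y hy)
    · intro h
      apply hy1
      calc y = g⁻¹ * (g * y * g⁻¹) * g := by group
        _ = 1 := by rw [h]; group
    · refine ⟨g⁻¹, ?_⟩
      have : g⁻¹ * (g * y * g⁻¹) * g⁻¹⁻¹ = y := by group
      rw [this]; exact hy
  have hcase2 : ∀ y ∈ D.Z, g * (y * b) * g⁻¹ ∈ D.Z ∨ TypU D (g * (y * b) * g⁻¹) := by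
    intro y hy
    obtain ⟨p, hp⟩ := hconj y hy
    apply hin _ (hB2 y hy)
    · intro h
      apply hb1
      have h1 : y * b = 1 := by
        calc y * b = g⁻¹ * (g * (y * b) * g⁻¹) * g := by group
          _ = 1 := by rw [h]; group
      rw [← hp, h1]; group
    · refine ⟨g * p * g⁻¹, ?_⟩
      have : g * p * g⁻¹ * (g * (y * b) * g⁻¹) * (g * p * g⁻¹)⁻¹ = g * (p * (y * b) * p⁻¹) * g⁻¹ := by group
      rw [this, hp]; exact hg
  -- the subgroup `B₀ = Z × ⟨b⟩`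
  let B₀ : Subgroup G :=
    { carrier := {w | w ∈ D.Z ∨ w * b ∈ D.Z}
      one_mem' := Or.inl D.Z.one_mem
      mul_mem' := by
        rintro x y (hx | hx) (hy | hy)
        · exact Or.inl (D.Z.mul_mem hx hy)
        · right
          show x * y * b ∈ D.Z
          rw [mul_assoc]; exact D.Z.mul_mem hx hy
        · right
          show x * y * b ∈ D.Z
          have h1 := D.Z.mul_mem hx hy
          rw [mul_assoc, hbcomm y hy |>.symm, ← mul_assoc] at h1
          exact h1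
        · left
          show x * y ∈ D.Z
          have h1 := D.Z.mul_mem hx hy
          have h2 : x * b * (y * b) = x * y := by
            calc x * b * (y * b) = x * b * (y * b) * 1 := by group
              _ = x * (b * (y * b)) := by group
              _ = x * ((y * b) * b) := by rw [← hbcomm _ hy]
              _ = x * y * (b * b) := by group
              _ = x * y := by rw [hb2, mul_one]
          rwa [h2] at h1
      inv_mem' := by
        rintro x (hx | hx)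
        · exact Or.inl (D.Z.inv_mem hx)
        · right
          show x⁻¹ * b ∈ D.Z
          have h1 := D.Z.inv_mem hx
          have hbi : b⁻¹ = b := inv_eq_of_mul_eq_one_right hb2
          have h3 := hbcomm _ h1
          have h2 : x⁻¹ * b = (x * b)⁻¹ := by
            calc x⁻¹ * b = b * (x * b)⁻¹ * b := by group
              _ = (x * b)⁻¹ * b * b := by rw [← h3]
              _ = (x * b)⁻¹ * (b * b) := by group
              _ = (x * b)⁻¹ := by rw [hb2, mul_one]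
          rw [h2]; exact h1 }
  have hmemB : ∀ w, w ∈ B₀ ↔ w ∈ D.Z ∨ w * b ∈ D.Z := fun w => Iff.rfl
  have hBcase : ∀ w ∈ B₀, g * w * g⁻¹ ∈ D.Z ∨ TypU D (g * w * g⁻¹) ∧ g * w * g⁻¹ ∈ T := by
    intro w hw
    rcases (hmemB w).mp hw with h | h
    · rcases hcase1 w h with h1 | h1
      · exact Or.inl h1
      · exact Or.inr ⟨h1, hB1 w h⟩
    · have h2 : w * b * b = w := by rw [mul_assoc, hb2, mul_one]
      rcases hcase2 _ h with h1 | h1
      · rw [h2] at h1; exact Or.inl h1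
      · have h3 := hB2 _ h
        rw [h2] at h1 h3
        exact Or.inr ⟨h1, h3⟩
  -- `Z ≤ cj g B₀`
  have hZB : D.Z ≤ B₀ := fun y hy => Or.inl hy
  have hbB : b ∈ B₀ := Or.inr (by rw [hb2]; exact D.Z.one_mem)
  have hcard1 : 2 * Nat.card D.Z ≤ Nat.card B₀ := by
    refine two_mul_card_le b hZB hbZ ?_
    intro a ha
    right
    show a * b * b ∈ D.Z
    rw [mul_assoc, hb2, mul_one]; exact ha
  have hcard2 : Nat.card B₀ ≤ 2 * Nat.card (D.Z ⊓ cj g B₀ : Subgroup G) := by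
    rw [← card_cj g B₀]
    by_cases hex : ∃ w ∈ B₀, TypU D (g * w * g⁻¹) ∧ g * w * g⁻¹ ∈ T
    · obtain ⟨w, hw, hwU, hwT⟩ := hex
      apply card_le_two_mul (g * w * g⁻¹)
      rintro _ ⟨y, hy, rfl⟩
      show g * y * g⁻¹ ∈ _ ∨ g * w * g⁻¹ * (g * y * g⁻¹) ∈ _
      rcases hBcase y hy with h1 | ⟨h1, h1T⟩
      · exact Or.inl ⟨h1, mem_cj_mul hy⟩
      · right
        have h2 := hT.UU _ hwT _ h1T hwU h1
        have h3 : g * w * g⁻¹ * (g * y * g⁻¹) = g * (w * y) * g⁻¹ := by group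
        rw [h3] at h2 ⊢
        have h4 := B₀.mul_mem hw hy
        rcases hBcase _ h4 with h5 | ⟨h5, -⟩
        · exact ⟨h5, mem_cj_mul h4⟩
        · exact absurd h2 (notMem_of_U h5)
    · apply card_le_two_mul 1
      rintro _ ⟨y, hy, rfl⟩
      left
      show g * y * g⁻¹ ∈ _
      rcases hBcase y hy with h1 | ⟨h1, h1T⟩
      · exact ⟨h1, mem_cj_mul hy⟩
      · exact absurd ⟨y, hy, h1, h1T⟩ hex
  have hZle : ∀ w ∈ D.Z, g⁻¹ * w * g ∈ D.Z ∨ g⁻¹ * (w * z₀) * g ∈ D.Z := by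
    have h1 : D.Z ⊓ cj g B₀ = D.Z := by
      apply eq_of_le_of_card_ge inf_le_left
      omega
    intro w hw
    rw [← h1] at hw
    have h2 := mem_cj.mp hw.2
    rcases (hmemB _).mp h2 with h3 | h3
    · exact Or.inl h3
    · right
      have h4 : g⁻¹ * (w * z₀) * g = g⁻¹ * w * g * b := by rw [hz₀]; group
      rw [h4]; exact h3
  -- an element `y₁ ≠ 1` of `Z ∩ cj g Z`
  obtain ⟨y₁, hy₁, hy₁1, hy₁g⟩ : ∃ y₁ ∈ D.Z, y₁ ≠ 1 ∧ g⁻¹ * y₁ * g ∈ D.Z := by
    by_contra hcon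
    push Not at hcon
    have h4 := four_le_card D.toChart
    classical
    let φ : D.Z → Bool := fun w => decide ((w : G) = 1)
    have hφ : Function.Injective φ := by
      intro w w' hww
      by_cases h1 : (w : G) = 1
      · have h2 : (w' : G) = 1 := by
          have h3 : decide ((w : G) = 1) = decide ((w' : G) = 1) := hww
          rw [decide_eq_true h1] at h3
          exact of_decide_eq_true h3.symm
        exact Subtype.ext (h1.trans h2.symm)
      · have h2 : (w' : G) ≠ 1 := by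
          intro h2
          apply h1
          have h3 : decide ((w : G) = 1) = decide ((w' : G) = 1) := hww
          rw [decide_eq_true h2] at h3
          exact of_decide_eq_true h3
        have h3 : ∀ v ∈ D.Z, v ≠ 1 → v = z₀ := by
          intro v hv hv1
          rcases hZle v hv with h | h
          · exact absurd h (hcon v hv hv1)
          · by_contra hne
            refine hcon (v * z₀) (D.Z.mul_mem hv hg) ?_ h
            intro h5
            apply hne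
            calc v = v * z₀ * z₀ := by rw [mul_assoc, hz₀sq, mul_one]
              _ = z₀ := by rw [h5, one_mul]
        exact Subtype.ext ((h3 w w.2 h1).trans (h3 w' w'.2 h2).symm)
    have h5 := Nat.card_le_card_of_injective φ hφ
    rw [Nat.card_eq_fintype_card (α := Bool), Fintype.card_bool] at h5
    have h6 : Nat.card D.Z ≤ 2 := h5
    omega
  obtain ⟨ε, hε, hεy⟩ := hy₁g
  have hy₁e : y₁ = g * D.z ε * g⁻¹ := by rw [← hεy]; group
  obtain ⟨p, hp, hp1, hp2⟩ := twist hU hb2 hε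
  have hzε := z_sq D.toChart hε
  have hpb : p * b * p⁻¹ = D.z ε * b := by
    have h1 : b * p⁻¹ * b⁻¹ = (p * D.z ε)⁻¹ := by rw [← hp1]; group
    have h2 := z_comm D.toChart hp hε
    have h3 : (D.z ε)⁻¹ = D.z ε := inv_eq_of_mul_eq_one_right hzε
    calc p * b * p⁻¹ = p * (b * p⁻¹ * b⁻¹) * b := by group
      _ = p * ((D.z ε)⁻¹ * p⁻¹) * b := by rw [h1, mul_inv_rev]
      _ = (p * D.z ε) * p⁻¹ * b := by rw [h3]; group
      _ = D.z ε * b := by rw [h2]; group
  set u := g * p * g⁻¹ with hu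
  -- `u` on `Z ∩ cj g Z`
  have hu1 : ∀ w, g⁻¹ * w * g ∈ D.Z → u * w * u⁻¹ = w := by
    intro w hw
    have h1 := Z_central D.toChart hp hw
    calc u * w * u⁻¹ = g * (p * (g⁻¹ * w * g)) * p⁻¹ * g⁻¹ := by rw [hu]; group
      _ = g * ((g⁻¹ * w * g) * p) * p⁻¹ * g⁻¹ := by rw [h1]
      _ = w := by group
  have hu2 : u * z₀ * u⁻¹ = y₁ * z₀ := by
    calc u * z₀ * u⁻¹ = g * (p * b * p⁻¹) * g⁻¹ := by rw [hu, hz₀]; group
      _ = g * (D.z ε * b) * g⁻¹ := by rw [hpb]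
      _ = y₁ * z₀ := by rw [hy₁e, hz₀]; group
  have huZ : ∀ w ∈ D.Z, u * w * u⁻¹ ∈ D.Z := by
    intro w hw
    rcases hZle w hw with h | h
    · rw [hu1 w h]; exact hw
    · have h1 := hu1 _ h
      have h2 : u * w * u⁻¹ = (u * (w * z₀) * u⁻¹) * (u * z₀ * u⁻¹)⁻¹ := by group
      rw [h2, h1, hu2]
      exact D.Z.mul_mem (D.Z.mul_mem hw hg) (D.Z.inv_mem (D.Z.mul_mem hy₁ hg))
  have huN : cj u D.Z = D.Z := by
    apply eq_of_le_of_card_ge
    · rintro _ ⟨w, hw, rfl⟩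
      exact huZ w hw
    · rw [card_cj]
  have hTN : T ≤ normalizer (D.Z : Set G) := by
    intro t ht
    apply mem_normalizer_of_cj_eq
    apply eq_of_le_of_card_ge
    · rintro _ ⟨w, hw, rfl⟩
      exact norm_Z hT ht hw
    · rw [card_cj]
  have hS : IsSyl T (normalizer (D.Z : Set G)) := htop.mono hTN le_top
  have hu2grp : IsPGroup 2 ↥(zpowers u) := by
    have h1 : zpowers u ≤ cj g D.P := by
      rw [zpowers_le]
      exact mem_cj_mul hp
    exact (D.two.map (MulAut.conj g).toMonoidHom).to_le h1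
  obtain ⟨m, hm, hmu⟩ := hS.conj_into hu2grp (by rw [zpowers_le]; exact mem_normalizer_of_cj_eq huN)
  have hu' := hmu u (mem_zpowers u)
  have hmZ : cj m D.Z = D.Z := cj_eq_of_mem_normalizer hm
  have hmZ' : ∀ y ∈ D.Z, m * y * m⁻¹ ∈ D.Z := by
    intro y hy
    have := mem_cj_mul (g := m) hy
    rwa [hmZ] at this
  have husq : m * u * m⁻¹ * (m * u * m⁻¹) ∈ D.P := by
    have h1 : m * u * m⁻¹ * (m * u * m⁻¹) = m * y₁ * m⁻¹ := by
      calc m * u * m⁻¹ * (m * u * m⁻¹) = m * (g * (p * p) * g⁻¹) * m⁻¹ := by rw [hu]; group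
        _ = m * y₁ * m⁻¹ := by rw [hp2, hy₁e]
    rw [h1]
    exact Z_le D.toChart (hmZ' y₁ hy₁)
  have h1 := comm_Z hT hu' husq (hmZ' z₀ hg)
  have h2 : u * z₀ * u⁻¹ = z₀ := by
    calc u * z₀ * u⁻¹ = m⁻¹ * ((m * u * m⁻¹) * (m * z₀ * m⁻¹)) * m * u⁻¹ := by group
      _ = m⁻¹ * ((m * z₀ * m⁻¹) * (m * u * m⁻¹)) * m * u⁻¹ := by rw [h1]
      _ = z₀ := by group
  rw [hu2] at h2
  exact hy₁1 (by simpa using h2)

/-- **the end**: `gold` is S1169 -/
theorem false_of [Finite G] [IsSimpleGroup G] (gold : Cfsg.Agent.StdSz.EndClosed.Gold.{u})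
    (hT : Syl D T) (htop : IsSyl T ⊤)
    (hin : ∀ b ∈ T, b ≠ 1 → (∃ g : G, g * b * g⁻¹ ∈ D.Z) → b ∈ D.Z ∨ TypU D b) : False := by
  obtain ⟨v, hv, hva, hvc, hvf⟩ := D.surj 0 0 1 (bar_zero n) D.one_mem
  obtain ⟨x, hx, y, hy, hxy⟩ := exists_comm D.toChart (bar_one (K := F) n)
  have hz1 : D.z 1 ≠ 1 := fun h => one_ne_zero (D.z_inj 1 (bar_one n) h)
  refine Cfsg.Agent.OddHalf.D4.RkEnd.End.false_of_strong gold (S := T) (A := D.Z) htop (Z_le_T hT)
    (fun a ha => Z_sq D.toChart ha) ⟨D.z 1, ⟨1, bar_one n, rfl⟩, hz1⟩ ?_ ?_ ?_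
  · intro a ha g hga
    by_cases ha1 : a = 1
    · rw [ha1]
      have : g * 1 * g⁻¹ = 1 := by group
      rw [this]; exact D.Z.one_mem
    have hex : g⁻¹ * (g * a * g⁻¹) * g⁻¹⁻¹ ∈ D.Z := by
      have : g⁻¹ * (g * a * g⁻¹) * g⁻¹⁻¹ = a := by group
      rw [this]; exact ha
    rcases hin _ hga (by
      intro h
      apply ha1
      calc a = g⁻¹ * (g * a * g⁻¹) * g := by group
        _ = 1 := by rw [h]; group) ⟨g⁻¹, hex⟩ with h | h
    · exact h
    · exact (false_U hT htop hin hga h hex).elim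
  · refine ⟨v, hT.le hv, ?_, ?_⟩
    · intro h
      have := (coord_of_Z D.toChart h).2.2
      rw [hvf] at this
      exact one_ne_zero this
    · rw [D.sq v hv, hva, hvc, N_zero, mul_zero, zero_mul, add_zero, add_zero, D.toChart.z_zero]
  · refine ⟨x, hT.le hx, y, hT.le hy, ?_⟩
    intro h
    apply hz1
    rw [← hxy, h]
    group

/-- the existence of a rich subgroup commuting with `b` -/
def HasRich (D : Dat G F n) (b : G) : Prop := ∃ R ≤ D.P, (∀ r ∈ R, r * b = b * r) ∧ Rich D R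

/-- glue of the pieces G, H, I -/
theorem in_of (hT : Syl D T)
    (closed : ∀ b ∈ T, b ≠ 1 → HasRich D b → (∃ g : G, g * b * g⁻¹ ∈ D.Z) → b ∈ D.Z)
    (richP : ∀ b ∈ D.P, b ∉ D.Z → b * b = 1 → HasRich D b)
    (richF : ∀ b ∈ T, TypF D b → b * b = 1 → HasRich D b)
    (richG : ∀ b ∈ T, TypG D b → b * b = 1 → HasRich D b) :
    ∀ b ∈ T, b ≠ 1 → (∃ g : G, g * b * g⁻¹ ∈ D.Z) → b ∈ D.Z ∨ TypU D b := by
  intro b hb hb1 hg
  have hb2 : b * b = 1 := by
    obtain ⟨g, hg⟩ := hg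
    have h1 := Z_sq D.toChart hg
    calc b * b = g⁻¹ * (g * b * g⁻¹ * (g * b * g⁻¹)) * g := by group
      _ = 1 := by rw [h1]; group
  rcases hT.typ b hb (by rw [hb2]; exact D.P.one_mem) with h | h | h | h
  · by_cases hZ : b ∈ D.Z
    · exact Or.inl hZ
    · exact Or.inl (closed b hb hb1 (richP b h hZ hb2) hg)
  · exact Or.inl (closed b hb hb1 (richF b hb h hb2) hg)
  · exact Or.inl (closed b hb hb1 (richG b hb h hb2) hg)
  · exact Or.inr h

end Cfsg.Agent.OddHalf.D4.U3.EndCore
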