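import Cfsg.Agent.OddHalf.D4.U3.Defs

/-!
# ODD, D4, row `U₃(q)`: PIECE G, subgroups of `P` rich in commutators

`rich_a`: `R ≤ P` with all `a`-coordinates and `[p, p'] = z (Tr (a ā'))` is rich. `rich_cf`: the same for all
`(c, f)`-coordinates and `[p, p'] = z (c f' + c' f)`. `richP`: an involution of `P` outside `Z` centralises a rich subgroup.
-/

set_option autoImplicit false

namespace Cfsg.Agent.OddHalf.D4.U3.RichP

open Subgroup Cfsg.Agent.StdU3.Field Cfsg.Agent.OddHalf.D4.U3.Defs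

universe u v

open scoped commutatorElement

section index

variable {G : Type u} [Group G] [Finite G]

/-- two elements outside a subgroup of index at most two -/
theorem mem_of_index_two {R₀ R : Subgroup G} (h : R₀.relIndex R ≤ 2) {x y : G} (hx : x ∈ R) (hy : y ∈ R)
    (hx0 : x ∉ R₀) (hy0 : y ∉ R₀) : x⁻¹ * y ∈ R₀ := by
  have h1 : (R₀.subgroupOf R).index ≤ 2 := h
  have h2 : Nat.card (↥R ⧸ R₀.subgroupOf R) ≤ 2 := h1
  by_contra hc
  have hfin : Finite (↥R ⧸ R₀.subgroupOf R) := inferInstance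
  let e : Fin 3 → ↥R ⧸ R₀.subgroupOf R := ![QuotientGroup.mk 1, QuotientGroup.mk ⟨x, hx⟩, QuotientGroup.mk ⟨y, hy⟩]
  have h01 : e 0 ≠ e 1 := by
    intro h3
    have h3' : (QuotientGroup.mk (1 : ↥R) : ↥R ⧸ R₀.subgroupOf R) = QuotientGroup.mk ⟨x, hx⟩ := h3
    rw [QuotientGroup.eq, inv_one, one_mul, mem_subgroupOf] at h3'
    exact hx0 h3'
  have h02 : e 0 ≠ e 2 := by
    intro h3
    have h3' : (QuotientGroup.mk (1 : ↥R) : ↥R ⧸ R₀.subgroupOf R) = QuotientGroup.mk ⟨y, hy⟩ := h3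
    rw [QuotientGroup.eq, inv_one, one_mul, mem_subgroupOf] at h3'
    exact hy0 h3'
  have h12 : e 1 ≠ e 2 := by
    intro h3
    have h3' : (QuotientGroup.mk (⟨x, hx⟩ : ↥R) : ↥R ⧸ R₀.subgroupOf R) = QuotientGroup.mk ⟨y, hy⟩ := h3
    rw [QuotientGroup.eq, mem_subgroupOf] at h3'
    exact hc h3'
  have hinj : Function.Injective e := by
    intro i j hij
    fin_cases i <;> fin_cases j
    · rfl
    · exact absurd hij h01
    · exact absurd hij h02
    · exact absurd hij.symm h01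
    · rfl
    · exact absurd hij h12
    · exact absurd hij.symm h02
    · exact absurd hij.symm h12
    · rfl
  have h4 := Nat.card_le_card_of_injective e hinj
  rw [Nat.card_eq_fintype_card, Fintype.card_fin] at h4
  omega

/-- a homomorphism on `R` with more values than the index is not trivial on `R₀` -/
theorem exists_ne_of_index {R₀ R : Subgroup G} {A : Type v} [AddCommGroup A] (φ : G → A)
    (hφ : ∀ x ∈ R, ∀ y ∈ R, φ (x * y) = φ x + φ y) {m : ℕ} (h : R₀.relIndex R ≤ m) (s : Finset A)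
    (hs : m < s.card) (hsurj : ∀ α ∈ s, ∃ r ∈ R, φ r = α) : ∃ r ∈ R₀, φ r ≠ 0 := by
  classical
  by_contra hc
  push Not at hc
  have h1 : φ 1 = 0 := hc 1 R₀.one_mem
  choose g hg hgφ using hsurj
  let e : s → ↥R ⧸ R₀.subgroupOf R := fun α => QuotientGroup.mk ⟨g α.1 α.2, hg α.1 α.2⟩
  have hinj : Function.Injective e := by
    intro α β hαβ
    have h3' : (QuotientGroup.mk (⟨g α.1 α.2, hg α.1 α.2⟩ : ↥R) : ↥R ⧸ R₀.subgroupOf R)
      = QuotientGroup.mk ⟨g β.1 β.2, hg β.1 β.2⟩ := hαβ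
    rw [QuotientGroup.eq, mem_subgroupOf] at h3'
    have h4 := hc _ h3'
    have h5 : φ ((g α.1 α.2)⁻¹ * g β.1 β.2) = φ (g α.1 α.2)⁻¹ + φ (g β.1 β.2) :=
      hφ _ (R.inv_mem (hg _ _)) _ (hg _ _)
    have h6 : φ (g α.1 α.2) + φ (g α.1 α.2)⁻¹ = 0 := by
      rw [← hφ _ (hg _ _) _ (R.inv_mem (hg _ _)), mul_inv_cancel, h1]
    have h7 : φ ((g α.1 α.2)⁻¹ * g β.1 β.2) = 0 := h4
    rw [h5] at h7
    have h8 : φ (g α.1 α.2) = φ (g β.1 β.2) := by
      have h9 : φ (g α.1 α.2) + (φ (g α.1 α.2)⁻¹ + φ (g β.1 β.2)) = φ (g α.1 α.2) := by rw [h7, add_zero]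
      rw [← add_assoc, h6, zero_add] at h9
      exact h9.symm
    rw [hgφ, hgφ] at h8
    exact Subtype.ext h8
  have h4 := Nat.card_le_card_of_injective e hinj
  rw [Nat.card_eq_fintype_card, Fintype.card_coe] at h4
  have h5 : Nat.card (↥R ⧸ R₀.subgroupOf R) = R₀.relIndex R := rfl
  omega

/-- subgroups between `R₀` and `R`: if the index of `K₀` is at least that of `R₀`, then `K₀ = R₀` -/
theorem le_of_index {R₀ K₀ R : Subgroup G} (h1 : R₀ ≤ K₀) (h2 : K₀ ≤ R) (h : R₀.relIndex R ≤ K₀.relIndex R) :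
    K₀ ≤ R₀ := by
  have h3 := relIndex_mul_relIndex R₀ K₀ R h1 h2
  have h4 : K₀.relIndex R ≠ 0 := (K₀.subgroupOf R).index_ne_zero_of_finite
  have h5 : R₀.relIndex K₀ ≠ 0 := (R₀.subgroupOf K₀).index_ne_zero_of_finite
  have h6 : R₀.relIndex K₀ = 1 := by
    by_contra hc
    have h7 : 2 ≤ R₀.relIndex K₀ := by omega
    have h8 : 2 * K₀.relIndex R ≤ R₀.relIndex K₀ * K₀.relIndex R := Nat.mul_le_mul_right _ h7
    omega
  exact relIndex_eq_one.mp h6

end index

variable {G : Type u} [Group G] {F : Type v} [Field F] [Fintype F] [CharP F 2] {n : ℕ}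

/-- the commutator formula -/
theorem comm_eq (D : Chart G F n) {x y : G} (hx : x ∈ D.P) (hy : y ∈ D.P) :
    ⁅x, y⁆ = D.z (Tr n (D.a x * bar n (D.a y)) + (D.c x * D.f y + D.c y * D.f x)) := by
  rw [commutatorElement_def, D.comm x hx y hy]
  group

theorem fixed_B (D : Chart G F n) {x y : G} (hx : x ∈ D.P) (hy : y ∈ D.P) :
    bar n (Tr n (D.a x * bar n (D.a y)) + (D.c x * D.f y + D.c y * D.f x)) =
      Tr n (D.a x * bar n (D.a y)) + (D.c x * D.f y + D.c y * D.f x) :=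
  fixed_add (fixed_Tr D.hq _) (fixed_add (fixed_mul (D.fix_c x hx) (D.fix_Phi _ (D.f_mem y hy)))
    (fixed_mul (D.fix_c y hy) (D.fix_Phi _ (D.f_mem x hx))))

/-- elements of `P` commute when the form vanishes -/
theorem commute_of (D : Chart G F n) {x y : G} (hx : x ∈ D.P) (hy : y ∈ D.P)
    (h : Tr n (D.a x * bar n (D.a y)) + (D.c x * D.f y + D.c y * D.f x) = 0) : x * y = y * x := by
  rw [D.comm x hx y hy, h, D.z_zero, one_mul]

/-- **(LA)**, index at most two: the field part. `A` = the coordinates of the subgroup, `M` = the commutators. -/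
theorem span_a (hq : Qd F n) (A M : F → Prop) (hA : ∀ x y, A x → A y → A (x + y))
    (hA2 : ∀ x y, ¬ A x → ¬ A y → A (x + y)) (hM : ∀ x y, M x → M y → M (x + y))
    (hAM : ∀ x y, A x → A y → M (Tr n (x * bar n y))) {b : F} (hb : bar n b = b) : M b := by
  classical
  by_contra hMb
  -- two different nonzero elements of `A`
  have h4 := four_le hq
  have hcard : 16 ≤ Fintype.card F := by
    rw [hq.hK]
    nlinarith
  have hA0 : A 0 := by
    by_contra h0
    have := hA2 0 0 h0 h0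
    rw [add_zero] at this
    exact h0 this
  -- for nonzero `x ∈ A` and `y` with `Tr (x ȳ)` outside `M`, `y ∉ A`
  have hex : ∃ x x' : F, A x ∧ A x' ∧ x ≠ 0 ∧ x' ≠ 0 ∧ x ≠ x' := by
    -- a set of 4 elements `0, p, q, p+q` contains at least 2 in `A`; simply use three distinct nonzero ones
    by_contra hc
    push Not at hc
    -- the nonzero elements of `A` are at most one
    have hone : ∃ w : F, ∀ x, A x → x = 0 ∨ x = w := by
      by_cases h : ∃ w, A w ∧ w ≠ 0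
      · obtain ⟨w, hw, hw0⟩ := h
        refine ⟨w, fun x hx => ?_⟩
        by_cases hx0 : x = 0
        · exact Or.inl hx0
        · exact Or.inr (hc x w hx hw hx0 hw0)
      · push Not at h
        exact ⟨0, fun x hx => Or.inl (h x hx)⟩
    obtain ⟨w, hw⟩ := hone
    -- so the field has at most four elements
    have hv : ∃ v : F, ¬ A v ∧ v ≠ 0 := by
      by_contra hv
      push Not at hv
      have h5 : (Finset.univ : Finset F) ⊆ {0, w} := by
        intro x _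
        rw [Finset.mem_insert, Finset.mem_singleton]
        by_cases hx : A x
        · exact hw x hx
        · exact Or.inl (hv x hx)
      have h6 := Finset.card_le_card h5
      have h7 := (Finset.card_insert_le (0 : F) {w})
      rw [Finset.card_singleton] at h7
      rw [Finset.card_univ] at h6
      omega
    obtain ⟨v, hv, -⟩ := hv
    have h5 : (Finset.univ : Finset F) ⊆ {0, w, v, v + w} := by
      intro x _
      simp only [Finset.mem_insert, Finset.mem_singleton]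
      by_cases hx : A x
      · rcases hw x hx with h | h
        · exact Or.inl h
        · exact Or.inr (Or.inl h)
      · rcases hw _ (hA2 x v hx hv) with h | h
        · exact Or.inr (Or.inr (Or.inl (Cfsg.Agent.StdU3.Field.add_eq_zero.mp h)))
        · right; right; right
          rw [← h, add_comm v, add_add_self]
    have h6 := Finset.card_le_card h5
    have h7 := Finset.card_le_four (a := (0 : F)) (b := w) (c := v) (d := v + w)
    rw [Finset.card_univ] at h6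
    omega
  obtain ⟨x, x', hx, hx', hx0, hx'0, hne⟩ := hex
  have hs : x + x' ≠ 0 := fun h => hne (Cfsg.Agent.StdU3.Field.add_eq_zero.mp h)
  obtain ⟨y, hy⟩ := exists_Tr_eq hq hs hb
  have hyA : ¬ A y := by
    intro h
    apply hMb
    rw [← hy]
    exact hAM _ _ (hA _ _ hx hx') h
  -- `Tr (w ȳ) ∉ M` for `w ∈ A`, `w ≠ 0`
  have key : ∀ w, A w → w ≠ 0 → ¬ M (Tr n (w * bar n y)) := by
    intro w hw hw0 hM1
    apply hMb
    obtain ⟨y', hy'⟩ := exists_Tr_eq hq hw0 hb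
    rw [← hy']
    by_cases hA' : A y'
    · exact hAM _ _ hw hA'
    · have h1 := hAM _ _ hw (hA2 y' y hA' hyA)
      have h2 := hM _ _ h1 hM1
      rw [bar_add, mul_add, Tr_add, add_add_self] at h2
      exact h2
  -- `M` has index at most two in `F_q`
  have hM2 : ∀ b₁ b₂, bar n b₁ = b₁ → bar n b₂ = b₂ → ¬ M b₁ → ¬ M b₂ → M (b₁ + b₂) := by
    intro b₁ b₂ h1 h2 hm1 hm2
    obtain ⟨y₁, hy₁⟩ := exists_Tr_eq hq hx0 h1
    obtain ⟨y₂, hy₂⟩ := exists_Tr_eq hq hx0 h2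
    have hA1 : ¬ A y₁ := fun h => hm1 (hy₁ ▸ hAM _ _ hx h)
    have hA2' : ¬ A y₂ := fun h => hm2 (hy₂ ▸ hAM _ _ hx h)
    have h3 := hAM _ _ hx (hA2 _ _ hA1 hA2')
    rw [bar_add, mul_add, Tr_add, hy₁, hy₂] at h3
    exact h3
  apply hMb
  rw [← hy, add_mul, Tr_add]
  exact hM2 _ _ (fixed_Tr hq _) (fixed_Tr hq _) (key x hx hx0) (key x' hx' hx'0)

/-- **(LA)** -/
theorem rich_of_a [Finite G] (D : Dat G F n) {R : Subgroup G} (hR : R ≤ D.P) (hsurj : ∀ α : F, ∃ r ∈ R, D.a r = α)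
    (hc : ∀ x ∈ R, ∀ y ∈ R, x * y = D.z (Tr n (D.a x * bar n (D.a y))) * (y * x)) : Rich D R := by
  classical
  have hcm : ∀ p ∈ R, ∀ p' ∈ R, ⁅p, p'⁆ = D.z (Tr n (D.a p * bar n (D.a p'))) := by
    intro p hp p' hp'
    rw [commutatorElement_def, hc p hp p' hp']
    group
  refine ⟨?_, ?_⟩
  · intro R₀ hle hind
    rintro _ ⟨b, hb, rfl⟩
    have h := span_a (n := n) D.hq (fun α => ∃ r ∈ R₀, D.a r = α) (fun b => bar n b = b ∧ D.z b ∈ ⁅R₀, R₀⁆)
      ?_ ?_ ?_ ?_ hb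
    · exact h.2
    · rintro _ _ ⟨r, hr, rfl⟩ ⟨r', hr', rfl⟩
      exact ⟨r * r', R₀.mul_mem hr hr', D.a_mul r (hR (hle hr)) r' (hR (hle hr'))⟩
    · intro α β hα hβ
      obtain ⟨r, hr, hrα⟩ := hsurj α
      obtain ⟨s, hs, hsβ⟩ := hsurj β
      have h1 := mem_of_index_two hind hr hs (fun h => hα ⟨r, h, hrα⟩) (fun h => hβ ⟨s, h, hsβ⟩)
      refine ⟨_, h1, ?_⟩
      rw [D.a_mul _ (D.P.inv_mem (hR hr)) _ (hR hs), D.a_inv (hR hr), hrα, hsβ]
    · rintro b b' ⟨hb, hzb⟩ ⟨hb', hzb'⟩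
      refine ⟨fixed_add hb hb', ?_⟩
      rw [D.z_add b b' hb hb']
      exact Subgroup.mul_mem _ hzb hzb'
    · rintro _ _ ⟨r, hr, rfl⟩ ⟨r', hr', rfl⟩
      refine ⟨fixed_Tr D.hq _, ?_⟩
      rw [← hcm r (hle hr) r' (hle hr')]
      exact commutator_mem_commutator hr hr'
  · intro R₀ hle hind
    rintro _ ⟨b, hb, rfl⟩
    have h4 := four_le D.hq
    have hcard : 16 ≤ Fintype.card F := by
      rw [D.hq.hK]
      nlinarith
    obtain ⟨r, hr, hr0⟩ := exists_ne_of_index D.a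
      (fun x hx y hy => D.a_mul x (hR hx) y (hR hy)) hind Finset.univ (by rw [Finset.card_univ]; omega)
      (fun α _ => hsurj α)
    obtain ⟨y, hy⟩ := exists_Tr_eq D.hq hr0 hb
    obtain ⟨s, hs, rfl⟩ := hsurj y
    rw [← hy, ← hcm r (hle hr) s hs]
    exact commutator_mem_commutator hr hs

omit [CharP F 2] in
theorem pow_card_pred {x : F} (hx : x ≠ 0) : x ^ (Fintype.card F - 1) = 1 :=
  FiniteField.pow_card_sub_one_eq_one x hx

omit [CharP F 2] in
/-- a subset of `F` closed under multiplication by `x ≠ 0` is closed under division -/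
theorem of_mul {C : F → Prop} {x : F} (hx : x ≠ 0) (h : ∀ c, C c → C (x * c)) {c : F} (hc : C (x * c)) : C c := by
  have h1 : ∀ k : ℕ, C (x ^ k * (x * c)) := by
    intro k
    induction k with
    | zero => rw [pow_zero, one_mul]; exact hc
    | succ k ih =>
      have := h _ ih
      rw [← mul_assoc, ← pow_succ'] at this
      exact this
  have hcard : 2 ≤ Fintype.card F := Fintype.one_lt_card
  have h2 := h1 (Fintype.card F - 2)
  rw [← mul_assoc, ← pow_succ, show Fintype.card F - 2 + 1 = Fintype.card F - 1 by omega, pow_card_pred hx,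
    one_mul] at h2
  exact h2

/-- `Phi` has an element different from `0` and `1` -/
theorem exists_Phi (D : Chart G F n) : ∃ φ ∈ D.Phi, φ ≠ 0 ∧ φ ≠ 1 := by
  classical
  by_contra hc
  push Not at hc
  have h1 : Nat.card D.Phi ≤ 2 := by
    have hinj : Function.Injective (fun x : D.Phi => (⟨x.1, by
      by_cases h : (x : F) = 0
      · rw [h]; simp
      · rw [hc x.1 x.2 h]; simp⟩ : ↥({0, 1} : Finset F))) := by
      intro x y hxy
      exact Subtype.ext (by simpa using hxy)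
    have h2 := Nat.card_le_card_of_injective _ hinj
    rw [Nat.card_eq_fintype_card (α := ↥({0, 1} : Finset F)), Fintype.card_coe] at h2
    have h3 : ({0, 1} : Finset F).card ≤ 2 := Finset.card_le_two
    omega
  have := D.four
  omega

/-- **(LB)** -/
theorem rich_of_cf [Finite G] (D : Dat G F n) {R : Subgroup G} (hR : R ≤ D.P)
    (hsurj : ∀ γ φ : F, bar n γ = γ → φ ∈ D.Phi → ∃ r ∈ R, D.c r = γ ∧ D.f r = φ)
    (hc : ∀ x ∈ R, ∀ y ∈ R, x * y = D.z (D.c x * D.f y + D.c y * D.f x) * (y * x)) : Rich D R := by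
  classical
  have hcm : ∀ p ∈ R, ∀ p' ∈ R, ⁅p, p'⁆ = D.z (D.c p * D.f p' + D.c p' * D.f p) := by
    intro p hp p' hp'
    rw [commutatorElement_def, hc p hp p' hp']
    group
  obtain ⟨φ₀, hφ₀, hφ0, hφ1⟩ := exists_Phi D.toChart
  refine ⟨?_, ?_⟩
  · intro R₀ hle hind
    -- the commutators
    have hadd : ∀ b b', bar n b = b → bar n b' = b' → D.z b ∈ ⁅R₀, R₀⁆ → D.z b' ∈ ⁅R₀, R₀⁆ →
        D.z (b + b') ∈ ⁅R₀, R₀⁆ := by
      intro b b' hb hb' h h'
      rw [D.z_add b b' hb hb']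
      exact Subgroup.mul_mem _ h h'
    have hprod : ∀ γ φ, (∃ r ∈ R₀, D.c r = γ ∧ D.f r = 0) → (∃ r ∈ R₀, D.f r = φ) → D.z (γ * φ) ∈ ⁅R₀, R₀⁆ := by
      rintro _ _ ⟨r, hr, rfl, hr0⟩ ⟨s, hs, rfl⟩
      have h := commutator_mem_commutator hr hs
      rw [hcm r (hle hr) s (hle hs), hr0, mul_zero, add_zero] at h
      exact h
    by_cases hC : ∀ γ, bar n γ = γ → ∃ r ∈ R₀, D.c r = γ ∧ D.f r = 0
    · -- `C₀ = F_q`
      obtain ⟨φ, hφm, hφ, hφr⟩ : ∃ φ, φ ∈ D.Phi ∧ φ ≠ 0 ∧ ∃ r ∈ R₀, D.f r = φ := by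
        obtain ⟨r, hr, hr0⟩ := exists_ne_of_index (m := 2) D.f
          (fun x hx y hy => D.f_mul x (hR hx) y (hR hy)) hind {0, 1, φ₀} (by
            rw [Finset.card_insert_of_notMem, Finset.card_pair hφ1.symm]
            · norm_num
            · simp only [Finset.mem_insert, Finset.mem_singleton, not_or]
              exact ⟨zero_ne_one, hφ0.symm⟩)
          (by
            intro α hα
            simp only [Finset.mem_insert, Finset.mem_singleton] at hα
            rcases hα with rfl | rfl | rfl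
            · obtain ⟨r, hr, -, h⟩ := hsurj 0 0 (bar_zero n) D.Phi.zero_mem
              exact ⟨r, hr, h⟩
            · obtain ⟨r, hr, -, h⟩ := hsurj 0 1 (bar_zero n) D.one_mem
              exact ⟨r, hr, h⟩
            · obtain ⟨r, hr, -, h⟩ := hsurj 0 α (bar_zero n) hφ₀
              exact ⟨r, hr, h⟩)
        exact ⟨D.f r, D.f_mem r (hR (hle hr)), hr0, r, hr, rfl⟩
      rintro _ ⟨b, hb, rfl⟩
      have h := hprod (b / φ) φ (hC _ (by
        rw [div_eq_mul_inv]; exact fixed_mul hb (fixed_inv (D.fix_Phi φ hφm)))) hφr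
      rwa [div_mul_cancel₀ _ hφ] at h
    · push Not at hC
      obtain ⟨γ₀, hγ₀, hγ₀C⟩ := hC
      have hCn : ¬ ∃ r ∈ R₀, D.c r = γ₀ ∧ D.f r = 0 := by
        rintro ⟨r, hr, h1, h2⟩
        exact hγ₀C r hr h1 h2
      -- `f (R₀) = Phi`
      have hF : ∀ φ ∈ D.Phi, ∃ r ∈ R₀, D.f r = φ := by
        intro φ hφ
        obtain ⟨r, hr, hrc, hrf⟩ := hsurj 0 φ (bar_zero n) hφ
        obtain ⟨s, hs, hsc, hsf⟩ := hsurj γ₀ φ hγ₀ hφ
        by_contra hc
        have h1 : r ∉ R₀ := fun h => hc ⟨r, h, hrf⟩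
        have h2 : s ∉ R₀ := fun h => hc ⟨s, h, hsf⟩
        have h3 := mem_of_index_two hind hr hs h1 h2
        apply hCn
        refine ⟨_, h3, ?_, ?_⟩
        · rw [D.c_mul _ (D.P.inv_mem (hR hr)) _ (hR hs), D.c_inv (hR hr), hrc, hsc, zero_add]
        · rw [D.f_mul _ (D.P.inv_mem (hR hr)) _ (hR hs), D.f_inv (hR hr), hrf, hsf,
            Cfsg.Agent.StdU3.Field.add_self]
      -- `C₀` has index two
      have hC2 : ∀ γ γ', bar n γ = γ → bar n γ' = γ' → (¬ ∃ r ∈ R₀, D.c r = γ ∧ D.f r = 0) →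
          (¬ ∃ r ∈ R₀, D.c r = γ' ∧ D.f r = 0) → ∃ r ∈ R₀, D.c r = γ + γ' ∧ D.f r = 0 := by
        intro γ γ' hγ hγ' h h'
        obtain ⟨r, hr, hrc, hrf⟩ := hsurj γ 0 hγ D.Phi.zero_mem
        obtain ⟨s, hs, hsc, hsf⟩ := hsurj γ' 0 hγ' D.Phi.zero_mem
        have h3 := mem_of_index_two hind hr hs (fun h1 => h ⟨r, h1, hrc, hrf⟩) (fun h1 => h' ⟨s, h1, hsc, hsf⟩)
        refine ⟨_, h3, ?_, ?_⟩
        · rw [D.c_mul _ (D.P.inv_mem (hR hr)) _ (hR hs), D.c_inv (hR hr), hrc, hsc]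
        · rw [D.f_mul _ (D.P.inv_mem (hR hr)) _ (hR hs), D.f_inv (hR hr), hrf, hsf, add_zero]
      rintro _ ⟨b, hb, rfl⟩
      by_contra hbM
      -- then `M = C₀`
      have hMC : ∀ m, bar n m = m → D.z m ∈ ⁅R₀, R₀⁆ → ∃ r ∈ R₀, D.c r = m ∧ D.f r = 0 := by
        intro m hm hmM
        by_contra hmC
        apply hbM
        by_cases hbC : ∃ r ∈ R₀, D.c r = b ∧ D.f r = 0
        · have := hprod b 1 hbC (hF 1 D.one_mem)
          rwa [mul_one] at this
        · have h1 := hprod (b + m) 1 (hC2 b m hb hm hbC hmC) (hF 1 D.one_mem)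
          rw [mul_one] at h1
          have h2 := hadd _ _ (fixed_add hb hm) hm h1 hmM
          rwa [add_add_self] at h2
      -- `C₀` is closed under multiplication by `Phi`
      have hmul : ∀ φ ∈ D.Phi, ∀ γ, (bar n γ = γ ∧ ∃ r ∈ R₀, D.c r = γ ∧ D.f r = 0) →
          (bar n (φ * γ) = φ * γ ∧ ∃ r ∈ R₀, D.c r = φ * γ ∧ D.f r = 0) := by
        rintro φ hφ γ ⟨hγ, hγC⟩
        have h1 : bar n (φ * γ) = φ * γ := fixed_mul (D.fix_Phi φ hφ) hγ
        refine ⟨h1, hMC _ h1 ?_⟩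
        rw [mul_comm]
        exact hprod γ φ hγC (hF φ hφ)
      have hφ₁ : φ₀ + 1 ≠ 0 := fun h => hφ1 (Cfsg.Agent.StdU3.Field.add_eq_zero.mp h)
      have h1 : ¬ ∃ r ∈ R₀, D.c r = φ₀ * γ₀ ∧ D.f r = 0 := by
        intro h
        have := of_mul (C := fun γ => bar n γ = γ ∧ ∃ r ∈ R₀, D.c r = γ ∧ D.f r = 0) hφ0 (hmul φ₀ hφ₀)
          (c := γ₀) ⟨fixed_mul (D.fix_Phi φ₀ hφ₀) hγ₀, h⟩
        exact hCn this.2
      have h2 := hC2 _ _ (fixed_mul (D.fix_Phi φ₀ hφ₀) hγ₀) hγ₀ h1 hCn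
      have h3 : φ₀ * γ₀ + γ₀ = (φ₀ + 1) * γ₀ := by ring
      rw [h3] at h2
      have := of_mul (C := fun γ => bar n γ = γ ∧ ∃ r ∈ R₀, D.c r = γ ∧ D.f r = 0) hφ₁
        (hmul (φ₀ + 1) (D.Phi.add_mem hφ₀ D.one_mem)) (c := γ₀)
        ⟨fixed_mul (D.fix_Phi _ (D.Phi.add_mem hφ₀ D.one_mem)) hγ₀, h2⟩
      exact hCn this.2
  · intro R₀ hle hind
    rintro _ ⟨b, hb, rfl⟩
    by_cases hf : ∃ r ∈ R₀, D.f r ≠ 0
    · obtain ⟨r, hr, hr0⟩ := hf
      obtain ⟨s, hs, hsc, hsf⟩ := hsurj (b / D.f r) 0 (by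
        rw [div_eq_mul_inv]
        exact fixed_mul hb (fixed_inv (D.fix_Phi _ (D.f_mem r (hR (hle hr)))))) D.Phi.zero_mem
      have h := commutator_mem_commutator hr hs
      rw [hcm r (hle hr) s hs, hsf, mul_zero, zero_add, hsc, div_mul_cancel₀ _ hr0] at h
      exact h
    · push Not at hf
      -- `R₀` is the kernel of `f`
      let K₀ : Subgroup G := R ⊓ D.toChart.sub (fun _ _ φ => φ = 0) rfl (by
        rintro α γ φ α' γ' φ' rfl rfl; exact add_zero 0)
      have hmK : ∀ x, x ∈ K₀ ↔ x ∈ R ∧ x ∈ D.P ∧ D.f x = 0 := fun x => Iff.rfl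
      have hRK : R₀ ≤ K₀ := fun x hx => (hmK x).mpr ⟨hle hx, hR (hle hx), hf x hx⟩
      have hKR : K₀ ≤ R := inf_le_left
      have hK4 : 4 ≤ K₀.relIndex R := by
        have hex : ∀ φ : D.Phi, ∃ r ∈ R, D.f r = φ := by
          intro φ
          obtain ⟨r, hr, -, h⟩ := hsurj 0 φ (bar_zero n) φ.2
          exact ⟨r, hr, h⟩
        choose g hg hgφ using hex
        let e : D.Phi → ↥R ⧸ K₀.subgroupOf R := fun φ => QuotientGroup.mk ⟨g φ, hg φ⟩
        have hinj : Function.Injective e := by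
          intro φ φ' h
          have h' : (QuotientGroup.mk (⟨g φ, hg φ⟩ : ↥R) : ↥R ⧸ K₀.subgroupOf R)
            = QuotientGroup.mk ⟨g φ', hg φ'⟩ := h
          rw [QuotientGroup.eq, mem_subgroupOf] at h'
          have h5 : D.f ((g φ)⁻¹ * g φ') = 0 := ((hmK _).mp h').2.2
          rw [D.f_mul _ (D.P.inv_mem (hR (hg φ))) _ (hR (hg φ')), D.f_inv (hR (hg φ)), hgφ, hgφ] at h5
          exact Subtype.ext (Cfsg.Agent.StdU3.Field.add_eq_zero.mp h5)
        have h4 := Nat.card_le_card_of_injective e hinj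
        exact D.four.trans h4
      have hKR₀ := le_of_index hRK hKR (hind.trans hK4)
      obtain ⟨r, hr, hrc, hrf⟩ := hsurj b 0 hb D.Phi.zero_mem
      have hr0 : r ∈ R₀ := hKR₀ ((hmK r).mpr ⟨hr, hR hr, hrf⟩)
      obtain ⟨s, hs, hsc, hsf⟩ := hsurj 0 1 (bar_zero n) D.one_mem
      have h := commutator_mem_commutator hr0 hs
      rw [hcm r hr s hs, hrc, hrf, hsc, hsf, mul_one, mul_zero, add_zero] at h
      exact h

/-- **(LA)**, from the coordinates -/
theorem rich_a [Finite G] (D : Dat G F n) {R : Subgroup G} (hR : R ≤ D.P) (hsurj : ∀ α : F, ∃ r ∈ R, D.a r = α)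
    (hcomm : ∀ p ∈ R, ∀ p' ∈ R, D.c p * D.f p' + D.c p' * D.f p = 0) : Rich D R :=
  rich_of_a D hR hsurj fun x hx y hy => by
    rw [D.comm x (hR hx) y (hR hy), hcomm x hx y hy, add_zero]

/-- **(LB)**, from the coordinates -/
theorem rich_cf [Finite G] (D : Dat G F n) {R : Subgroup G} (hR : R ≤ D.P)
    (hsurj : ∀ γ φ : F, bar n γ = γ → φ ∈ D.Phi → ∃ r ∈ R, D.c r = γ ∧ D.f r = φ)
    (hcomm : ∀ p ∈ R, ∀ p' ∈ R, Tr n (D.a p * bar n (D.a p')) = 0) : Rich D R :=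
  rich_of_cf D hR hsurj fun x hx y hy => by
    rw [D.comm x (hR hx) y (hR hy), hcomm x hx y hy, zero_add]

/-- **PIECE G.** An involution of `P` outside `Z` centralises a rich subgroup of `P`. -/
theorem richP [Finite G] (D : Dat G F n) {b : G} (hb : b ∈ D.P) (_hbZ : b ∉ D.Z) (hb2 : b * b = 1) :
    ∃ R : Subgroup G, R ≤ D.P ∧ (∀ r ∈ R, r * b = b * r) ∧ Rich D R := by
  have hsq : N n (D.a b) + D.kap * D.c b + D.c b * D.f b = 0 := by
    refine D.z_inj _ ?_ ((D.sq b hb).symm.trans hb2)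
    exact fixed_add (fixed_add (fixed_N D.hq _) (fixed_mul D.fix_kap (D.fix_c b hb)))
      (fixed_mul (D.fix_c b hb) (D.fix_Phi _ (D.f_mem b hb)))
  by_cases ha : D.a b = 0
  · -- `R = S`
    refine ⟨D.S, fun x hx => hx.1, ?_, ?_⟩
    · rintro r ⟨hr, hrc, hrf⟩
      apply commute_of D.toChart hr hb
      rw [ha, hrc, hrf, bar_zero, mul_zero, Tr_zero, zero_mul, mul_zero, add_zero, add_zero]
    · refine rich_a D (fun x hx => hx.1) ?_ ?_
      · intro α
        obtain ⟨x, hx, h1, h2, h3⟩ := D.surj α 0 0 (bar_zero n) D.Phi.zero_mem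
        exact ⟨x, ⟨hx, h2, h3⟩, h1⟩
      · rintro p ⟨hp, hpc, hpf⟩ p' ⟨hp', hp'c, hp'f⟩
        rw [hpc, hpf, zero_mul, mul_zero, add_zero]
  by_cases hf : D.f b = 0
  · -- `f = 0`
    have hc0 : D.c b ≠ 0 := by
      intro h
      rw [h, mul_zero, zero_mul, add_zero, add_zero] at hsq
      exact ha (N_eq_zero hsq)
    obtain ⟨e, he⟩ := exists_Tr_one D.hq
    -- `Tr (e' ā₀) = 1`
    obtain ⟨e', he'⟩ : ∃ e' : F, Tr n (e' * bar n (D.a b)) = 1 := by
      obtain ⟨y, hy⟩ := exists_Tr_eq D.hq ha (bar_one n)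
      exact ⟨y, by rw [Tr_comm D.hq]; exact hy⟩
    refine ⟨D.toChart.sub (fun α γ φ => α = D.c b * φ * e') (by ring) (by
      rintro α γ φ α' γ' φ' rfl rfl; ring), fun x hx => hx.1, ?_, ?_⟩
    · rintro r ⟨hr, hra⟩
      apply commute_of D.toChart hr hb
      have hfix : bar n (D.c b * D.f r) = D.c b * D.f r :=
        fixed_mul (D.fix_c b hb) (D.fix_Phi _ (D.f_mem r hr))
      rw [hra, hf, mul_assoc (D.c b * D.f r), Tr_mul_fixed hfix, he', mul_one, mul_zero, zero_add,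
        Cfsg.Agent.StdU3.Field.add_self]
    · refine rich_cf D (fun x hx => hx.1) ?_ ?_
      · intro γ φ hγ hφ
        obtain ⟨x, hx, h1, h2, h3⟩ := D.surj (D.c b * φ * e') γ φ hγ hφ
        exact ⟨x, ⟨hx, by rw [h1, h3]⟩, h2, h3⟩
      · rintro p ⟨hp, hpa⟩ p' ⟨hp', hp'a⟩
        have hfix : ∀ r ∈ D.P, bar n (D.c b * D.f r) = D.c b * D.f r := fun r hr =>
          fixed_mul (D.fix_c b hb) (D.fix_Phi _ (D.f_mem r hr))
        apply Tr_of_fixed
        rw [hpa, hp'a]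
        simp only [bar_mul, bar_bar D.hq]
        rw [D.fix_c b hb, D.fix_Phi _ (D.f_mem p hp), D.fix_Phi _ (D.f_mem p' hp')]
        ring
  · -- `f ≠ 0`
    refine ⟨D.toChart.sub (fun α γ φ => γ = Tr n (α * bar n (D.a b)) / D.f b ∧ φ = 0) ⟨by
      rw [zero_mul, Tr_zero, zero_div], rfl⟩ (by
      rintro α γ φ α' γ' φ' ⟨rfl, rfl⟩ ⟨rfl, rfl⟩
      exact ⟨by rw [add_mul, Tr_add]; ring, add_zero 0⟩), fun x hx => hx.1, ?_, ?_⟩
    · rintro r ⟨hr, hrc, hrf⟩
      apply commute_of D.toChart hr hb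
      rw [hrc, hrf, mul_zero, add_zero, div_mul_cancel₀ _ hf, Cfsg.Agent.StdU3.Field.add_self]
    · refine rich_a D (fun x hx => hx.1) ?_ ?_
      · intro α
        obtain ⟨x, hx, h1, h2, h3⟩ := D.surj α (Tr n (α * bar n (D.a b)) / D.f b) 0 (by
          rw [div_eq_mul_inv]
          exact fixed_mul (fixed_Tr D.hq _) (fixed_inv (D.fix_Phi _ (D.f_mem b hb)))) D.Phi.zero_mem
        exact ⟨x, ⟨hx, by rw [h1, h2], h3⟩, h1⟩
      · rintro p ⟨hp, hpc, hpf⟩ p' ⟨hp', hp'c, hp'f⟩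
        rw [hpf, hp'f, mul_zero, mul_zero, add_zero]

end Cfsg.Agent.OddHalf.D4.U3.RichP
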