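import Cfsg.Agent.OddHalf.D4.U3.Defs
import Cfsg.Agent.OddHalf.D4.U3.RichP

/-!
# ODD, D4, row `K = U₃(q)`, piece H: involutions of `T` outside `P` of type F and G (helper928)

For `b ∈ T` an involution of type F or G, `R = C_P(b)` is rich in commutators.
-/

set_option autoImplicit false

namespace Cfsg.Agent.OddHalf.D4.U3.RichT

open Subgroup Cfsg.Agent.StdU3.Field Cfsg.Agent.OddHalf.D4.CommConj Cfsg.Agent.OddHalf.D4.U3.Defs
  Cfsg.Agent.OddHalf.D4.U3.RichP

universe u v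

variable {G : Type u} [Group G] {F : Type v} [Field F] [Fintype F] [CharP F 2] {n : ℕ} (D : Dat G F n)

/-- the elements of `Z` are central in `P` -/
theorem z_comm {e : F} (he : bar n e = e) {x : G} (hx : x ∈ D.P) : x * D.z e = D.z e * x := by
  have h := D.comm x hx (D.z e) (D.z_mem e he)
  rw [D.a_z e he, D.c_z e he, D.f_z e he, bar_zero, mul_zero, mul_zero, zero_mul, add_zero, Tr_zero,
    add_zero, D.z_zero, one_mul] at h
  exact h

/-- elements of `P` with the same coordinates differ by an element of `Z` -/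
theorem eq_mul_z {x y : G} (hx : x ∈ D.P) (hy : y ∈ D.P) (ha : D.a x = D.a y) (hc : D.c x = D.c y)
    (hf : D.f x = D.f y) : ∃ e, bar n e = e ∧ y = x * D.z e := by
  obtain ⟨e, he, h⟩ := D.ker (x⁻¹ * y) (D.P.mul_mem (D.P.inv_mem hx) hy)
    (by rw [D.a_mul _ (D.P.inv_mem hx) _ hy, D.a_inv hx, ha, add_self])
    (by rw [D.c_mul _ (D.P.inv_mem hx) _ hy, D.c_inv hx, hc, add_self])
    (by rw [D.f_mul _ (D.P.inv_mem hx) _ hy, D.f_inv hx, hf, add_self])
  exact ⟨e, he, by rw [← h, mul_inv_cancel_left]⟩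

theorem cj_mem {b : G} (hb : cj b D.P = D.P) {p : G} (hp : p ∈ D.P) : b * p * b⁻¹ ∈ D.P := by
  have := mem_cj_mul (g := b) hp
  rwa [hb] at this

/-- if `b` inverts nothing: `b p b = p z(e)`, `b p' b = p' z(e)` give `p p' ∈ C(b)` -/
theorem comm_of {b p p' : G} {e : F} (he : bar n e = e)
    (hp' : p' ∈ D.P) (h1 : b * p * b⁻¹ = p * D.z e) (h2 : b * p' * b⁻¹ = p' * D.z e) :
    p * p' * b = b * (p * p') := by
  have h3 : b * (p * p') * b⁻¹ = p * p' := by
    calc b * (p * p') * b⁻¹ = (b * p * b⁻¹) * (b * p' * b⁻¹) := by group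
      _ = p * (D.z e * p') * D.z e := by rw [h1, h2]; group
      _ = p * (p' * D.z e) * D.z e := by rw [z_comm D he hp']
      _ = p * p' * (D.z e * D.z e) := by group
      _ = p * p' := by rw [← D.z_add e e he he, add_self, D.z_zero, mul_one]
  calc p * p' * b = b * (p * p') * b⁻¹ * b := by rw [h3]
    _ = b * (p * p') := by group

/-- the centralizer of `b` in `P` -/
def R (b : G) : Subgroup G := D.P ⊓ centralizer {b}

theorem mem_R {b x : G} : x ∈ R D b ↔ x ∈ D.P ∧ x * b = b * x := by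
  rw [R, mem_inf, mem_centralizer_iff]
  constructor
  · rintro ⟨h1, h2⟩
    exact ⟨h1, (h2 b rfl).symm⟩
  · rintro ⟨h1, h2⟩
    refine ⟨h1, ?_⟩
    rintro y rfl
    exact h2.symm

theorem conj_of_mem {b x : G} (hx : x * b = b * x) : b * x * b⁻¹ = x := by
  rw [← hx, mul_inv_cancel_right]

/-- a solution of `Tr (c̄₀ α²) = e` -/
theorem exists_alpha (hq : Qd F n) {c₀ e : F} (hc : N n c₀ = 1) (he : bar n e = e) :
    ∃ α : F, Tr n (c₀ * bar n α * bar n α) = e := by
  have h0 : c₀ ≠ 0 := by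
    rintro rfl
    rw [N_zero] at hc
    exact zero_ne_one hc
  obtain ⟨y, hy⟩ := exists_Tr_eq hq h0 he
  obtain ⟨α, hα⟩ := FiniteField.isSquare_of_char_two (F := F) (ringChar.eq F 2) y
  refine ⟨α, ?_⟩
  rw [mul_assoc, ← bar_mul, ← hα]
  exact hy

/-- **Involutions of type F.** -/
theorem richF' [Finite G] {b : G} (hF : TypF D b) (hb2 : b * b = 1) :
    ∃ R ≤ D.P, (∀ r ∈ R, r * b = b * r) ∧ Rich D R := by
  obtain ⟨hP, hz, c₀, hc₀, hact⟩ := hF
  have hinv : b⁻¹ = b := inv_eq_of_mul_eq_one_left hb2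
  refine ⟨R D b, inf_le_left, fun r hr => ((mem_R D).1 hr).2, ?_⟩
  have hbar : ∀ x ∈ R D b, D.a x = c₀ * bar n (D.a x) := by
    intro x hx
    obtain ⟨h1, h2⟩ := (mem_R D).1 hx
    have h3 := (hact x h1).1
    rwa [conj_of_mem h2] at h3
  have hc1 : c₀ * bar n c₀ = 1 := hc₀
  refine rich_of_cf D inf_le_left ?_ ?_
  · intro γ φ hγ hφ
    obtain ⟨p, hp, ha, hc, hf⟩ := D.surj 0 γ φ hγ hφ
    obtain ⟨h1, h2, h3⟩ := hact p hp
    obtain ⟨e, he, hpe⟩ := eq_mul_z D hp (cj_mem D hP hp) (by rw [h1, ha, bar_zero, mul_zero]) h2.symm h3.symm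
    obtain ⟨α, hα⟩ := exists_alpha D.hq hc₀ he
    obtain ⟨s, hs, hsa, hsc, hsf⟩ := D.surj α 0 0 (bar_zero n) D.Phi.zero_mem
    obtain ⟨g1, g2, g3⟩ := hact s hs
    have hs' := cj_mem D hP hs
    -- `p' = s (b s b⁻¹)`
    have hp' : s * (b * s * b⁻¹) ∈ D.P := D.P.mul_mem hs hs'
    have hcm := D.comm (b * s * b⁻¹) hs' s hs
    have h4 : b * (s * (b * s * b⁻¹)) * b⁻¹ = s * (b * s * b⁻¹) * D.z e := by
      have h5 : b * (s * (b * s * b⁻¹)) * b⁻¹ = (b * s * b⁻¹) * s := by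
        calc b * (s * (b * s * b⁻¹)) * b⁻¹ = b * s * (b * s * b⁻¹) * b⁻¹ := by group
          _ = b * s * b * s * (b⁻¹ * b⁻¹) := by group
          _ = b * s * b⁻¹ * s := by rw [hinv, hb2, mul_one]
      rw [h5, hcm, g1, g2, g3, hsa, hsc, hsf, mul_zero, add_zero, add_zero, hα]
      exact (z_comm D he hp').symm
    have ha' : D.a (b * s * b⁻¹) = c₀ * bar n α := by rw [g1, hsa]
    refine ⟨p * (s * (b * s * b⁻¹)), (mem_R D).2 ⟨D.P.mul_mem hp hp', ?_⟩, ?_, ?_⟩
    · exact comm_of D he hp' hpe h4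
    · rw [D.c_mul p hp _ hp', D.c_mul s hs _ hs', g2, hsc, hc, add_zero, add_zero]
    · rw [D.f_mul p hp _ hp', D.f_mul s hs _ hs', g3, hsf, hf, add_zero, add_zero]
  · intro x hx y hy
    have hxP := ((mem_R D).1 hx).1
    have hyP := ((mem_R D).1 hy).1
    have h1 := hbar x hx
    have h2 := hbar y hy
    have h3 : Tr n (D.a x * bar n (D.a y)) = 0 := by
      rw [Tr_def, bar_mul, bar_bar D.hq]
      have h4 : bar n (D.a x) = bar n c₀ * D.a x := by
        have := congrArg (bar n) h1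
        rwa [bar_mul, bar_bar D.hq] at this
      have h5 : bar n (D.a y) = bar n c₀ * D.a y := by
        have := congrArg (bar n) h2
        rwa [bar_mul, bar_bar D.hq] at this
      rw [h4, h5]
      have h6 : D.a x * (bar n c₀ * D.a y) + bar n c₀ * D.a x * D.a y =
          (D.a x * (bar n c₀ * D.a y)) + (D.a x * (bar n c₀ * D.a y)) := by ring
      rw [h6, add_self]
    have h := D.comm x hxP y hyP
    rwa [h3, zero_add] at h

/-- **Involutions of type G.** -/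
theorem richG' [Finite G] {b : G} (hG : TypG D b) (hb2 : b * b = 1) :
    ∃ R ≤ D.P, (∀ r ∈ R, r * b = b * r) ∧ Rich D R := by
  obtain ⟨hP, hz, hk, hPhi, θ, hθ, hθb, hact⟩ := hG
  have hinv : b⁻¹ = b := inv_eq_of_mul_eq_one_left hb2
  refine ⟨R D b, inf_le_left, fun r hr => ((mem_R D).1 hr).2, ?_⟩
  have hcf : ∀ x ∈ R D b, D.c x = θ * D.f x := by
    intro x hx
    obtain ⟨h1, h2⟩ := (mem_R D).1 hx
    have h3 := (hact x h1).2.1
    rwa [conj_of_mem h2] at h3
  refine rich_of_a D inf_le_left ?_ ?_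
  · intro α
    obtain ⟨p, hp, ha, hc, hf⟩ := D.surj α 0 0 (bar_zero n) D.Phi.zero_mem
    obtain ⟨h1, h2, h3⟩ := hact p hp
    obtain ⟨e, he, hpe⟩ := eq_mul_z D hp (cj_mem D hP hp) h1.symm (by rw [h2, hf, hc, mul_zero])
      (by rw [h3, hf, hc, mul_zero])
    -- `φ² = e / θ`
    obtain ⟨φ, hφ⟩ := FiniteField.isSquare_of_char_two (F := F) (ringChar.eq F 2) (θ⁻¹ * e)
    have hφb : bar n φ = φ := by
      have h4 : bar n φ * bar n φ = φ * φ := by
        rw [← bar_mul, ← hφ, bar_mul, bar_inv, hθb, he]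
      have h5 : (bar n φ + φ) * (bar n φ + φ) = 0 := by
        have : (bar n φ + φ) * (bar n φ + φ) = bar n φ * bar n φ + φ * φ + (bar n φ * φ + bar n φ * φ) := by ring
        rw [this, h4, add_self, add_self, add_zero]
      exact add_eq_zero.1 (mul_self_eq_zero.1 h5)
    obtain ⟨s, hs, hsa, hsc, hsf⟩ := D.surj 0 0 φ (bar_zero n) (hPhi φ hφb)
    obtain ⟨g1, g2, g3⟩ := hact s hs
    have hs' := cj_mem D hP hs
    have hp' : s * (b * s * b⁻¹) ∈ D.P := D.P.mul_mem hs hs'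
    have hcm := D.comm (b * s * b⁻¹) hs' s hs
    have h4 : b * (s * (b * s * b⁻¹)) * b⁻¹ = s * (b * s * b⁻¹) * D.z e := by
      have h5 : b * (s * (b * s * b⁻¹)) * b⁻¹ = (b * s * b⁻¹) * s := by
        calc b * (s * (b * s * b⁻¹)) * b⁻¹ = b * s * (b * s * b⁻¹) * b⁻¹ := by group
          _ = b * s * b * s * (b⁻¹ * b⁻¹) := by group
          _ = b * s * b⁻¹ * s := by rw [hinv, hb2, mul_one]
      have h6 : θ * φ * φ = e := by
        rw [mul_assoc, ← hφ, mul_inv_cancel_left₀ hθ]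
      rw [h5, hcm, g1, g2, g3, hsa, hsc, hsf, bar_zero, mul_zero, mul_zero, Tr_zero, zero_mul, add_zero,
        zero_add, h6]
      exact (z_comm D he hp').symm
    refine ⟨p * (s * (b * s * b⁻¹)), (mem_R D).2 ⟨D.P.mul_mem hp hp', ?_⟩, ?_⟩
    · exact comm_of D he hp' hpe h4
    · rw [D.a_mul p hp _ hp', D.a_mul s hs _ hs', g1, hsa, ha, add_zero, add_zero]
  · intro x hx y hy
    have hxP := ((mem_R D).1 hx).1
    have hyP := ((mem_R D).1 hy).1
    have h := D.comm x hxP y hyP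
    have h3 : D.c x * D.f y + D.c y * D.f x = 0 := by
      rw [hcf x hx, hcf y hy]
      have : θ * D.f x * D.f y + θ * D.f y * D.f x = θ * D.f x * D.f y + θ * D.f x * D.f y := by ring
      rw [this, add_self]
    rwa [h3, add_zero] at h

theorem richF [Finite G] {T : Subgroup G} (_hT : Syl D T) {b : G} (_hb : b ∈ T) (hF : TypF D b) (hb2 : b * b = 1) :
    ∃ R ≤ D.P, (∀ r ∈ R, r * b = b * r) ∧ Rich D R :=
  richF' D hF hb2

theorem richG [Finite G] {T : Subgroup G} (_hT : Syl D T) {b : G} (_hb : b ∈ T) (hG : TypG D b) (hb2 : b * b = 1) :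
    ∃ R ≤ D.P, (∀ r ∈ R, r * b = b * r) ∧ Rich D R :=
  richG' D hG hb2

end Cfsg.Agent.OddHalf.D4.U3.RichT
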