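import Cfsg.Agent.OddHalf.D4.U3.Defs

/-!
# ODD, D4, row `K = U₃(q)`: `P` is weakly closed in a Sylow 2-subgroup of `N(P)`
-/

set_option autoImplicit false

namespace Cfsg.Agent.OddHalf.D4.U3.Weak

open Subgroup Cfsg.Agent.StdU3.Field Cfsg.Agent.StdU3.PreDef Cfsg.Agent.OddHalf.D4.CommConj
  Cfsg.Agent.OddHalf.D4.Basic Cfsg.Agent.OddHalf.D4.U3.Defs

universe u v

section index

variable {G : Type*} [Group G] [Finite G]

theorem le_relIndex {H K : Subgroup G} {ι : Type*} (f : ι → G) (hf : ∀ i, f i ∈ K)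
    (hinj : ∀ i j, (f i)⁻¹ * f j ∈ H → i = j) : Nat.card ι ≤ H.relIndex K := by
  have h : Function.Injective (fun i : ι => ((⟨f i, hf i⟩ : ↥K) : ↥K ⧸ H.subgroupOf K)) := by
    intro i j hij
    have h1 := QuotientGroup.eq.mp hij
    rw [mem_subgroupOf] at h1
    exact hinj i j h1
  exact Nat.card_le_card_of_injective _ h

omit [Finite G] in
theorem relIndex_le {H K : Subgroup G} {k : ℕ} (φ : G → Fin k)
    (h : ∀ x ∈ K, ∀ y ∈ K, φ x = φ y → x⁻¹ * y ∈ H) : H.relIndex K ≤ k := by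
  have h1 : Function.Injective (fun c : ↥K ⧸ H.subgroupOf K => φ (c.out : ↥K)) := by
    intro c d hcd
    have h2 := h _ c.out.2 _ d.out.2 hcd
    rw [← QuotientGroup.out_eq' c, ← QuotientGroup.out_eq' d, QuotientGroup.eq, mem_subgroupOf]
    exact h2
  have h2 := Nat.card_le_card_of_injective _ h1
  rw [Nat.card_eq_fintype_card (α := Fin k), Fintype.card_fin] at h2
  exact h2

theorem relIndex_comm {H K : Subgroup G} (h : Nat.card H = Nat.card K) : H.relIndex K = K.relIndex H := by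
  have h1 := (H.subgroupOf K).card_mul_index
  have h2 := (K.subgroupOf H).card_mul_index
  have h3 : Nat.card (H.subgroupOf K) = Nat.card ↥(H ⊓ K) := by
    rw [← Subgroup.inf_subgroupOf_right]
    exact Nat.card_congr (Subgroup.subgroupOfEquivOfLe inf_le_right).toEquiv
  have h4 : Nat.card (K.subgroupOf H) = Nat.card ↥(H ⊓ K) := by
    rw [← Subgroup.inf_subgroupOf_left]
    exact Nat.card_congr (Subgroup.subgroupOfEquivOfLe inf_le_left).toEquiv
  rw [h3] at h1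
  rw [h4, h, ← h1] at h2
  exact (Nat.eq_of_mul_eq_mul_left Nat.card_pos h2).symm

end index

section

variable {G : Type u} [Group G] {F : Type v} [Field F] [Fintype F] [CharP F 2] {n : ℕ} (D : Dat G F n)

theorem z_zb {b : F} (hb : bar n b = b) : D.z b * D.z b = 1 := by
  rw [← D.z_add b b hb hb, Cfsg.Agent.StdU3.Field.add_self, D.z_zero]

/-- every `z b` is a commutator of two elements of `S` -/
theorem z_comm {b : F} (hb : bar n b = b) : ∃ x ∈ D.S, ∃ y ∈ D.S, x * y * x⁻¹ * y⁻¹ = D.z b := by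
  obtain ⟨e, he⟩ := exists_Tr_eq D.hq one_ne_zero hb
  obtain ⟨x, hx, hxa, hxc, hxf⟩ := D.surj 1 0 0 (bar_zero n) D.Phi.zero_mem
  obtain ⟨y, hy, hya, hyc, hyf⟩ := D.surj e 0 0 (bar_zero n) D.Phi.zero_mem
  refine ⟨x, ⟨hx, hxc, hxf⟩, y, ⟨hy, hyc, hyf⟩, ?_⟩
  rw [D.comm x hx y hy, hxa, hya, hxc, hyc, zero_mul, zero_mul, add_zero, add_zero, he]
  group

/-- commutators of elements of `P` -/
theorem comm_mem {x y : G} (hx : x ∈ D.P) (hy : y ∈ D.P) : x * y * x⁻¹ * y⁻¹ ∈ D.Z := by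
  refine ⟨Tr n (D.a x * bar n (D.a y)) + (D.c x * D.f y + D.c y * D.f x), ?_, ?_⟩
  · refine fixed_add (fixed_Tr D.hq _) (fixed_add ?_ ?_)
    · exact fixed_mul (D.fix_c x hx) (D.fix_Phi _ (D.f_mem y hy))
    · exact fixed_mul (D.fix_c y hy) (D.fix_Phi _ (D.f_mem x hx))
  · rw [D.comm x hx y hy]; group

theorem form_fixed {x : G} (hx : x ∈ D.P) :
    bar n (N n (D.a x) + D.kap * D.c x + D.c x * D.f x) = N n (D.a x) + D.kap * D.c x + D.c x * D.f x :=
  fixed_add (fixed_add (fixed_N D.hq _) (fixed_mul D.fix_kap (D.fix_c x hx)))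
    (fixed_mul (D.fix_c x hx) (D.fix_Phi _ (D.f_mem x hx)))

theorem sq_mem {x : G} (hx : x ∈ D.P) : x * x ∈ D.Z :=
  ⟨_, form_fixed D hx, D.sq x hx⟩

/-- an element of `P` of square one is singular -/
theorem form_eq {x : G} (hx : x ∈ D.P) (h : x * x = 1) :
    N n (D.a x) + D.kap * D.c x + D.c x * D.f x = 0 := by
  apply D.z_inj _ (form_fixed D hx)
  rw [← D.sq x hx, h]

theorem Z_le : D.Z ≤ D.P := by
  rintro x ⟨b, hb, rfl⟩
  exact D.z_mem b hb

/-- coordinates of `[x, u]` -/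
theorem coord {x u : G} (hx : cj x D.P = D.P) (hu : u ∈ D.P) :
    x * u * x⁻¹ * u⁻¹ ∈ D.P ∧ D.a (x * u * x⁻¹ * u⁻¹) = D.a (x * u * x⁻¹) + D.a u ∧
      D.c (x * u * x⁻¹ * u⁻¹) = D.c (x * u * x⁻¹) + D.c u ∧
      D.f (x * u * x⁻¹ * u⁻¹) = D.f (x * u * x⁻¹) + D.f u := by
  have h1 : x * u * x⁻¹ ∈ D.P := hx ▸ mem_cj_mul hu
  have h2 := D.P.inv_mem hu
  refine ⟨D.P.mul_mem h1 h2, ?_, ?_, ?_⟩
  · rw [D.a_mul _ h1 _ h2, D.a_inv hu]
  · rw [D.c_mul _ h1 _ h2, D.c_inv hu]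
  · rw [D.f_mul _ h1 _ h2, D.f_inv hu]

/-- type `F`: singular commutators -/
theorem typF_sing {x : G} (hx : cj x D.P = D.P) {c₀ : F}
    (h : ∀ p ∈ D.P, D.a (x * p * x⁻¹) = c₀ * bar n (D.a p) ∧
      D.c (x * p * x⁻¹) = D.c p ∧ D.f (x * p * x⁻¹) = D.f p) {u : G} (hu : u ∈ D.P)
    (h2 : (x * u * x⁻¹ * u⁻¹) * (x * u * x⁻¹ * u⁻¹) = 1) : c₀ * bar n (D.a u) + D.a u = 0 := by
  obtain ⟨h3, h4, h5, h6⟩ := coord D hx hu
  have h7 := form_eq D h3 h2
  obtain ⟨h8, h9, h10⟩ := h u hu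
  rw [h5, h6, h4, h8, h9, h10, Cfsg.Agent.StdU3.Field.add_self, Cfsg.Agent.StdU3.Field.add_self, mul_zero,
    add_zero, mul_zero, add_zero] at h7
  exact N_eq_zero h7

/-- type `G`: singular commutators -/
theorem typG_sing {x : G} (hx : cj x D.P = D.P) (hk : D.kap = 0) {θ : F} (hθ : θ ≠ 0)
    (h : ∀ p ∈ D.P, D.a (x * p * x⁻¹) = D.a p ∧
      D.c (x * p * x⁻¹) = θ * D.f p ∧ D.f (x * p * x⁻¹) = θ⁻¹ * D.c p) {u : G} (hu : u ∈ D.P)
    (h2 : (x * u * x⁻¹ * u⁻¹) * (x * u * x⁻¹ * u⁻¹) = 1) : θ * D.f u + D.c u = 0 := by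
  obtain ⟨h3, h4, h5, h6⟩ := coord D hx hu
  have h7 := form_eq D h3 h2
  obtain ⟨h8, h9, h10⟩ := h u hu
  rw [h5, h6, h4, h8, h9, h10, Cfsg.Agent.StdU3.Field.add_self, hk, zero_mul, N_zero, add_zero, zero_add] at h7
  have h11 : (θ * D.f u + D.c u) * (θ⁻¹ * D.c u + D.f u) = θ⁻¹ * (θ * D.f u + D.c u) ^ 2 := by
    field_simp; ring
  rw [h11] at h7
  rcases mul_eq_zero.mp h7 with h12 | h12
  · exact absurd h12 (inv_ne_zero hθ)
  · exact pow_eq_zero_iff (two_ne_zero) |>.mp h12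

/-- type `U`: singular commutators with elements of `S` -/
theorem typU_sing {x : G} (hx : cj x D.P = D.P) (_ : D.kap = 0) {c₀ θ : F}
    (h : ∀ p ∈ D.P, D.a (x * p * x⁻¹) = c₀ * bar n (D.a p) ∧
      D.c (x * p * x⁻¹) = θ * D.f p ∧ D.f (x * p * x⁻¹) = θ⁻¹ * D.c p) {u : G} (hu : u ∈ D.P)
    (hc : D.c u = 0) (hf : D.f u = 0)
    (h2 : (x * u * x⁻¹ * u⁻¹) * (x * u * x⁻¹ * u⁻¹) = 1) : c₀ * bar n (D.a u) + D.a u = 0 := by
  obtain ⟨h3, h4, h5, h6⟩ := coord D hx hu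
  have h7 := form_eq D h3 h2
  obtain ⟨h8, h9, h10⟩ := h u hu
  rw [h5, h6, h4, h8, h9, h10, hc, hf, mul_zero, mul_zero, add_zero, mul_zero, add_zero, mul_zero,
    add_zero] at h7
  exact N_eq_zero h7

theorem cj_sq {g x u : G} (hx : x ∈ cj g D.P) (hu : u ∈ cj g D.P) :
    (x * u * x⁻¹ * u⁻¹) * (x * u * x⁻¹ * u⁻¹) = 1 := by
  rw [mem_cj] at hx hu
  obtain ⟨b, hb, h⟩ := comm_mem D hx hu
  have h1 : x * u * x⁻¹ * u⁻¹ = g * D.z b * g⁻¹ := by
    rw [← h]; group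
  rw [h1]
  have h2 : g * D.z b * g⁻¹ * (g * D.z b * g⁻¹) = g * (D.z b * D.z b) * g⁻¹ := by group
  rw [h2, z_zb D hb, mul_one, mul_inv_cancel]

/-- three values of `c₀ ā + a` -/
theorem exists_three {c₀ : F} (hq : Qd F n) : ∃ a l : F, bar n l = l ∧ l ≠ 0 ∧ l ≠ 1 ∧
    c₀ * bar n a + a ≠ 0 := by
  obtain ⟨l, hl, hl1⟩ := exists_fixed_ne hq
  obtain ⟨e, he⟩ := exists_Tr_one hq
  by_cases h1 : c₀ * bar n 1 + 1 = 0
  · refine ⟨e, l, hl, l.ne_zero, hl1, ?_⟩
    rw [bar_one, mul_one] at h1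
    rw [Cfsg.Agent.StdU3.Field.add_eq_zero] at h1
    rw [h1, one_mul, add_comm, ← Tr_def, he]
    exact one_ne_zero
  · exact ⟨1, l, hl, l.ne_zero, hl1, h1⟩

theorem many [Finite G] {ι : Type*} (α γ : ι → F) (hγ : ∀ i, bar n (γ i) = γ i) {R : Subgroup G}
    (h : ∀ i j, ∀ u ∈ R, u ∈ D.P → D.a u = α i + α j → D.c u = γ i + γ j → D.f u = 0 → i = j) :
    Nat.card ι ≤ R.relIndex D.P := by
  have h0 : ∀ i, ∃ x ∈ D.P, D.a x = α i ∧ D.c x = γ i ∧ D.f x = 0 := fun i =>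
    D.surj (α i) (γ i) 0 (hγ i) D.Phi.zero_mem
  choose x hx hxa hxc hxf using h0
  refine le_relIndex x hx ?_
  intro i j hij
  have hu := D.P.inv_mem (hx i)
  refine h i j _ hij (D.P.mul_mem hu (hx j)) ?_ ?_ ?_
  · rw [D.a_mul _ hu _ (hx j), D.a_inv (hx i), hxa, hxa]
  · rw [D.c_mul _ hu _ (hx j), D.c_inv (hx i), hxc, hxc]
  · rw [D.f_mul _ hu _ (hx j), D.f_inv (hx i), hxf, hxf, add_zero]

omit [Fintype F] [CharP F 2] in
theorem inj_three {l : F} (h0 : l ≠ 0) (h1 : l ≠ 1) : Function.Injective ![0, 1, l] := by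
  intro i j h
  fin_cases i <;> fin_cases j <;> simp_all

omit [Fintype F] [CharP F 2] in
theorem fix_three {l : F} (hl : bar n l = l) (i : Fin 3) : bar n (![0, 1, l] i) = ![0, 1, l] i := by
  fin_cases i
  · exact bar_zero n
  · exact bar_one n
  · exact hl

theorem three_a [Finite G] {c₀ : F} {R : Subgroup G}
    (h : ∀ u ∈ R, u ∈ D.P → D.c u = 0 → D.f u = 0 → c₀ * bar n (D.a u) + D.a u = 0) :
    3 ≤ R.relIndex D.P := by
  obtain ⟨a, l, hl, hl0, hl1, hv⟩ := exists_three (c₀ := c₀) D.hq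
  have key := many D (fun i : Fin 3 => ![0, 1, l] i * a) (fun _ => 0) (fun _ => bar_zero n) (R := R) ?_
  · rwa [Nat.card_eq_fintype_card, Fintype.card_fin] at key
  · intro i j u hu huP hua huc huf
    have h1 := h u hu huP (by rw [huc, add_zero]) huf
    rw [hua, ← add_mul, bar_mul, fixed_add (fix_three hl i) (fix_three hl j)] at h1
    have h2 : (![0, 1, l] i + ![0, 1, l] j) * (c₀ * bar n a + a) = 0 := by linear_combination h1
    rcases mul_eq_zero.mp h2 with h3 | h3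
    · exact inj_three hl0 hl1 (Cfsg.Agent.StdU3.Field.add_eq_zero.mp h3)
    · exact absurd h3 hv

theorem three_c [Finite G] {R : Subgroup G}
    (h : ∀ u ∈ R, u ∈ D.P → D.f u = 0 → D.c u = 0) :
    3 ≤ R.relIndex D.P := by
  obtain ⟨l, hl, hl1⟩ := exists_fixed_ne D.hq
  have key := many D (fun _ : Fin 3 => 0) (fun i => ![0, 1, (l : F)] i) (fix_three hl) (R := R) ?_
  · rwa [Nat.card_eq_fintype_card, Fintype.card_fin] at key
  · intro i j u hu huP hua huc huf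
    have h1 := h u hu huP huf
    rw [huc] at h1
    exact inj_three l.ne_zero hl1 (Cfsg.Agent.StdU3.Field.add_eq_zero.mp h1)

theorem six [Finite G] {c₀ : F} {R : Subgroup G}
    (h : ∀ u ∈ R, u ∈ D.P → c₀ * bar n (D.a u) + D.a u = 0)
    (h' : ∀ u ∈ R, u ∈ D.P → D.f u = 0 → D.c u = 0) :
    6 ≤ R.relIndex D.P := by
  obtain ⟨a, l, hl, hl0, hl1, hv⟩ := exists_three (c₀ := c₀) D.hq
  have key := many D (fun i : Fin 3 × Fin 2 => ![0, 1, l] i.1 * a) (fun i => ![0, 1] i.2)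
    (fun i => by obtain ⟨i, j⟩ := i; fin_cases j; exacts [bar_zero n, bar_one n]) (R := R) ?_
  · rwa [Nat.card_eq_fintype_card, Fintype.card_prod, Fintype.card_fin, Fintype.card_fin] at key
  · rintro ⟨i, i'⟩ ⟨j, j'⟩ u hu huP hua huc huf
    have h1 := h u hu huP
    dsimp only at hua huc
    rw [hua, ← add_mul, bar_mul, fixed_add (fix_three hl i) (fix_three hl j)] at h1
    have h2 : (![0, 1, l] i + ![0, 1, l] j) * (c₀ * bar n a + a) = 0 := by linear_combination h1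
    have h4 : i = j := by
      rcases mul_eq_zero.mp h2 with h3 | h3
      · exact inj_three hl0 hl1 (Cfsg.Agent.StdU3.Field.add_eq_zero.mp h3)
      · exact absurd h3 hv
    have h5 := h' u hu huP huf
    rw [huc, Cfsg.Agent.StdU3.Field.add_eq_zero] at h5
    have h6 : i' = j' := by
      fin_cases i' <;> fin_cases j' <;> simp_all
    rw [h4, h6]

theorem inn {u p : G} (hu : u ∈ D.P) (hp : p ∈ D.P) :
    D.a (u * p * u⁻¹) = D.a p ∧ D.c (u * p * u⁻¹) = D.c p ∧ D.f (u * p * u⁻¹) = D.f p := by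
  have h1 := D.P.mul_mem hu hp
  have h2 := D.P.inv_mem hu
  refine ⟨?_, ?_, ?_⟩
  · rw [D.a_mul _ h1 _ h2, D.a_mul _ hu _ hp, D.a_inv hu, add_comm (D.a u), add_assoc,
      Cfsg.Agent.StdU3.Field.add_self, add_zero]
  · rw [D.c_mul _ h1 _ h2, D.c_mul _ hu _ hp, D.c_inv hu, add_comm (D.c u), add_assoc,
      Cfsg.Agent.StdU3.Field.add_self, add_zero]
  · rw [D.f_mul _ h1 _ h2, D.f_mul _ hu _ hp, D.f_inv hu, add_comm (D.f u), add_assoc,
      Cfsg.Agent.StdU3.Field.add_self, add_zero]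

theorem FU {x y : G} (hx : TypF D x) (hy : TypU D y) : x * y ∉ D.P := by
  intro hxy
  obtain ⟨hx0, -, c₀, -, hx1⟩ := hx
  obtain ⟨hy0, -, -, -, c₁, θ, -, -, -, hy1⟩ := hy
  obtain ⟨p, hp, -, hpc, hpf⟩ := D.surj 0 1 0 (bar_one n) D.Phi.zero_mem
  have h1 := (inn D hxy hp).2.1
  have h2 : x * y * p * (x * y)⁻¹ = x * (y * p * y⁻¹) * x⁻¹ := by group
  have h3 : y * p * y⁻¹ ∈ D.P := hy0 ▸ mem_cj_mul hp
  rw [h2, (hx1 _ h3).2.1, (hy1 _ hp).2.1, hpf, hpc, mul_zero] at h1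
  exact zero_ne_one h1

theorem GU {x y : G} (hx : TypG D x) (hy : TypU D y) : x * y ∉ D.P := by
  intro hxy
  obtain ⟨hx0, -, -, -, θ', -, -, hx1⟩ := hx
  obtain ⟨hy0, -, -, -, c₁, θ, -, -, -, hy1⟩ := hy
  obtain ⟨a, -, -, -, -, ha⟩ := exists_three (c₀ := c₁) D.hq
  obtain ⟨p, hp, hpa, -, -⟩ := D.surj a 0 0 (bar_zero n) D.Phi.zero_mem
  have h1 := (inn D hxy hp).1
  have h2 : x * y * p * (x * y)⁻¹ = x * (y * p * y⁻¹) * x⁻¹ := by group
  have h3 : y * p * y⁻¹ ∈ D.P := hy0 ▸ mem_cj_mul hp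
  rw [h2, (hx1 _ h3).1, (hy1 _ hp).1, hpa] at h1
  exact ha (Cfsg.Agent.StdU3.Field.add_eq_zero.mpr h1)

variable {D}

theorem cj_Z_le {T : Subgroup G} (hT : Syl D T) {g : G} (hg : cj g D.P ≤ T) {x : G} (hx : x ∈ D.Z) :
    g * x * g⁻¹ ∈ D.P := by
  obtain ⟨b, hb, rfl⟩ := hx
  obtain ⟨s, hs, t, ht, h⟩ := z_comm D hb
  have h1 := hT.comm _ (hg (mem_cj_mul (g := g) hs.1)) _ (hg (mem_cj_mul (g := g) ht.1))
  rw [← h]
  have h2 : g * (s * t * s⁻¹ * t⁻¹) * g⁻¹ = g * s * g⁻¹ * (g * t * g⁻¹) * (g * s * g⁻¹)⁻¹ *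
      (g * t * g⁻¹)⁻¹ := by group
  rw [h2]
  exact h1

theorem cj_sq_mem {T : Subgroup G} (hT : Syl D T) {g : G} (hg : cj g D.P ≤ T) {x : G}
    (hx : x ∈ cj g D.P) : x * x ∈ D.P := by
  rw [mem_cj] at hx
  have h1 := cj_Z_le hT hg (sq_mem D hx)
  have h2 : g * (g⁻¹ * x * g * (g⁻¹ * x * g)) * g⁻¹ = x * x := by group
  rwa [h2] at h1

/-- two elements of the same type are in the same coset -/
theorem same {P : Subgroup G} {x y : G} (hxx : x * x ∈ P) (hxy : x * y ∈ P) : x⁻¹ * y ∈ P := by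
  have h1 := P.mul_mem (P.inv_mem hxx) hxy
  have h2 : (x * x)⁻¹ * (x * y) = x⁻¹ * y := by group
  rwa [h2] at h1

theorem weak [Finite G] {T : Subgroup G} (hT : Syl D T) {g : G} (hg : cj g D.P ≤ T) :
    cj g D.P = D.P := by
  classical
  by_cases hle : cj g D.P ≤ D.P
  · exact eq_of_le_of_card_ge hle (card_cj g D.P).ge
  exfalso
  have hsq : ∀ x ∈ cj g D.P, x * x ∈ D.P := fun x hx => cj_sq_mem hT hg hx
  have htyp : ∀ x ∈ cj g D.P, x ∈ D.P ∨ TypF D x ∨ TypG D x ∨ TypU D x := fun x hx =>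
    hT.typ x (hg hx) (hsq x hx)
  have hFF : ∀ x ∈ cj g D.P, ∀ y ∈ cj g D.P, TypF D x → TypF D y → x⁻¹ * y ∈ D.P :=
    fun x hx y hy h1 h2 => same (hsq x hx) (hT.FF x (hg hx) y (hg hy) h1 h2)
  have hGG : ∀ x ∈ cj g D.P, ∀ y ∈ cj g D.P, TypG D x → TypG D y → x⁻¹ * y ∈ D.P :=
    fun x hx y hy h1 h2 => same (hsq x hx) (hT.GG x (hg hx) y (hg hy) h1 h2)
  have hUU : ∀ x ∈ cj g D.P, ∀ y ∈ cj g D.P, TypU D x → TypU D y → x⁻¹ * y ∈ D.P :=
    fun x hx y hy h1 h2 => same (hsq x hx) (hT.UU x (hg hx) y (hg hy) h1 h2)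
  have hPP : ∀ x y : G, x ∈ D.P → y ∈ D.P → x⁻¹ * y ∈ D.P := fun x y hx hy =>
    D.P.mul_mem (D.P.inv_mem hx) hy
  have hcomm := relIndex_comm (card_cj g D.P)
  -- an element outside `P`
  obtain ⟨x₀, hx₀, hx₀P⟩ := SetLike.not_le_iff_exists.mp hle
  -- index two
  have hF : ∀ x ∈ cj g D.P, TypF D x → 3 ≤ (cj g D.P).relIndex D.P := by
    rintro x hx ⟨h1, -, c₀, -, h2⟩
    exact three_a D (c₀ := c₀) fun u hu huP _ _ => typF_sing D h1 h2 huP (cj_sq D hx hu)
  have hG : ∀ x ∈ cj g D.P, TypG D x → 3 ≤ (cj g D.P).relIndex D.P := by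
    rintro x hx ⟨h1, -, hk, -, θ, hθ, -, h2⟩
    refine three_c D fun u hu huP huf => ?_
    have h3 := typG_sing D h1 hk hθ h2 huP (cj_sq D hx hu)
    rwa [huf, mul_zero, zero_add] at h3
  have hU : ∀ x ∈ cj g D.P, TypU D x → 3 ≤ (cj g D.P).relIndex D.P := by
    rintro x hx ⟨h1, -, hk, -, c₀, θ, -, -, -, h2⟩
    exact three_a D (c₀ := c₀) fun u hu huP huc huf => typU_sing D h1 hk h2 huP huc huf (cj_sq D hx hu)
  have hthree : 3 ≤ (cj g D.P).relIndex D.P := by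
    rcases htyp x₀ hx₀ with h | h | h | h
    · exact absurd h hx₀P
    · exact hF x₀ hx₀ h
    · exact hG x₀ hx₀ h
    · exact hU x₀ hx₀ h
  have two : ∀ X : G → Prop, (∀ x ∈ cj g D.P, ∀ y ∈ cj g D.P, X x → X y → x⁻¹ * y ∈ D.P) →
      (∀ x ∈ cj g D.P, x ∉ D.P → X x) → False := by
    intro X h1 h2
    have h3 := relIndex_le (H := D.P) (K := cj g D.P) (k := 2) (fun x => if x ∈ D.P then 0 else 1) ?_
    · omega
    · intro x hx y hy hxy
      by_cases hxP : x ∈ D.P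
      · by_cases hyP : y ∈ D.P
        · exact hPP x y hxP hyP
        · simp [hxP, hyP] at hxy
      · by_cases hyP : y ∈ D.P
        · simp [hxP, hyP] at hxy
        · exact h1 x hx y hy (h2 x hx hxP) (h2 y hy hyP)
  by_cases hboth : (∃ x ∈ cj g D.P, TypF D x) ∧ ∃ x ∈ cj g D.P, TypG D x
  · obtain ⟨⟨x, hx, h1, -, c₀, -, h2⟩, y, hy, h3, -, hk, -, θ, hθ, -, h4⟩ := hboth
    have h5 := six D (R := cj g D.P) (c₀ := c₀)
      (fun u hu huP => typF_sing D h1 h2 huP (cj_sq D hx hu)) (fun u hu huP huf => by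
        have h3 := typG_sing D h3 hk hθ h4 huP (cj_sq D hy hu)
        rwa [huf, mul_zero, zero_add] at h3)
    have h6 := relIndex_le (H := D.P) (K := cj g D.P) (k := 4)
      (fun x => if x ∈ D.P then 0 else if TypF D x then 1 else if TypG D x then 2 else 3) ?_
    · omega
    · intro x hx y hy hxy
      have h7 := htyp x hx
      have h8 := htyp y hy
      by_cases hxP : x ∈ D.P
      · by_cases hyP : y ∈ D.P
        · exact hPP x y hxP hyP
        · rw [if_pos hxP, if_neg hyP] at hxy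
          split_ifs at hxy <;> exact absurd hxy (by decide)
      · by_cases hyP : y ∈ D.P
        · rw [if_neg hxP, if_pos hyP] at hxy
          split_ifs at hxy <;> exact absurd hxy (by decide)
        · rw [if_neg hxP, if_neg hyP] at hxy
          by_cases hxF : TypF D x
          · by_cases hyF : TypF D y
            · exact hFF x hx y hy hxF hyF
            · rw [if_pos hxF, if_neg hyF] at hxy
              split_ifs at hxy <;> exact absurd hxy (by decide)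
          · by_cases hyF : TypF D y
            · rw [if_neg hxF, if_pos hyF] at hxy
              split_ifs at hxy <;> exact absurd hxy (by decide)
            · rw [if_neg hxF, if_neg hyF] at hxy
              by_cases hxG : TypG D x
              · by_cases hyG : TypG D y
                · exact hGG x hx y hy hxG hyG
                · rw [if_pos hxG, if_neg hyG] at hxy
                  exact absurd hxy (by decide)
              · by_cases hyG : TypG D y
                · rw [if_neg hxG, if_pos hyG] at hxy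
                  exact absurd hxy (by decide)
                · refine hUU x hx y hy ?_ ?_
                  · exact ((h7.resolve_left hxP).resolve_left hxF).resolve_left hxG
                  · exact ((h8.resolve_left hyP).resolve_left hyF).resolve_left hyG
  · by_cases h1 : ∃ x ∈ cj g D.P, x ∉ D.P ∧ TypF D x
    · obtain ⟨x, hx, hxP, hxF⟩ := h1
      refine two (TypF D) hFF fun y hy hyP => ?_
      rcases htyp y hy with h | h | h | h
      · exact absurd h hyP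
      · exact h
      · exact absurd ⟨⟨x, hx, hxF⟩, y, hy, h⟩ hboth
      · exfalso
        rcases htyp (x * y) (mul_mem hx hy) with h' | h' | h' | h'
        · exact FU D hxF h h'
        · have h3 := hFF x hx _ (mul_mem hx hy) hxF h'
          rw [inv_mul_cancel_left] at h3
          exact hyP h3
        · exact hboth ⟨⟨x, hx, hxF⟩, _, mul_mem hx hy, h'⟩
        · have h3 := hT.UU _ (hg (mul_mem hx hy)) y (hg hy) h' h
          rw [mul_assoc] at h3
          exact hxP (((D.P).mul_mem_cancel_right (hsq y hy)).mp h3)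
    · by_cases h2 : ∃ x ∈ cj g D.P, x ∉ D.P ∧ TypG D x
      · obtain ⟨x, hx, hxP, hxG⟩ := h2
        refine two (TypG D) hGG fun y hy hyP => ?_
        rcases htyp y hy with h | h | h | h
        · exact absurd h hyP
        · exact absurd ⟨y, hy, hyP, h⟩ h1
        · exact h
        · exfalso
          rcases htyp (x * y) (mul_mem hx hy) with h' | h' | h' | h'
          · exact GU D hxG h h'
          · exact hboth ⟨⟨_, mul_mem hx hy, h'⟩, x, hx, hxG⟩
          · have h3 := hGG x hx _ (mul_mem hx hy) hxG h'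
            rw [inv_mul_cancel_left] at h3
            exact hyP h3
          · have h3 := hT.UU _ (hg (mul_mem hx hy)) y (hg hy) h' h
            rw [mul_assoc] at h3
            exact hxP (((D.P).mul_mem_cancel_right (hsq y hy)).mp h3)
      · refine two (TypU D) hUU fun y hy hyP => ?_
        rcases htyp y hy with h | h | h | h
        · exact absurd h hyP
        · exact absurd ⟨y, hy, hyP, h⟩ h1
        · exact absurd ⟨y, hy, hyP, h⟩ h2
        · exact h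

theorem syl_top [Finite G] {T : Subgroup G} (hT : Syl D T) : IsSyl T ⊤ := by
  have : Fact (Nat.Prime 2) := ⟨Nat.prime_two⟩
  refine ⟨hT.syl.two, le_top, ?_⟩
  intro Q hQ hle _
  refine (Cfsg.Agent.Blocks.SylowIn.eq_of_normalizer_inf_le (p := 2) hQ hle ?_).le
  intro x hx
  have h1 : cj x D.P ≤ T := by
    rw [← cj_eq_of_mem_normalizer hx.1]
    exact Subgroup.map_mono hT.le
  have h2 := mem_normalizer_of_cj_eq (weak hT h1)
  exact hT.syl.max (normalizer (D.P : Set G) ⊓ Q) (hQ.to_le inf_le_right)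
    (le_inf hT.syl.le hle) inf_le_left ⟨h2, hx.2⟩

end

end Cfsg.Agent.OddHalf.D4.U3.Weak
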