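import Cfsg.Agent.OddHalf.D4.U3.Types
import Cfsg.Agent.OddHalf.D4.U3.Weak
import Cfsg.Agent.OddHalf.D4.U3.RichP
import Cfsg.Agent.OddHalf.D4.U3.RichT
import Cfsg.Agent.OddHalf.D4.U3.Closed
import Cfsg.Agent.OddHalf.D4.U3.EndCore

/-!
# ODD, D4, row `K = U₃(q)`, `q = 2 ^ n ≥ 4`: the abstract half

`Dat.false`: the data `Dat G F n` are contradictory in a simple group.
-/

set_option autoImplicit false

namespace Cfsg.Agent.OddHalf.D4.U3.Defs

open Subgroup Cfsg.Agent.OddHalf.D4.Basic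

universe u v

variable {G : Type u} [Group G] {F : Type v} [Field F] [Fintype F] [CharP F 2] {n : ℕ}

/-- **the abstract half of `u3e`** -/
theorem Dat.false [Finite G] [IsSimpleGroup G] (gold : Cfsg.Agent.StdSz.EndClosed.Gold.{u})
    (D : Dat G F n) : False := by
  obtain ⟨T, hT⟩ := Types.exists_syl D
  have htop : IsSyl T ⊤ := Weak.syl_top hT
  refine EndCore.false_of gold hT htop (EndCore.in_of hT ?_ ?_ ?_ ?_)
  · rintro b hb hb1 ⟨R, hR, hRb, rich⟩ ⟨g, hg⟩
    exact Closed.closed D hT htop hb hR hRb rich hg hb1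
  · intro b hb hbZ hb2
    obtain ⟨R, hR, h1, h2⟩ := RichP.richP D hb hbZ hb2
    exact ⟨R, hR, h1, h2⟩
  · intro b hb hF hb2
    exact RichT.richF D hT hb hF hb2
  · intro b hb hF hb2
    exact RichT.richG D hT hb hF hb2

end Cfsg.Agent.OddHalf.D4.U3.Defs
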