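import Cfsg.Agent.OddHalf.D4.U3.ParDefs

/-!
# ODD, D4, row `K = U₃(q)`: the facts on `K` and `N(K)` used in pieces M, N, O

`Fr K S Z B H`: `S` a Sylow 2-subgroup of `K`, `Z` its centre, `B = N_K(S)`, `H ≤ B` the part of the torus
centralising `Z`. `Uni.conj`, `Uni.inn`: conjugates of the data.
-/

set_option autoImplicit false
set_option linter.dupNamespace false

namespace Cfsg.Agent.OddHalf.D4.U3.Fr

open Subgroup Cfsg.Agent.LieRecognition Cfsg.Agent.LieRecognition.HermHeis Cfsg.Agent.StdU3.URel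
  Cfsg.Agent.StdU3.Field Cfsg.Agent.StdU3.Semi Cfsg.Agent.OddHalf.D4 Cfsg.Agent.OddHalf.D4.Basic
  Cfsg.Agent.OddHalf.D4.U3.ParDefs
open Cfsg.Agent.OddHalf.D4.CommConj (Tight cj mem_cj cj_mul card_cj cj_eq_of_mem_normalizer
  mem_normalizer_of_cj_eq mem_cj_mul)

universe u v

/-- the frame: everything elementwise -/
structure Fr {G : Type*} [Group G] (K S Z B H : Subgroup G) : Prop where
  syl : IsSyl S K
  B_le : B ≤ K
  Z_le : Z ≤ S
  S_le : S ≤ B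
  H_le : H ≤ B
  /-- `B` normalises `S` and `Z` -/
  norm : ∀ b ∈ B, ∀ s ∈ S, b * s * b⁻¹ ∈ S
  normZ : ∀ b ∈ B, ∀ z ∈ Z, b * z * b⁻¹ ∈ Z
  /-- the 2-elements of `B` -/
  twoB : ∀ b ∈ B, (∃ k : ℕ, b ^ 2 ^ k = 1) → b ∈ S
  centB : ∀ b ∈ B, (∀ s ∈ S, b * s = s * b) → b ∈ Z
  invol : ∀ s ∈ S, orderOf s = 2 → s ∈ Z
  sq : ∀ z ∈ Z, z * z = 1
  commZ : ∀ z ∈ Z, ∀ s ∈ S, z * s = s * z
  commH : ∀ z ∈ Z, ∀ h ∈ H, z * h = h * z
  ti : ∀ g ∈ K, ∀ x ∈ S, x ≠ 1 → g * x * g⁻¹ ∈ S → g ∈ B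
  top : ∀ D : Subgroup G, D ≤ K → S ≤ D → ¬ D ≤ B → D = K
  simple : ∀ N : Subgroup G, N ≤ K → (∀ k ∈ K, ∀ x ∈ N, k * x * k⁻¹ ∈ N) → N = ⊥ ∨ N = K
  full : ∀ s ∈ S, s ∉ Z → ∀ z ∈ Z, ∃ t ∈ S, s * t * s⁻¹ * t⁻¹ = z
  gen : ∀ s ∈ S, ∃ s1 ∈ S, ∃ h ∈ H, ∃ s2 ∈ S, ∃ s3 ∈ S,
    s = (s1 * h * s1⁻¹ * h⁻¹) * (s2 * s3 * s2⁻¹ * s3⁻¹)
  fpf : ∀ s ∈ S, (∀ h ∈ H, h * s * h⁻¹ * s⁻¹ ∈ Z) → s ∈ Z
  irr : ∀ T : Subgroup G, T ≤ S → (∀ b ∈ B, ∀ t ∈ T, b * t * b⁻¹ ∈ T) → ¬ T ≤ Z → S ≤ T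
  /-- automorphisms trivial on `S / Z` are inner -/
  triv : ∀ y ∈ normalizer (K : Set G), (∀ s ∈ S, ∃ z ∈ Z, y * s * y⁻¹ = s * z) →
    ∃ c ∈ centralizer (K : Set G), ∃ s ∈ S, y = c * s
  /-- `N(K) / C(K) K` has abelian Sylow 2-structure: 2-elements of a derived group are inner -/
  innerComm : ∀ D : Subgroup G, D ≤ normalizer (K : Set G) → ∀ x ∈ ⁅D, D⁆, (∃ k : ℕ, x ^ 2 ^ k = 1) →
    ∃ c ∈ centralizer (K : Set G), ∃ s ∈ K, x = c * s
  /-- a four-group contains an inner element -/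
  innerFour : ∀ a ∈ normalizer (K : Set G), ∀ b ∈ normalizer (K : Set G), orderOf a = 2 → orderOf b = 2 →
    a ≠ b → a * b = b * a → ∃ x : G, (x = a ∨ x = b ∨ x = a * b) ∧
      ∃ c ∈ centralizer (K : Set G), ∃ s ∈ K, x = c * s
  tight : TightAt K
  std : ∀ g : G, ¬ cj g K ≤ centralizer (K : Set G)
  cen : ∀ x ∈ K, x ∈ centralizer (K : Set G) → x = 1
  core : ∀ O : Subgroup G, O ≤ centralizer (K : Set G) →
    (∀ x ∈ centralizer (K : Set G), ∀ o ∈ O, x * o * x⁻¹ ∈ O) → Odd (Nat.card O) → O = ⊥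
  four : ∃ r ∈ centralizer (K : Set G), ∃ s ∈ centralizer (K : Set G), orderOf r = 2 ∧ orderOf s = 2 ∧
    r ≠ s ∧ r * s = s * r

variable {G : Type u} [Group G] {F : Type v} [Field F] [Fintype F] [CharP F 2] {σ : F →+* F}
  [hσ : Fact (∀ x, σ (σ x) = x)] {n : ℕ}

/-- the parametrisation of `K` conjugated by `k ∈ K` -/
def inn {K : Subgroup G} (p : Par K σ n) (k : ↥K) : Par K σ n := ⟨p.hS, p.R.map (MulAut.conj k)⟩

theorem inn_u {K : Subgroup G} (p : Par K σ n) (k : ↥K) (x : Heis σ) :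
    (inn p k).u x = k * p.u x * (k : G)⁻¹ := rfl
theorem inn_d {K : Subgroup G} (p : Par K σ n) (k : ↥K) (l : Fˣ) :
    (inn p k).d l = k * p.d l * (k : G)⁻¹ := rfl
theorem inn_w {K : Subgroup G} (p : Par K σ n) (k : ↥K) : (inn p k).w = k * p.w * (k : G)⁻¹ := rfl

theorem inn_S {K : Subgroup G} (p : Par K σ n) (k : ↥K) : (inn p k).S = cj (k : G) p.S := by
  ext x
  rw [Par.mem_S, mem_cj, Par.mem_S]
  constructor
  · rintro ⟨y, rfl⟩
    exact ⟨y, by rw [inn_u]; group⟩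
  · rintro ⟨y, hy⟩
    exact ⟨y, by rw [inn_u, hy]; group⟩

theorem inn_Z {K : Subgroup G} (p : Par K σ n) (k : ↥K) : (inn p k).Z = cj (k : G) p.Z := by
  ext x
  rw [Par.mem_Z, mem_cj, Par.mem_Z]
  constructor
  · rintro ⟨y, hy, rfl⟩
    exact ⟨y, hy, by rw [inn_u]; group⟩
  · rintro ⟨y, hy, h⟩
    exact ⟨y, hy, by rw [inn_u, ← h]; group⟩

theorem inn_B {K : Subgroup G} (p : Par K σ n) (k : ↥K) : (inn p k).B = cj (k : G) p.B := by
  ext x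
  rw [Par.mem_B, mem_cj, Par.mem_B]
  constructor
  · rintro ⟨y, l, rfl⟩
    exact ⟨y, l, by rw [inn_u, inn_d]; group⟩
  · rintro ⟨y, l, h⟩
    refine ⟨y, l, ?_⟩
    rw [inn_u, inn_d]
    calc x = k * ((k : G)⁻¹ * x * k) * (k : G)⁻¹ := by group
      _ = _ := by rw [h]; group

theorem conj_B {K : Subgroup G} (p : Par K σ n) (g : G) : (p.conj g).B = cj g p.B := by
  ext x
  rw [Par.mem_B, mem_cj, Par.mem_B]
  constructor
  · rintro ⟨y, l, rfl⟩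
    exact ⟨y, l, by rw [Par.conj_u, Par.conj_d]; group⟩
  · rintro ⟨y, l, h⟩
    refine ⟨y, l, ?_⟩
    rw [Par.conj_u, Par.conj_d]
    calc x = g * (g⁻¹ * x * g) * g⁻¹ := by group
      _ = _ := by rw [h]; group

/-- the torus elements of norm one -/
def H0 {K : Subgroup G} (p : Par K σ n) : Subgroup G where
  carrier := {x | ∃ l : Fˣ, nm σ l = 1 ∧ x = p.d l}
  one_mem' := ⟨1, nm_one σ, (map_one _).symm⟩
  mul_mem' := by
    rintro x y ⟨l, hl, rfl⟩ ⟨m, hm, rfl⟩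
    refine ⟨l * m, by rw [nm_mul, hl, hm, mul_one], (map_mul _ _ _).symm⟩
  inv_mem' := by
    rintro x ⟨l, hl, rfl⟩
    refine ⟨l⁻¹, ?_, (map_inv _ _).symm⟩
    have h1 := nm_mul σ l⁻¹ l
    rw [inv_mul_cancel, nm_one, hl, mul_one] at h1
    exact h1.symm

theorem mem_H0 {K : Subgroup G} {p : Par K σ n} {x : G} : x ∈ H0 p ↔ ∃ l : Fˣ, nm σ l = 1 ∧ x = p.d l := Iff.rfl

theorem inn_H0 {K : Subgroup G} (p : Par K σ n) (k : ↥K) : H0 (inn p k) = cj (k : G) (H0 p) := by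
  ext x
  rw [mem_H0, mem_cj, mem_H0]
  constructor
  · rintro ⟨l, hl, rfl⟩
    exact ⟨l, hl, by rw [inn_d]; group⟩
  · rintro ⟨l, hl, h⟩
    refine ⟨l, hl, ?_⟩
    rw [inn_d]
    calc x = k * ((k : G)⁻¹ * x * k) * (k : G)⁻¹ := by group
      _ = _ := by rw [h]

theorem conj_H0 {K : Subgroup G} (p : Par K σ n) (g : G) : H0 (p.conj g) = cj g (H0 p) := by
  ext x
  rw [mem_H0, mem_cj, mem_H0]
  constructor
  · rintro ⟨l, hl, rfl⟩
    exact ⟨l, hl, by rw [Par.conj_d]; group⟩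
  · rintro ⟨l, hl, h⟩
    refine ⟨l, hl, ?_⟩
    rw [Par.conj_d]
    calc x = g * (g⁻¹ * x * g) * g⁻¹ := by group
      _ = _ := by rw [h]

theorem cj_self {K : Subgroup G} (k : ↥K) : cj (k : G) K = K :=
  cj_eq_of_mem_normalizer (le_normalizer k.2)

/-- `K` with the conjugate parametrisation -/
def uinn {K : Subgroup G} (X : Uni K σ n) (k : ↥K) : Uni K σ n := X.change (inn X.p k)

/-- the data of `cj g K` -/
noncomputable def uconj {K : Subgroup G} (X : Uni K σ n) (g : G) : Uni (cj g K) σ n where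
  p := X.p.conj g
  sim := (cjEquiv g K).isSimpleGroup_congr.mp X.sim
  tight := X.tight.cj g
  std := by
    intro h h1
    apply X.std (g⁻¹ * h * g)
    rw [centralizer_cj] at h1
    intro x hx
    have h2 : h * (g * (((g⁻¹ * h * g)⁻¹ * x * (g⁻¹ * h * g))) * g⁻¹) * h⁻¹ ∈ cj h (cj g K) :=
      mem_cj_mul (mem_cj_mul (mem_cj.mp hx))
    have h3 := mem_cj.mp (h1 h2)
    have h4 : g⁻¹ * (h * (g * (((g⁻¹ * h * g)⁻¹ * x * (g⁻¹ * h * g))) * g⁻¹) * h⁻¹) * g = x := by group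
    rwa [h4] at h3
  cen := by
    intro x hx hxc
    rw [centralizer_cj] at hxc
    have h1 := X.cen _ (mem_cj.mp hx) (mem_cj.mp hxc)
    have h2 : x = g * (g⁻¹ * x * g) * g⁻¹ := by group
    rw [h2, h1]; group
  core := by
    intro O hO hn hodd
    rw [centralizer_cj] at hO hn
    have h1 : cj g⁻¹ O = ⊥ := by
      apply X.core
      · intro x hx
        rw [mem_cj, inv_inv] at hx
        have h2 := mem_cj.mp (hO hx)
        have h3 : g⁻¹ * (g * x * g⁻¹) * g = x := by group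
        rwa [h3] at h2
      · intro x hx o ho
        rw [mem_cj, inv_inv] at ho ⊢
        have h2 := hn _ (mem_cj_mul (g := g) hx) _ ho
        have h3 : g * x * g⁻¹ * (g * o * g⁻¹) * (g * x * g⁻¹)⁻¹ = g * (x * o * x⁻¹) * g⁻¹ := by group
        rwa [h3] at h2
      · rwa [card_cj]
    rw [eq_bot_iff]
    intro x hx
    have h2 : g⁻¹ * x * g ∈ cj g⁻¹ O := by
      rw [mem_cj, inv_inv]
      have h3 : g * (g⁻¹ * x * g) * g⁻¹ = x := by group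
      rwa [h3]
    rw [h1, mem_bot] at h2
    rw [mem_bot]
    have h3 : x = g * (g⁻¹ * x * g) * g⁻¹ := by group
    rw [h3, h2]; group
  four := by
    obtain ⟨r, hr, s, hs, hr2, hs2, hne, hcomm⟩ := X.four
    refine ⟨g * r * g⁻¹, ?_, g * s * g⁻¹, ?_, ?_, ?_, ?_, ?_⟩
    · rw [centralizer_cj]; exact mem_cj_mul hr
    · rw [centralizer_cj]; exact mem_cj_mul hs
    · rw [Basic.orderOf_conj]; exact hr2
    · rw [Basic.orderOf_conj]; exact hs2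
    · intro h
      exact hne (mul_left_cancel (mul_right_cancel h))
    · calc g * r * g⁻¹ * (g * s * g⁻¹) = g * (r * s) * g⁻¹ := by group
        _ = g * (s * r) * g⁻¹ := by rw [hcomm]
        _ = g * s * g⁻¹ * (g * r * g⁻¹) := by group

end Cfsg.Agent.OddHalf.D4.U3.Fr
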