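import Cfsg.Agent.OddHalf.D4.U3.FrInst
import Cfsg.Agent.OddHalf.D4.U3.StepB

/-!
# ODD, D4, row `K = U₃(q)`: pieces M and N for `Uni K σ n`
-/

set_option autoImplicit false
set_option linter.dupNamespace false
set_option linter.unusedSectionVars false

namespace Cfsg.Agent.OddHalf.D4.U3.FrLit

open Subgroup Cfsg.Agent.LieRecognition Cfsg.Agent.LieRecognition.HermHeis Cfsg.Agent.StdU3.URel
  Cfsg.Agent.StdU3.Field Cfsg.Agent.StdU3.Semi Cfsg.Agent.OddHalf.D4 Cfsg.Agent.OddHalf.D4.Basic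
  Cfsg.Agent.OddHalf.D4.U3.ParDefs Cfsg.Agent.OddHalf.D4.U3.Fr
open Cfsg.Agent.OddHalf.D4.CommConj (Tight cj mem_cj cj_mul card_cj cj_eq_of_mem_normalizer
  mem_normalizer_of_cj_eq mem_cj_mul)

universe u v

variable {G : Type u} [Group G] {F : Type v} [Field F] [Fintype F] [CharP F 2] {σ : F →+* F}
  [hσ : Fact (∀ x, σ (σ x) = x)] {n : ℕ} {K L Q U : Subgroup G}

/-- the frame at a conjugate Sylow 2-subgroup of `K` -/
theorem fr_inn [Finite G] (X : Uni K σ n) {k : G} (hk : k ∈ K) :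
    Fr K (cj k X.p.S) (cj k X.p.Z) (cj k X.p.B) (cj k (H0 X.p)) := by
  have h := fr (uinn X ⟨k, hk⟩)
  have h1 : (uinn X ⟨k, hk⟩).p = inn X.p ⟨k, hk⟩ := rfl
  rw [h1, inn_S, inn_Z, inn_B, inn_H0] at h
  exact h

/-- the frame of `cj g K` -/
theorem fr_conj [Finite G] (X : Uni K σ n) (g : G) :
    Fr (cj g K) (cj g X.p.S) (cj g X.p.Z) (cj g X.p.B) (cj g (H0 X.p)) := by
  have h := fr (uconj X g)
  have h1 : (uconj X g).p = X.p.conj g := rfl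
  rw [h1, Par.conj_S, Par.conj_Z, conj_B, conj_H0] at h
  exact h

/-- `B ≠ K` -/
theorem B_ne (X : Uni K σ n) : ¬ K ≤ X.p.B := fun h => X.p.w_not_mem (h X.p.w_mem)

/-- **piece M** -/
theorem stepA [Finite G] (X : Uni K σ n) (hF : FullPair K L Q U) :
    ∃ k ∈ K, cj k X.p.S ≤ normalizer (L : Set G) ∧ cj k (H0 X.p) ≤ normalizer (L : Set G) ∧
      K ⊓ normalizer (L : Set G) ≤ cj k X.p.B :=
  StepA.stepA (fr X) hF

/-- `K ∩ N(L) ≠ K` -/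
theorem not_le [Finite G] (X : Uni K σ n) (hF : FullPair K L Q U) : ¬ K ≤ normalizer (L : Set G) := by
  obtain ⟨k, hk, -, -, h⟩ := stepA X hF
  intro h1
  apply X.p.w_not_mem
  have h2 : k * X.p.w * k⁻¹ ∈ K := K.mul_mem (K.mul_mem hk X.p.w_mem) (K.inv_mem hk)
  have h3 := mem_cj.mp (h ⟨h2, h1 h2⟩)
  have h4 : k⁻¹ * (k * X.p.w * k⁻¹) * k = X.p.w := by group
  rwa [h4] at h3

/-- **piece N** -/
theorem stepB [Finite G] (X : Uni K σ n) (hF : FullPair K L Q U) (hN : K ⊓ centralizer (L : Set G) = ⊥) :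
    ∃ k ∈ K, cj k X.p.S ≤ L ∧ (∀ u ∈ U, ∃ r ∈ Q, ∃ z ∈ cj k X.p.Z, u = r * z) ∧
      (∀ r ∈ Q, ∃ z ∈ cj k X.p.Z, r * z ∈ U) ∧ (∀ r ∈ Q, r * r = 1) := by
  obtain ⟨k, hk, h1, h2, -⟩ := stepA X hF
  obtain ⟨g, hg, rfl⟩ := hF.conj
  exact ⟨k, hk, StepB.stepB (fr_inn X hk) (fr_conj X g) hF h1 h2 hN⟩

end Cfsg.Agent.OddHalf.D4.U3.FrLit
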