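import Cfsg.Agent.OddHalf.D4.U3.ParDefs
import Cfsg.Agent.StdU3.Base

/-!
# ODD, D4, row `K = U₃(q)`: facts on the parametrised subgroup `K`
-/

set_option autoImplicit false
set_option linter.dupNamespace false
set_option linter.unusedSectionVars false

namespace Cfsg.Agent.OddHalf.D4.U3.ParDefs

open Subgroup Cfsg.Agent.LieRecognition Cfsg.Agent.LieRecognition.HermHeis Cfsg.Agent.StdU3.URel
  Cfsg.Agent.StdU3.Field Cfsg.Agent.StdU3.Semi Cfsg.Agent.OddHalf.D4.CommConj Cfsg.Agent.OddHalf.D4.Basic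

universe u v

variable {G : Type u} [Group G] {F : Type v} [Field F] [Fintype F] [CharP F 2] {σ : F →+* F}
  [hσ : Fact (∀ x, σ (σ x) = x)] {n : ℕ}

namespace Par

variable {K : Subgroup G} (p : Par K σ n)

theorem u_coe (x : Heis σ) : p.u x = (p.R.u x : G) := rfl
theorem d_coe (l : Fˣ) : p.d l = (p.R.d l : G) := rfl
theorem w_coe : p.w = (p.R.w : G) := rfl

theorem u_mem (x : Heis σ) : p.u x ∈ p.S := ⟨x, rfl⟩
theorem u_mem_K (x : Heis σ) : p.u x ∈ K := (p.R.u x).2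

theorem u_inj : Function.Injective p.u := by
  intro x y h
  exact p.R.u_inj (Subtype.ext h)

theorem u_eq_one {x : Heis σ} (h : p.u x = 1) : x = 1 := p.u_inj (by rw [h, map_one])

/-! ### `Z` -/

theorem u_mem_Z {x : Heis σ} (hx : x.a = 0) : p.u x ∈ p.Z := ⟨x, hx, rfl⟩

theorem u_mem_Z_iff {x : Heis σ} : p.u x ∈ p.Z ↔ x.a = 0 := by
  constructor
  · rintro ⟨y, hy, h⟩
    rw [p.u_inj h, hy]
  · exact p.u_mem_Z

theorem sq_mem_Z {x : G} (hx : x ∈ p.S) : x * x ∈ p.Z := by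
  obtain ⟨y, rfl⟩ := hx
  exact ⟨y * y, sq_a y, (map_mul _ _ _).symm⟩

theorem Z_sq {x : G} (hx : x ∈ p.Z) : x * x = 1 := by
  obtain ⟨y, hy, rfl⟩ := hx
  rw [← map_mul, (mul_self_eq_one_iff y).mpr hy, map_one]

/-- involutions of `S` are in `Z` -/
theorem mem_Z_of_sq {x : G} (hx : x ∈ p.S) (h2 : x * x = 1) : x ∈ p.Z := by
  obtain ⟨y, rfl⟩ := hx
  rw [← map_mul] at h2
  exact p.u_mem_Z ((mul_self_eq_one_iff y).mp (p.u_eq_one h2))

theorem Z_comm {z s : G} (hz : z ∈ p.Z) (hs : s ∈ p.S) : z * s = s * z := by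
  obtain ⟨y, hy, rfl⟩ := hz
  obtain ⟨x, rfl⟩ := hs
  rw [← map_mul, ← map_mul, comm_of_a_eq_zero hy]

theorem mem_Z_of_comm {z : G} (hz : z ∈ p.S) (h : ∀ s ∈ p.S, z * s = s * z) : z ∈ p.Z := by
  obtain ⟨y, rfl⟩ := hz
  apply p.u_mem_Z
  by_contra h0
  obtain ⟨e, he⟩ := exists_Tr_eq p.hS.hq h0 (bar_one n)
  obtain ⟨x, hx⟩ := exists_a p.hS e
  have h1 := h _ (p.u_mem x)
  rw [← map_mul, ← map_mul] at h1
  have h2 := (commute_iff _ _).mp (p.u_inj h1)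
  rw [hx, p.hS.eq, p.hS.eq] at h2
  rw [Tr_def, bar_mul, bar_bar p.hS.hq, h2, mul_comm, Cfsg.Agent.StdU3.Field.add_self] at he
  exact zero_ne_one he

/-! ### torus, Borel subgroup -/

theorem d_u (l : Fˣ) (x : Heis σ) : p.d l * p.u x * (p.d l)⁻¹ = p.u (act l x) := by
  rw [u_coe, u_coe, d_coe, p.R.u_act]
  rfl

theorem S_le_B : p.S ≤ p.B := by
  rintro _ ⟨x, rfl⟩
  exact p.mem_B.mpr ⟨x, 1, by rw [map_one, mul_one]⟩

theorem B_le : p.B ≤ K := by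
  rintro _ ⟨x, -, rfl⟩
  exact x.2

theorem d_mem_B (l : Fˣ) : p.d l ∈ p.B := p.mem_B.mpr ⟨1, l, by rw [map_one, one_mul]⟩

theorem w_not_mem : p.w ∉ p.B := by
  rintro ⟨b, hb, h⟩
  have h1 : b = p.R.w := Subtype.ext h
  rw [h1] at hb
  exact p.R.w_not_mem hb

theorem mem_RT {x : K} : x ∈ p.R.T ↔ (x : G) ∈ p.S := by
  constructor
  · rintro ⟨y, rfl⟩
    exact ⟨y, rfl⟩
  · rintro ⟨y, hy⟩
    exact ⟨y, Subtype.ext hy⟩

theorem mem_RB {x : K} : x ∈ p.R.B ↔ (x : G) ∈ p.B := by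
  constructor
  · intro h
    exact ⟨x, h, rfl⟩
  · rintro ⟨y, hy, h⟩
    have h1 : y = x := Subtype.ext h
    rwa [← h1]

/-- an element of `K` moving a nontrivial element of `S` into `S` lies in `B` -/
theorem mem_B_of {g x : G} (hg : g ∈ K) (hx : x ∈ p.S) (hx1 : x ≠ 1) (h : g * x * g⁻¹ ∈ p.S) :
    g ∈ p.B := by
  have h1 := p.R.mem_B_of (g := ⟨g, hg⟩) (x := ⟨x, p.S_le hx⟩) (p.mem_RT.mpr hx)
    (fun h2 => hx1 (congrArg Subtype.val h2)) (p.mem_RT.mpr h)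
  exact p.mem_RB.mp h1

theorem B_conj {b s : G} (hb : b ∈ p.B) (hs : s ∈ p.S) : b * s * b⁻¹ ∈ p.S := by
  obtain ⟨y, l, rfl⟩ := p.mem_B.mp hb
  obtain ⟨x, rfl⟩ := hs
  have e : p.u y * p.d l * p.u x * (p.u y * p.d l)⁻¹ = p.u y * (p.d l * p.u x * (p.d l)⁻¹) * (p.u y)⁻¹ := by
    group
  rw [e, d_u, ← map_inv, ← map_mul, ← map_mul]
  exact p.u_mem _

theorem cj_S_of_B {b : G} (hb : b ∈ p.B) : cj b p.S = p.S := by
  apply cj_eq_of_mem_normalizer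
  rw [mem_normalizer_iff]
  intro x
  constructor
  · exact p.B_conj hb
  · intro h
    have h1 := p.B_conj (inv_mem hb) h
    have e : b⁻¹ * (b * x * b⁻¹) * b⁻¹⁻¹ = x := by group
    rwa [e] at h1

theorem mem_B_of_cj {g : G} (hg : g ∈ K) (h : cj g p.S = p.S) : g ∈ p.B := by
  obtain ⟨z, hz, hz1⟩ := Cfsg.Agent.StdU3.Base.exists_z_ne (σ := σ)
  refine p.mem_B_of hg (p.u_mem z) (fun h0 => hz1 (p.u_eq_one h0)) ?_
  rw [← h]
  exact mem_cj_mul (p.u_mem z)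

theorem S_two : IsPGroup 2 ↥p.S := by
  rintro ⟨_, x, rfl⟩
  refine ⟨2, Subtype.ext ?_⟩
  show p.u x ^ 2 ^ 2 = 1
  have : (2 : ℕ) ^ 2 = 4 := by norm_num
  rw [this, ← map_pow, Cfsg.Agent.StdU3.Base.heis_pow_four, map_one]

/-- 2-elements of `B` are in `S` -/
theorem two_mem_S [Finite G] {b : G} (hb : b ∈ p.B) (h2 : ∃ k : ℕ, b ^ 2 ^ k = 1) : b ∈ p.S := by
  obtain ⟨y, l, hbl⟩ := p.mem_B.mp hb
  obtain ⟨k, hk⟩ := h2
  -- `b ^ m = u(..) d(l)^m`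
  have key : ∀ m : ℕ, ∃ x, b ^ m = p.u x * p.d l ^ m := by
    intro m
    induction m with
    | zero => exact ⟨1, by rw [pow_zero, pow_zero, map_one, mul_one]⟩
    | succ m ih =>
      obtain ⟨x, hx⟩ := ih
      refine ⟨x * act (l ^ m) y, ?_⟩
      rw [pow_succ, hx, hbl, map_mul, ← p.d_u, map_pow]
      group
  obtain ⟨x, hx⟩ := key (2 ^ k)
  rw [hk] at hx
  have h1 : p.R.d l ^ 2 ^ k = 1 := by
    have h2 : p.R.u x * p.R.d (l ^ 2 ^ k) = p.R.u 1 * p.R.d 1 := by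
      apply Subtype.ext
      rw [map_pow, map_one, map_one, mul_one]
      exact hx.symm
    have h3 := (p.R.ud_inj h2).2
    rwa [map_pow, map_one] at h3
  have hfin : Finite ↥K := Finite.of_injective (fun x : ↥K => (x : G)) (fun _ _ h => Subtype.ext h)
  have h2 : p.R.d l = 1 := Cfsg.Agent.StdSz.Base.eq_one_of_two_odd h1
    (Cfsg.Agent.StdU3.Base.odd_d p.R p.hS l) dvd_rfl
  rw [hbl, d_coe, h2]
  exact ⟨y, by rw [OneMemClass.coe_one, mul_one]⟩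

theorem sylS [Finite G] : IsSyl p.S K := by
  have hfin : Finite ↥K := Finite.of_injective (fun x : ↥K => (x : G)) (fun _ _ h => Subtype.ext h)
  obtain ⟨P, hP⟩ := Cfsg.Agent.StdU3.Base.exists_sylow_eq p.R p.hS
  have h1 := isSyl_of_sylow P
  rw [hP] at h1
  have h2 : (p.R.T).map K.subtype = p.S := by
    ext x
    constructor
    · rintro ⟨y, hy, rfl⟩
      exact p.mem_RT.mp hy
    · intro hx
      exact ⟨⟨x, p.S_le hx⟩, p.mem_RT.mpr hx, rfl⟩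
  rwa [h2] at h1

/-- every 2-subgroup of `K` is conjugate into `S` -/
theorem exists_cj_le [Finite G] {T : Subgroup G} (hT : IsPGroup 2 ↥T) (hTK : T ≤ K) :
    ∃ k ∈ K, cj k T ≤ p.S := by
  obtain ⟨k, hk, h⟩ := p.sylS.conj_into hT hTK
  refine ⟨k, hk, ?_⟩
  rintro _ ⟨t, ht, rfl⟩
  exact h t ht

/-- every 2-element of `K` is conjugate into `S` -/
theorem exists_conj_mem [Finite G] {x : G} (hx : x ∈ K) (h2 : ∃ k : ℕ, x ^ 2 ^ k = 1) :
    ∃ k ∈ K, k * x * k⁻¹ ∈ p.S := by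
  have h1 : IsPGroup 2 ↥(zpowers x) := by
    obtain ⟨k, hk⟩ := h2
    rw [IsPGroup.iff_card]
    obtain ⟨m, -, hm⟩ := (Nat.dvd_prime_pow Nat.prime_two).mp (orderOf_dvd_of_pow_eq_one hk)
    exact ⟨m, by rw [Nat.card_zpowers, hm]⟩
  obtain ⟨k, hk, h⟩ := p.exists_cj_le h1 (by rw [zpowers_le]; exact hx)
  exact ⟨k, hk, h (mem_cj_mul (mem_zpowers x))⟩

/-- involutions of `K` are conjugate into `Z` -/
theorem exists_conj_mem_Z [Finite G] {x : G} (hx : x ∈ K) (h2 : x * x = 1) :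
    ∃ k ∈ K, k * x * k⁻¹ ∈ p.Z := by
  obtain ⟨k, hk, h⟩ := p.exists_conj_mem hx ⟨1, by rw [pow_one, sq, h2]⟩
  refine ⟨k, hk, p.mem_Z_of_sq h ?_⟩
  have e : k * x * k⁻¹ * (k * x * k⁻¹) = k * (x * x) * k⁻¹ := by group
  rw [e, h2, mul_one, mul_inv_cancel]

/-! ### orders -/

theorem hs (p : Par K σ n) : ∀ x, σ x = x ^ 2 ^ n := fun x => by rw [p.hS.eq, bar_def]

theorem hF (p : Par K σ n) : Nat.card F = (2 ^ n) ^ 2 := by rw [Nat.card_eq_fintype_card, p.hS.hq.hK]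

theorem one_lt (p : Par K σ n) : 1 < 2 ^ n := by
  have := four_le p.hS.hq
  omega

theorem card_S : Nat.card ↥p.S = (2 ^ n) ^ 3 := by
  rw [← card_heis p.one_lt p.hs p.hF]
  exact (Nat.card_congr (MonoidHom.ofInjective p.u_inj).toEquiv).symm

theorem card_Z : Nat.card ↥p.Z = 2 ^ n := by
  rw [← card_center (σ := σ) p.one_lt p.hs p.hF]
  symm
  refine Nat.card_congr (Equiv.ofBijective
    (fun x : Subgroup.center (Heis σ) => (⟨p.u x.1, p.u_mem_Z ((mem_center_iff p.one_lt p.hs p.hF _).mp x.2)⟩ : ↥p.Z))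
    ⟨?_, ?_⟩)
  · intro x y h
    have h1 : p.u x.1 = p.u y.1 := by
      have h2 := congrArg (fun t : ↥p.Z => (t : G)) h
      exact h2
    exact Subtype.ext (p.u_inj h1)
  · rintro ⟨x, y, hy, rfl⟩
    exact ⟨⟨y, (mem_center_iff p.one_lt p.hs p.hF _).mpr hy⟩, rfl⟩

theorem exists_Z_ne : ∃ z ∈ p.Z, z ≠ 1 := by
  obtain ⟨z, hz, hz1⟩ := Cfsg.Agent.StdU3.Base.exists_z_ne (σ := σ)
  exact ⟨p.u z, p.u_mem_Z hz, fun h => hz1 (p.u_eq_one h)⟩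

/-! ### centralizers of involutions -/

include p in
theorem act_eq_of_comm {l : Fˣ} {z : Heis σ} (hz : z.a = 0) (hz1 : z ≠ 1) (h : act l z = z) :
    N n (l : F) = 1 := by
  have h1 : z.b ≠ 0 := fun h0 => hz1 (Heis.ext hz h0)
  have h2 := congrArg Heis.b h
  rw [act_b] at h2
  have h3 : nm σ l = 1 := mul_right_cancel₀ h1 (by rw [h2, one_mul])
  unfold nm at h3
  rw [p.hS.eq] at h3
  exact h3

/-- **`C_K(z) = S H₀`** -/
theorem cent_z {z k : G} (hz : z ∈ p.Z) (hz1 : z ≠ 1) (hk : k ∈ K) (h : k * z = z * k) :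
    ∃ (x : Heis σ) (l : Fˣ), N n (l : F) = 1 ∧ k = p.u x * p.d l := by
  have h1 : k ∈ p.B := by
    refine p.mem_B_of hk (p.Z_le_S hz) hz1 ?_
    rw [h, mul_inv_cancel_right]
    exact p.Z_le_S hz
  obtain ⟨x, l, rfl⟩ := p.mem_B.mp h1
  refine ⟨x, l, ?_, rfl⟩
  obtain ⟨y, hy, rfl⟩ := hz
  have hy1 : y ≠ 1 := fun h0 => hz1 (by rw [h0, map_one])
  refine p.act_eq_of_comm hy hy1 ?_
  apply p.u_inj
  rw [← p.d_u]
  have h2 : p.u x * p.u y = p.u y * p.u x := (p.Z_comm (p.u_mem_Z hy) (p.u_mem x)).symm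
  rw [mul_inv_eq_iff_eq_mul]
  apply mul_left_cancel (a := p.u x)
  calc p.u x * (p.d l * p.u y) = (p.u x * p.d l) * p.u y := by group
    _ = p.u y * (p.u x * p.d l) := h
    _ = (p.u y * p.u x) * p.d l := by group
    _ = (p.u x * p.u y) * p.d l := by rw [h2]
    _ = p.u x * (p.u y * p.d l) := by group

include p in
theorem act_Z_of_norm {l : Fˣ} (hl : N n (l : F) = 1) {z : Heis σ} (hz : z.a = 0) : act l z = z := by
  ext
  · rw [act_a, hz, mul_zero]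
  · rw [act_b]
    unfold nm
    rw [p.hS.eq, ← N_def, hl, one_mul]

theorem d_comm_Z {l : Fˣ} (hl : N n (l : F) = 1) {z : G} (hz : z ∈ p.Z) : p.d l * z = z * p.d l := by
  obtain ⟨y, hy, rfl⟩ := hz
  have h := p.d_u l y
  rw [p.act_Z_of_norm hl hy] at h
  rw [mul_inv_eq_iff_eq_mul] at h
  exact h

/-! ### commutators -/

/-- for `s ∈ S \ Z`: every element of `Z` is `[s, s']` -/
theorem exists_comm_eq {s z : G} (hs : s ∈ p.S) (hsZ : s ∉ p.Z) (hz : z ∈ p.Z) :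
    ∃ s' ∈ p.S, s * s' * s⁻¹ * s'⁻¹ = z := by
  obtain ⟨x, rfl⟩ := hs
  obtain ⟨y, hy, rfl⟩ := hz
  have hx0 : x.a ≠ 0 := fun h0 => hsZ (p.u_mem_Z h0)
  have hyb : bar n y.b = y.b := by rw [← p.hS.eq]; exact b_fixed_of_a_eq_zero hy
  obtain ⟨e, he⟩ := exists_Tr_eq p.hS.hq hx0 hyb
  obtain ⟨x', hx'⟩ := exists_a p.hS e
  refine ⟨p.u x', p.u_mem x', ?_⟩
  rw [← map_inv, ← map_inv, ← map_mul, ← map_mul, ← map_mul]
  congr 1
  have h1 : x * x' = y * (x' * x) := by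
    ext
    · simp only [mul_a, hy]; ring
    · simp only [mul_b, mul_a, hy, zero_mul]
      rw [← he, hx', Tr_def, bar_mul, bar_bar p.hS.hq, ← p.hS.eq, ← p.hS.eq]
      have h2 := CharTwo.two_eq_zero (R := F)
      linear_combination (-(e * σ x.a)) * h2
  calc x * x' * x⁻¹ * x'⁻¹ = (x * x') * x⁻¹ * x'⁻¹ := rfl
    _ = (y * (x' * x)) * x⁻¹ * x'⁻¹ := by rw [h1]
    _ = y := by group

/-- `S` is not `Z` -/
theorem exists_S_not_Z : ∃ s ∈ p.S, s ∉ p.Z := by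
  obtain ⟨x, hx⟩ := exists_a p.hS (1 : F)
  refine ⟨p.u x, p.u_mem x, fun h => ?_⟩
  rw [p.u_mem_Z_iff, hx] at h
  exact one_ne_zero h

include p in
/-- a torus element of norm one acting without fixed points on `S / Z` -/
theorem exists_h0 : ∃ l : Fˣ, N n (l : F) = 1 ∧ wt σ l ≠ 1 := by
  obtain ⟨k, h1, h2⟩ := (fieldOK p.hS).norm
  refine ⟨k, ?_, h2⟩
  unfold nm at h1
  rw [p.hS.eq] at h1
  exact h1

/-- `S = [S, h] [S, S]` for such an element `h` -/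
theorem exists_comm_prod {l : Fˣ} (hl : wt σ l ≠ 1) {s : G} (hs : s ∈ p.S) :
    ∃ s₁ ∈ p.S, ∃ s₂ ∈ p.S, ∃ s₃ ∈ p.S,
      s = (s₁ * p.d l * s₁⁻¹ * (p.d l)⁻¹) * (s₂ * s₃ * s₂⁻¹ * s₃⁻¹) := by
  obtain ⟨x, rfl⟩ := hs
  have h0 : (1 : F) + wt σ l ≠ 0 := by
    intro h
    exact hl (Cfsg.Agent.StdU3.Field.add_eq_zero.mp h).symm
  obtain ⟨x₁, hx₁⟩ := exists_a p.hS (x.a / (1 + wt σ l))
  have e1 : p.u x₁ * p.d l * (p.u x₁)⁻¹ * (p.d l)⁻¹ = p.u (x₁ * (act l x₁)⁻¹) := by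
    rw [map_mul, map_inv, ← p.d_u]
    group
  have h1 : ((x₁ * (act l x₁)⁻¹)⁻¹ * x).a = 0 := by
    rw [mul_a, inv_a, mul_a, inv_a, act_a, hx₁]
    have : x.a / (1 + wt σ l) + wt σ l * (x.a / (1 + wt σ l)) = x.a := by
      field_simp
    rw [this, Cfsg.Agent.StdU3.Field.add_self]
  obtain ⟨s₂, hs₂, hs₂Z⟩ := p.exists_S_not_Z
  obtain ⟨s₃, hs₃, h3⟩ := p.exists_comm_eq hs₂ hs₂Z (p.u_mem_Z h1)
  refine ⟨p.u x₁, p.u_mem _, s₂, hs₂, s₃, hs₃, ?_⟩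
  rw [e1, h3, ← map_mul]
  congr 1
  group

/-! ### generation -/

theorem d_conj_w (l : Fˣ) : p.d l * p.w = p.w * p.d (hat σ l) := by
  have h : hat σ (hat σ l) = l := by
    apply Units.ext
    rw [hat_val, hat_val, map_inv₀, HermHeis.sig, inv_inv]
  have h1 := p.R.w_d (hat σ l)
  rw [h] at h1
  exact (congrArg Subtype.val h1).symm

theorem w_w : p.w * p.w = 1 := congrArg Subtype.val p.R.w_w

theorem bruhat {g : G} (hg : g ∈ K) (hB : g ∉ p.B) : ∃ x y l, g = p.u x * p.w * (p.u y * p.d l) := by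
  rcases p.R.bruhat ⟨g, hg⟩ with ⟨x, l, h⟩ | ⟨x, y, l, h⟩
  · exact absurd (p.mem_B.mpr ⟨x, l, congrArg Subtype.val h⟩) hB
  · exact ⟨x, y, l, congrArg Subtype.val h⟩

/-- a subgroup of `K` containing `S` is in `B` or is `K` -/
theorem eq_of_not_le (p : Par K σ n) (hK : IsSimpleGroup ↥K) {D : Subgroup G} (hD : D ≤ K) (hS : p.S ≤ D)
    (hB : ¬ D ≤ p.B) : D = K := by
  obtain ⟨g, hgD, hgB⟩ := SetLike.not_le_iff_exists.mp hB
  obtain ⟨x, y, l, hg⟩ := p.bruhat (hD hgD) hgB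
  -- `w S w⁻¹ ≤ D`
  have h1 : ∀ s ∈ p.S, p.w * s * p.w⁻¹ ∈ D := by
    intro s hs
    have h2 : (p.u y * p.d l)⁻¹ * s * (p.u y * p.d l)⁻¹⁻¹ ∈ p.S :=
      p.B_conj (inv_mem (p.mem_B.mpr ⟨y, l, rfl⟩)) hs
    have h3 := D.mul_mem (D.mul_mem (D.mul_mem (D.inv_mem (hS (p.u_mem x))) hgD) (hS h2))
      (D.inv_mem (D.mul_mem (D.inv_mem (hS (p.u_mem x))) hgD))
    rw [hg] at h3
    have e : (p.u x)⁻¹ * (p.u x * p.w * (p.u y * p.d l)) *
        ((p.u y * p.d l)⁻¹ * s * (p.u y * p.d l)⁻¹⁻¹) *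
        ((p.u x)⁻¹ * (p.u x * p.w * (p.u y * p.d l)))⁻¹ = p.w * s * p.w⁻¹ := by group
    rwa [e] at h3
  have hw1 : p.w⁻¹ = p.w := inv_eq_of_mul_eq_one_right p.w_w
  -- the subgroup generated
  set Γ : Subgroup G := p.S ⊔ cj p.w p.S with hΓ
  have hΓD : Γ ≤ D := by
    apply sup_le hS
    rintro _ ⟨s, hs, rfl⟩
    exact h1 s hs
  have hSn : ∀ t ∈ Γ, cj t Γ = Γ := fun t ht => cj_eq_of_mem_normalizer (le_normalizer ht)
  have hsup : ∀ t, cj t Γ = cj t p.S ⊔ cj t (cj p.w p.S) := fun t => Subgroup.map_sup _ _ _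
  have hwn : cj p.w Γ = Γ := by
    rw [hsup, ← cj_mul, p.w_w, hΓ, sup_comm]
    congr 1
    ext t
    rw [mem_cj]; simp
  have hdn : ∀ l, cj (p.d l) Γ = Γ := by
    intro l
    rw [hsup, ← cj_mul, p.d_conj_w, cj_mul, p.cj_S_of_B (p.d_mem_B l), p.cj_S_of_B (p.d_mem_B _)]
  have hSnn : ∀ x, cj (p.u x) Γ = Γ := fun x => hSn _ (mem_sup_left (p.u_mem x))
  have hall : ∀ k ∈ K, cj k Γ = Γ := by
    intro k hk
    by_cases hkB : k ∈ p.B
    · obtain ⟨x, l, rfl⟩ := p.mem_B.mp hkB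
      rw [cj_mul, hdn, hSnn]
    · obtain ⟨x, y, l, rfl⟩ := p.bruhat hk hkB
      rw [cj_mul, cj_mul, cj_mul, hdn, hSnn, hwn, hSnn]
  have hΓK : Γ ≤ K := hΓD.trans hD
  have hn : (Γ.subgroupOf K).Normal := by
    refine ⟨?_⟩
    intro t ht k
    rw [mem_subgroupOf] at ht ⊢
    have h2 := mem_cj_mul (g := (k : G)) ht
    rw [hall k k.2] at h2
    exact h2
  rcases hn.eq_bot_or_eq_top with h | h
  · exfalso
    obtain ⟨z, hz, hz1⟩ := p.exists_Z_ne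
    have h2 : (⟨z, p.S_le (p.Z_le_S hz)⟩ : K) ∈ Γ.subgroupOf K :=
      mem_subgroupOf.mpr (mem_sup_left (p.Z_le_S hz))
    rw [h, mem_bot] at h2
    exact hz1 (congrArg Subtype.val h2)
  · apply le_antisymm hD
    rw [subgroupOf_eq_top] at h
    exact h.trans hΓD

end Par

end Cfsg.Agent.OddHalf.D4.U3.ParDefs
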