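import Cfsg.Agent.OddHalf.D4.U3.Fr
import Cfsg.Agent.OddHalf.D4.U3.ParFacts
import Cfsg.Agent.StdU3.Kernel

/-!
# ODD, D4, row `K = U₃(q)`: the frame of `Uni K σ n`
-/

set_option autoImplicit false
set_option linter.dupNamespace false
set_option linter.unusedSectionVars false

namespace Cfsg.Agent.OddHalf.D4.U3.FrOf

open Subgroup Cfsg.Agent.LieRecognition Cfsg.Agent.LieRecognition.HermHeis Cfsg.Agent.StdU3.URel
  Cfsg.Agent.StdU3.Field Cfsg.Agent.StdU3.Semi Cfsg.Agent.OddHalf.D4 Cfsg.Agent.OddHalf.D4.Basic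
  Cfsg.Agent.OddHalf.D4.U3.ParDefs Cfsg.Agent.OddHalf.D4.U3.Fr
open Cfsg.Agent.OddHalf.D4.CommConj (Tight cj mem_cj cj_mul card_cj cj_eq_of_mem_normalizer
  mem_normalizer_of_cj_eq mem_cj_mul)

universe u v

variable {G : Type u} [Group G] {F : Type v} [Field F] [Fintype F] [CharP F 2] {σ : F →+* F}
  [hσ : Fact (∀ x, σ (σ x) = x)] {n : ℕ} {K : Subgroup G}

theorem nm_eq (p : Par K σ n) (l : Fˣ) : nm σ l = N n (l : F) := by
  unfold nm
  rw [p.hS.eq, N_def]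

theorem wt_eq (p : Par K σ n) (l : Fˣ) : wt σ l = Cfsg.Agent.StdU3.PreDef.w n l := by
  unfold wt Cfsg.Agent.StdU3.PreDef.w
  rw [p.hS.eq]

theorem centB (p : Par K σ n) {b : G} (hb : b ∈ p.B) (h : ∀ s ∈ p.S, b * s = s * b) : b ∈ p.Z := by
  obtain ⟨y, l, rfl⟩ := p.mem_B.mp hb
  -- `d l` is trivial on `S / Z`
  obtain ⟨x, hx⟩ := exists_a p.hS (1 : F)
  have h1 := h _ (p.u_mem x)
  have h2 : p.u (y * act l x * y⁻¹) = p.u x := by
    rw [map_mul, map_mul, map_inv, ← p.d_u]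
    calc p.u y * (p.d l * p.u x * (p.d l)⁻¹) * (p.u y)⁻¹ = (p.u y * p.d l * p.u x) * (p.u y * p.d l)⁻¹ := by group
      _ = p.u x * (p.u y * p.d l) * (p.u y * p.d l)⁻¹ := by rw [h1]
      _ = p.u x := by group
  have h3 := congrArg Heis.a (p.u_inj h2)
  rw [mul_a, mul_a, inv_a, act_a, hx, mul_one] at h3
  have h4 : wt σ l = 1 := by
    have := CharTwo.add_self_eq_zero y.a
    linear_combination h3 - this
  have h5 : p.d l = 1 := by
    rw [Par.d_coe, p.R.d_one_of l h4, OneMemClass.coe_one]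
  rw [h5, mul_one] at h ⊢
  exact p.mem_Z_of_comm (p.u_mem y) h

theorem fpf (p : Par K σ n) {s : G} (hs : s ∈ p.S) (h : ∀ x ∈ H0 p, x * s * x⁻¹ * s⁻¹ ∈ p.Z) : s ∈ p.Z := by
  obtain ⟨l, hl, hl1⟩ := p.exists_h0
  obtain ⟨x, rfl⟩ := hs
  have h1 := h _ ⟨l, by rw [nm_eq p, hl], rfl⟩
  rw [p.d_u, ← map_inv, ← map_mul, p.u_mem_Z_iff, mul_a, act_a, inv_a] at h1
  apply p.u_mem_Z
  by_contra h0
  apply hl1
  have h2 : (wt σ l + 1) * x.a = 0 := by rw [add_mul, one_mul]; exact h1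
  rcases mul_eq_zero.mp h2 with h3 | h3
  · exact Cfsg.Agent.StdU3.Field.add_eq_zero.mp h3
  · exact absurd h3 h0

theorem irr (p : Par K σ n) {T : Subgroup G} (hT : T ≤ p.S) (hB : ∀ b ∈ p.B, ∀ t ∈ T, b * t * b⁻¹ ∈ T)
    (hZ : ¬ T ≤ p.Z) : p.S ≤ T := by
  obtain ⟨t, ht, htZ⟩ := SetLike.not_le_iff_exists.mp hZ
  -- `Z ≤ T`
  have hZT : p.Z ≤ T := by
    intro z hz
    obtain ⟨s, hs, rfl⟩ := p.exists_comm_eq (hT ht) htZ hz
    have h1 : s * t⁻¹ * s⁻¹ ∈ T := hB s (p.S_le_B hs) _ (T.inv_mem ht)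
    have e : t * s * t⁻¹ * s⁻¹ = t * (s * t⁻¹ * s⁻¹) := by group
    rw [e]
    exact T.mul_mem ht h1
  have hdep : ∀ x y : Heis σ, x.a = y.a → p.u x ∈ T → p.u y ∈ T := by
    intro x y hxy hx
    have h1 : (x⁻¹ * y).a = 0 := by
      rw [mul_a, inv_a, hxy]; exact CharTwo.add_self_eq_zero _
    have h2 := T.mul_mem hx (hZT (p.u_mem_Z h1))
    rwa [← map_mul, mul_inv_cancel_left] at h2
  choose sec hsec using exists_a p.hS
  let M : AddSubgroup F :=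
    { carrier := {a | p.u (sec a) ∈ T}
      zero_mem' := hdep 1 _ (by rw [hsec]; rfl) (by rw [map_one]; exact T.one_mem)
      add_mem' := by
        intro a b ha hb
        exact hdep (sec a * sec b) _ (by rw [mul_a, hsec, hsec, hsec]) (by rw [map_mul]; exact T.mul_mem ha hb)
      neg_mem' := by
        intro a ha
        refine hdep (sec a) _ ?_ ha
        rw [hsec, hsec]
        exact (CharTwo.neg_eq a).symm }
  have hM : ∀ x : Heis σ, x.a ∈ M ↔ p.u x ∈ T := fun x =>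
    ⟨hdep _ _ (hsec _), hdep _ _ (hsec _).symm⟩
  obtain ⟨x, rfl⟩ := hT ht
  have hx : x.a ∈ M := (hM x).mpr ht
  have hx0 : x.a ≠ 0 := fun h => htZ (p.u_mem_Z h)
  rintro _ ⟨y, rfl⟩
  rw [← hM]
  refine Cfsg.Agent.StdU3.Kernel.mem_of_closed p.hS.hq M ?_ hx hx0 _
  intro l m hm
  rw [← wt_eq p]
  have h1 : p.u (act l (sec m)) ∈ T := by
    rw [← p.d_u]
    exact hB _ (p.d_mem_B l) _ hm
  have h2 := (hM _).mpr h1
  rwa [act_a, hsec] at h2

theorem triv [Finite G] (p : Par K σ n) {y : G} (hy : y ∈ normalizer (K : Set G))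
    (h : ∀ s ∈ p.S, ∃ z ∈ p.Z, y * s * y⁻¹ = s * z) :
    ∃ c ∈ centralizer (K : Set G), ∃ s ∈ p.S, y = c * s := by
  have hfin : Finite ↥K := Finite.of_injective (fun x : ↥K => (x : G)) (fun _ _ h => Subtype.ext h)
  have hyK := mem_normalizer_iff.mp hy
  let φ : MulAut ↥K :=
    { toFun := fun k => ⟨y * k * y⁻¹, (hyK k).mp k.2⟩
      invFun := fun k => ⟨y⁻¹ * k * y, (mem_normalizer_iff''.mp hy k).mp k.2⟩
      left_inv := fun k => Subtype.ext (by show y⁻¹ * (y * k * y⁻¹) * y = k; group)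
      right_inv := fun k => Subtype.ext (by show y * (y⁻¹ * k * y) * y⁻¹ = k; group)
      map_mul' := fun a b => Subtype.ext (by
        show y * (a * b) * y⁻¹ = (y * a * y⁻¹) * (y * b * y⁻¹)
        group) }
  have hφ : ∀ k : K, ((φ k : K) : G) = y * k * y⁻¹ := fun _ => rfl
  have ht : Cfsg.Agent.StdU3.URelAut.Triv p.R φ := by
    intro x
    obtain ⟨z, ⟨v, hv, rfl⟩, hz⟩ := h _ (p.u_mem x)
    refine ⟨x * v, Subtype.ext ?_, ?_⟩
    · rw [hφ]
      show y * p.u x * y⁻¹ = p.u (x * v)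
      rw [hz, map_mul]
    · rw [mul_a, hv, add_zero]
  obtain ⟨x, hx⟩ := ht.inner (fieldOK p.hS)
  refine ⟨y * (p.u x)⁻¹, ?_, p.u x, p.u_mem x, by group⟩
  rw [mem_centralizer_iff]
  intro k hk
  have h1 : y * k * y⁻¹ = p.u x * k * (p.u x)⁻¹ := by
    have h2 := congrArg (fun ψ : MulAut ↥K => ((ψ ⟨k, hk⟩ : K) : G)) hx
    exact h2
  -- `u⁻¹ y` centralises, so does `y u⁻¹`
  have h3 : ∀ k ∈ K, k * ((p.u x)⁻¹ * y) = ((p.u x)⁻¹ * y) * k := by
    intro k hk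
    have h1 : y * k * y⁻¹ = p.u x * k * (p.u x)⁻¹ := by
      have h2 := congrArg (fun ψ : MulAut ↥K => ((ψ ⟨k, hk⟩ : K) : G)) hx
      exact h2
    calc k * ((p.u x)⁻¹ * y) = (p.u x)⁻¹ * (p.u x * k * (p.u x)⁻¹) * y := by group
      _ = (p.u x)⁻¹ * (y * k * y⁻¹) * y := by rw [h1]
      _ = _ := by group
  have h4 := h3 ((p.u x)⁻¹ * k * p.u x) (K.mul_mem (K.mul_mem (K.inv_mem (p.u_mem_K x)) hk) (p.u_mem_K x))
  -- with `c = u⁻¹ y`: `y u⁻¹ = u c u⁻¹`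
  have e : y * (p.u x)⁻¹ = p.u x * ((p.u x)⁻¹ * y) * (p.u x)⁻¹ := by group
  rw [e]
  calc k * (p.u x * ((p.u x)⁻¹ * y) * (p.u x)⁻¹)
      = p.u x * (((p.u x)⁻¹ * k * p.u x) * ((p.u x)⁻¹ * y)) * (p.u x)⁻¹ := by group
    _ = p.u x * (((p.u x)⁻¹ * y) * ((p.u x)⁻¹ * k * p.u x)) * (p.u x)⁻¹ := by rw [h4]
    _ = _ := by group

/-- 2-elements of a derived group are inner -/
def InnerComm (K : Subgroup G) : Prop :=
  ∀ D : Subgroup G, D ≤ normalizer (K : Set G) → ∀ x ∈ ⁅D, D⁆, (∃ k : ℕ, x ^ 2 ^ k = 1) →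
    ∃ c ∈ centralizer (K : Set G), ∃ s ∈ K, x = c * s

/-- a four-group contains an inner element -/
def InnerFour (K : Subgroup G) : Prop :=
  ∀ a ∈ normalizer (K : Set G), ∀ b ∈ normalizer (K : Set G), orderOf a = 2 → orderOf b = 2 →
    a ≠ b → a * b = b * a → ∃ x : G, (x = a ∨ x = b ∨ x = a * b) ∧
      ∃ c ∈ centralizer (K : Set G), ∃ s ∈ K, x = c * s

/-- **the frame** -/
theorem fr_of [Finite G] (X : Uni K σ n) (hC : InnerComm K) (hF : InnerFour K) :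
    Fr K X.p.S X.p.Z X.p.B (H0 X.p) where
  syl := X.p.sylS
  B_le := X.p.B_le
  Z_le := X.p.Z_le_S
  S_le := X.p.S_le_B
  H_le := by
    rintro _ ⟨l, -, rfl⟩
    exact X.p.d_mem_B l
  norm := fun _ hb _ hs => X.p.B_conj hb hs
  normZ := by
    intro b hb z hz
    apply X.p.mem_Z_of_sq (X.p.B_conj hb (X.p.Z_le_S hz))
    have e : b * z * b⁻¹ * (b * z * b⁻¹) = b * (z * z) * b⁻¹ := by group
    rw [e, X.p.Z_sq hz, mul_one, mul_inv_cancel]
  twoB := fun _ hb h => X.p.two_mem_S hb h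
  centB := fun _ hb h => centB X.p hb h
  invol := by
    intro s hs h2
    apply X.p.mem_Z_of_sq hs
    have := pow_orderOf_eq_one s
    rwa [h2, pow_two] at this
  sq := fun _ hz => X.p.Z_sq hz
  commZ := fun _ hz _ hs => X.p.Z_comm hz hs
  commH := by
    rintro z hz _ ⟨l, hl, rfl⟩
    rw [nm_eq X.p] at hl
    exact (X.p.d_comm_Z hl hz).symm
  ti := fun _ hg _ hx hx1 h => X.p.mem_B_of hg hx hx1 h
  top := fun _ hD hS hB => X.p.eq_of_not_le X.sim hD hS hB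
  simple := by
    intro N hN hn
    have := X.sim
    have h1 : (N.subgroupOf K).Normal := by
      refine ⟨?_⟩
      intro t ht k
      rw [mem_subgroupOf] at ht ⊢
      exact hn k k.2 t ht
    rcases h1.eq_bot_or_eq_top with h | h
    · left
      rw [eq_bot_iff]
      intro x hx
      have h2 : (⟨x, hN hx⟩ : K) ∈ N.subgroupOf K := mem_subgroupOf.mpr hx
      rw [h, mem_bot] at h2
      exact mem_bot.mpr (congrArg Subtype.val h2)
    · right
      rw [subgroupOf_eq_top] at h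
      exact le_antisymm hN h
  full := fun _ hs hsZ _ hz => X.p.exists_comm_eq hs hsZ hz
  gen := by
    intro s hs
    obtain ⟨l, hl, hl1⟩ := X.p.exists_h0
    obtain ⟨s1, h1, s2, h2, s3, h3, h⟩ := X.p.exists_comm_prod hl1 hs
    exact ⟨s1, h1, _, ⟨l, by rw [nm_eq X.p, hl], rfl⟩, s2, h2, s3, h3, h⟩
  fpf := fun _ hs h => fpf X.p hs h
  irr := fun _ hT hB hZ => irr X.p hT hB hZ
  triv := fun _ hy h => triv X.p hy h
  innerComm := hC
  innerFour := hF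
  tight := X.tight
  std := X.std
  cen := X.cen
  core := X.core
  four := X.four

end Cfsg.Agent.OddHalf.D4.U3.FrOf
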