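import Cfsg.Agent.OddHalf.D4.U3.Defs

/-!
# ODD, D4, row `K = U₃(q)`: the action of `N(P)` on `Z`, and the conjugates of `V` and `E` (PIECE A of #14847)

* `exists_zeta`: `x ∈ N(P)` acts on `Z` by an additive bijection `ζ` of `F_q`, which transforms the square form and the
  commutator form of `P`; `cj_Z`;
* `cj_V`, `cj_E`: the conjugates of `V` and `E` under `N(P)`;
* `W_inj`, `W_ne_E`, `V_ne_E`, `cj_h_W`, `cj_h_V`, `cj_h_E`, `cj_h_S`, `partner`, `V_inf_E`.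
-/

set_option autoImplicit false
set_option linter.unusedSectionVars false

namespace Cfsg.Agent.OddHalf.D4.U3.Defs

open Subgroup Cfsg.Agent.StdU3.Field Cfsg.Agent.StdU3.PreDef Cfsg.Agent.OddHalf.D4.CommConj
  Cfsg.Agent.OddHalf.D4.Basic

universe u v

variable {G : Type u} [Group G] {F : Type v} [Field F] [Fintype F] [CharP F 2] {n : ℕ}

/-! ### Conjugation -/

theorem cj_inv_eq {x : G} {X Y : Subgroup G} (h : cj x X = Y) : cj x⁻¹ Y = X := by
  rw [← h, ← cj_mul, inv_mul_cancel]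
  ext g; rw [mem_cj]; simp

theorem cj_mem {x g : G} {X Y : Subgroup G} (h : cj x X = Y) (hg : g ∈ X) : x * g * x⁻¹ ∈ Y := by
  rw [← h]; exact mem_cj_mul hg

theorem cj_mem_iff {x g : G} {X Y : Subgroup G} (h : cj x X = Y) : x * g * x⁻¹ ∈ Y ↔ g ∈ X := by
  rw [← h, mem_cj]
  have e : x⁻¹ * (x * g * x⁻¹) * x = g := by group
  rw [e]

theorem cj_eq_of {x : G} {X Y : Subgroup G} (h : ∀ g ∈ X, x * g * x⁻¹ ∈ Y) (h' : ∀ g ∈ Y, x⁻¹ * g * x ∈ X) :
    cj x X = Y := by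
  ext g
  rw [mem_cj]
  refine ⟨fun hg => ?_, h' g⟩
  have := h _ hg
  have e : x * (x⁻¹ * g * x) * x⁻¹ = g := by group
  rwa [e] at this

namespace Chart

variable (D : Chart G F n)

/-- the square form -/
def sqf (p : G) : F := N n (D.a p) + D.kap * D.c p + D.c p * D.f p

/-- the commutator form -/
def bil (p p' : G) : F := Tr n (D.a p * bar n (D.a p')) + (D.c p * D.f p' + D.c p' * D.f p)

variable {D}

theorem fix_f {p : G} (hp : p ∈ D.P) : bar n (D.f p) = D.f p := D.fix_Phi _ (D.f_mem p hp)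

theorem fix_sqf {p : G} (hp : p ∈ D.P) : bar n (D.sqf p) = D.sqf p :=
  fixed_add (fixed_add (fixed_N D.hq _) (fixed_mul D.fix_kap (D.fix_c p hp))) (fixed_mul (D.fix_c p hp) (fix_f hp))

theorem fix_bil {p p' : G} (hp : p ∈ D.P) (hp' : p' ∈ D.P) : bar n (D.bil p p') = D.bil p p' :=
  fixed_add (fixed_Tr D.hq _) (fixed_add (fixed_mul (D.fix_c p hp) (fix_f hp')) (fixed_mul (D.fix_c p' hp') (fix_f hp)))

theorem sq' {p : G} (hp : p ∈ D.P) : p * p = D.z (D.sqf p) := D.sq p hp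

theorem comm' {p p' : G} (hp : p ∈ D.P) (hp' : p' ∈ D.P) : p * p' = D.z (D.bil p p') * (p' * p) :=
  D.comm p hp p' hp'

theorem z_inj' {b b' : F} (hb : bar n b = b) (hb' : bar n b' = b') (h : D.z b = D.z b') : b = b' := by
  have h1 : D.z (b + b') = 1 := by
    rw [D.z_add b b' hb hb', h, ← D.z_add b' b' hb' hb', Cfsg.Agent.StdU3.Field.add_self, D.z_zero]
  exact Cfsg.Agent.StdU3.Field.add_eq_zero.mp (D.z_inj _ (fixed_add hb hb') h1)

theorem z_mem_Z {b : F} (hb : bar n b = b) : D.z b ∈ D.Z := ⟨b, hb, rfl⟩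

theorem Z_le : D.Z ≤ D.P := by
  rintro _ ⟨b, hb, rfl⟩
  exact D.z_mem b hb

theorem mem_Z_iff {x : G} (hx : x ∈ D.P) : x ∈ D.Z ↔ D.a x = 0 ∧ D.c x = 0 ∧ D.f x = 0 := by
  constructor
  · rintro ⟨b, hb, rfl⟩
    exact ⟨D.a_z b hb, D.c_z b hb, D.f_z b hb⟩
  · rintro ⟨h1, h2, h3⟩
    obtain ⟨b, hb, e⟩ := D.ker x hx h1 h2 h3
    exact ⟨b, hb, e⟩

theorem sq_eq_one {p : G} (hp : p ∈ D.P) : p * p = 1 ↔ D.sqf p = 0 := by
  rw [sq' hp]
  refine ⟨D.z_inj _ (fix_sqf hp), fun h => ?_⟩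
  rw [h, D.z_zero]

theorem comm_iff {p p' : G} (hp : p ∈ D.P) (hp' : p' ∈ D.P) : p * p' = p' * p ↔ D.bil p p' = 0 := by
  rw [comm' hp hp']
  constructor
  · intro h
    exact D.z_inj _ (fix_bil hp hp') (mul_eq_right.1 h)
  · intro h
    rw [h, D.z_zero, one_mul]

/-- `z b` is central -/
theorem z_comm {b : F} (hb : bar n b = b) {p : G} (hp : p ∈ D.P) : D.z b * p = p * D.z b := by
  rw [comm_iff (D.z_mem b hb) hp, bil, D.a_z b hb, D.c_z b hb, D.f_z b hb, zero_mul, zero_mul, mul_zero, add_zero,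
    Tr_zero, add_zero]

/-- elements of `Z` are commutators of elements of `S` -/
theorem exists_comm {b : F} (hb : bar n b = b) : ∃ s ∈ D.S, ∃ s' ∈ D.S, D.bil s s' = b := by
  obtain ⟨y, hy⟩ := exists_Tr_eq D.hq one_ne_zero hb
  obtain ⟨s, hs, a1, c1, f1⟩ := D.surj 1 0 0 (bar_zero n) D.Phi.zero_mem
  obtain ⟨s', hs', a2, c2, f2⟩ := D.surj y 0 0 (bar_zero n) D.Phi.zero_mem
  refine ⟨s, ⟨hs, c1, f1⟩, s', ⟨hs', c2, f2⟩, ?_⟩
  rw [bil, a1, a2, c1, c2, zero_mul, zero_mul, add_zero, add_zero, hy]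

theorem Z_cj_aux {x : G} (hx : cj x D.P = D.P) {b : F} (hb : bar n b = b) :
    ∃ b', bar n b' = b' ∧ x * D.z b * x⁻¹ = D.z b' := by
  obtain ⟨s, hs, s', hs', e⟩ := exists_comm (D := D) hb
  have m1 := cj_mem hx hs.1
  have m2 := cj_mem hx hs'.1
  refine ⟨D.bil (x * s * x⁻¹) (x * s' * x⁻¹), fix_bil m1 m2, ?_⟩
  have h1 := comm' hs.1 hs'.1
  have h2 := comm' m1 m2
  rw [e] at h1
  have h3 : x * D.z b * x⁻¹ * ((x * s' * x⁻¹) * (x * s * x⁻¹)) =
      D.z (D.bil (x * s * x⁻¹) (x * s' * x⁻¹)) * ((x * s' * x⁻¹) * (x * s * x⁻¹)) := by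
    rw [← h2]
    have : x * D.z b * x⁻¹ * ((x * s' * x⁻¹) * (x * s * x⁻¹)) = x * (D.z b * (s' * s)) * x⁻¹ := by group
    rw [this, ← h1]
    group
  exact mul_right_cancel h3

theorem cj_Z {x : G} (hx : cj x D.P = D.P) : cj x D.Z = D.Z := by
  refine cj_eq_of ?_ ?_
  · rintro _ ⟨b, hb, rfl⟩
    obtain ⟨b', hb', e⟩ := Z_cj_aux hx hb
    exact ⟨b', hb', e⟩
  · rintro _ ⟨b, hb, rfl⟩
    obtain ⟨b', hb', e⟩ := Z_cj_aux (cj_inv_eq hx) hb
    rw [inv_inv] at e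
    exact ⟨b', hb', e⟩

end Chart

/-- the action of `x ∈ N(P)` on `Z` and on the forms -/
structure Zeta (D : Chart G F n) (x : G) (ζ : F → F) : Prop where
  z : ∀ b, bar n b = b → x * D.z b * x⁻¹ = D.z (ζ b)
  fix : ∀ b, bar n b = b → bar n (ζ b) = ζ b
  add : ∀ b b', bar n b = b → bar n b' = b' → ζ (b + b') = ζ b + ζ b'
  inj : ∀ b b', bar n b = b → bar n b' = b' → ζ b = ζ b' → b = b'
  surj : ∀ b, bar n b = b → ∃ b', bar n b' = b' ∧ ζ b' = b
  sqf : ∀ p ∈ D.P, D.sqf (x * p * x⁻¹) = ζ (D.sqf p)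
  bil : ∀ p ∈ D.P, ∀ p' ∈ D.P, D.bil (x * p * x⁻¹) (x * p' * x⁻¹) = ζ (D.bil p p')

theorem Zeta.zero {D : Chart G F n} {x : G} {ζ : F → F} (h : Zeta D x ζ) : ζ 0 = 0 := by
  have h1 := h.add 0 0 (bar_zero n) (bar_zero n)
  rw [add_zero] at h1
  exact left_eq_add.mp h1

theorem Zeta.eq_zero {D : Chart G F n} {x : G} {ζ : F → F} (h : Zeta D x ζ) {b : F} (hb : bar n b = b)
    (h0 : ζ b = 0) : b = 0 := h.inj b 0 hb (bar_zero n) (by rw [h0, h.zero])

/-- **`exists_zeta`** -/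
theorem exists_zeta (D : Chart G F n) {x : G} (hx : cj x D.P = D.P) : ∃ ζ : F → F, Zeta D x ζ := by
  classical
  choose! ζ h1 h2 using fun (b : F) (hb : bar n b = b) => Chart.Z_cj_aux hx hb
  have inj : ∀ b b', bar n b = b → bar n b' = b' → ζ b = ζ b' → b = b' := by
    intro b b' hb hb' e
    have e1 : x * D.z b * x⁻¹ = x * D.z b' * x⁻¹ := by rw [h2 b hb, h2 b' hb', e]
    exact Chart.z_inj' hb hb' (mul_left_cancel (mul_right_cancel e1))
  refine ⟨ζ, h2, h1, ?_, inj, ?_, ?_, ?_⟩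
  · intro b b' hb hb'
    apply Chart.z_inj' (D := D) (h1 _ (fixed_add hb hb')) (fixed_add (h1 b hb) (h1 b' hb'))
    rw [← h2 _ (fixed_add hb hb'), D.z_add b b' hb hb', D.z_add _ _ (h1 b hb) (h1 b' hb'), ← h2 b hb, ← h2 b' hb']
    group
  · intro b hb
    have h3 : D.z b ∈ cj x D.Z := by rw [Chart.cj_Z hx]; exact Chart.z_mem_Z hb
    rw [mem_cj] at h3
    obtain ⟨b', hb', e⟩ := h3
    refine ⟨b', hb', ?_⟩
    apply Chart.z_inj' (D := D) (h1 b' hb') hb
    rw [← h2 b' hb', ← e]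
    group
  · intro p hp
    have m := cj_mem hx hp
    apply Chart.z_inj' (D := D) (Chart.fix_sqf m) (h1 _ (Chart.fix_sqf hp))
    rw [← Chart.sq' m, ← h2 _ (Chart.fix_sqf hp), ← Chart.sq' hp]
    group
  · intro p hp p' hp'
    have m := cj_mem hx hp
    have m' := cj_mem hx hp'
    apply Chart.z_inj' (D := D) (Chart.fix_bil m m') (h1 _ (Chart.fix_bil hp hp'))
    rw [← h2 _ (Chart.fix_bil hp hp')]
    have e1 := Chart.comm' m m'
    have e2 := Chart.comm' hp hp'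
    have e3 : D.z (D.bil (x * p * x⁻¹) (x * p' * x⁻¹)) * ((x * p' * x⁻¹) * (x * p * x⁻¹)) =
        x * D.z (D.bil p p') * x⁻¹ * ((x * p' * x⁻¹) * (x * p * x⁻¹)) := by
      rw [← e1]
      have : x * D.z (D.bil p p') * x⁻¹ * ((x * p' * x⁻¹) * (x * p * x⁻¹)) =
        x * (D.z (D.bil p p') * (p' * p)) * x⁻¹ := by group
      rw [this, ← e2]
      group
    exact mul_right_cancel e3

namespace Chart

variable {D : Chart G F n}

/-! ### The subgroups -/

theorem S_le : D.S ≤ D.P := fun _ h => h.1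
theorem T1_le : D.T1 ≤ D.P := fun _ h => h.1
theorem E_le : D.E ≤ D.P := fun _ h => h.1
theorem V_le : D.V ≤ D.P := fun _ h => h.1
theorem W_le (A : F) : D.W A ≤ D.P := fun _ h => h.1

theorem Z_le_S : D.Z ≤ D.S := by
  rintro _ ⟨b, hb, rfl⟩
  exact ⟨D.z_mem b hb, D.c_z b hb, D.f_z b hb⟩

theorem Z_le_E : D.Z ≤ D.E := by
  rintro _ ⟨b, hb, rfl⟩
  exact ⟨D.z_mem b hb, D.a_z b hb, D.f_z b hb⟩

theorem Z_le_T1 : D.Z ≤ D.T1 := by
  rintro _ ⟨b, hb, rfl⟩
  exact ⟨D.z_mem b hb, D.a_z b hb⟩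

theorem Z_le_W (A : F) : D.Z ≤ D.W A := by
  rintro _ ⟨b, hb, rfl⟩
  exact ⟨D.z_mem b hb, by rw [D.a_z b hb, D.f_z b hb, zero_mul], by rw [D.c_z b hb, D.f_z b hb, zero_mul]⟩

theorem Z_le_V : D.Z ≤ D.V := by rw [← W_zero]; exact Z_le_W 0

theorem V_le_T1 : D.V ≤ D.T1 := fun _ h => ⟨h.1, h.2.1⟩
theorem E_le_T1 : D.E ≤ D.T1 := fun _ h => ⟨h.1, h.2.1⟩

theorem V_inf_E : D.V ⊓ D.E = D.Z := by
  ext x
  rw [mem_inf]
  constructor
  · rintro ⟨h1, h2⟩
    exact (mem_Z_iff h1.1).2 ⟨h1.2.1, h1.2.2, h2.2.2⟩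
  · intro h; exact ⟨Z_le_V h, Z_le_E h⟩

/-- an element of `V_A` with given `f`-coordinate -/
theorem exists_W (A : F) {φ : F} (hφ : φ ∈ D.Phi) : ∃ x ∈ D.W A, D.f x = φ := by
  obtain ⟨x, hx, h1, h2, h3⟩ := D.surj (φ * A) (φ * N n A) φ
    (fixed_mul (D.fix_Phi φ hφ) (fixed_N D.hq A)) hφ
  exact ⟨x, ⟨hx, by rw [h1, h3], by rw [h2, h3]⟩, h3⟩

theorem exists_V {φ : F} (hφ : φ ∈ D.Phi) : ∃ x ∈ D.V, D.f x = φ := by
  obtain ⟨x, hx, h⟩ := exists_W (D := D) 0 hφ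
  rw [W_zero] at hx
  exact ⟨x, hx, h⟩

theorem exists_E {γ : F} (hγ : bar n γ = γ) : ∃ x ∈ D.E, D.c x = γ := by
  obtain ⟨x, hx, h1, h2, h3⟩ := D.surj 0 γ 0 hγ D.Phi.zero_mem
  exact ⟨x, ⟨hx, h1, h3⟩, h2⟩

theorem exists_S (α : F) : ∃ x ∈ D.S, D.a x = α := by
  obtain ⟨x, hx, h1, h2, h3⟩ := D.surj α 0 0 (bar_zero n) D.Phi.zero_mem
  exact ⟨x, ⟨hx, h2, h3⟩, h1⟩

theorem W_inj {A A' : F} (h : D.W A = D.W A') : A = A' := by
  obtain ⟨x, hx, h1⟩ := exists_W (D := D) A D.one_mem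
  have h2 : x ∈ D.W A' := by rw [← h]; exact hx
  have e1 := hx.2.1
  have e2 := h2.2.1
  rw [h1, one_mul] at e1 e2
  rw [← e1, e2]

theorem W_ne_E (A : F) : D.W A ≠ D.E := by
  intro h
  obtain ⟨x, hx, h1⟩ := exists_W (D := D) A D.one_mem
  rw [h] at hx
  exact one_ne_zero (h1.symm.trans hx.2.2)

theorem V_ne_E : D.V ≠ D.E := by rw [← W_zero]; exact W_ne_E 0

theorem W_ne_V {A : F} (hA : A ≠ 0) : D.W A ≠ D.V := by
  rw [← W_zero]; exact fun h => hA (W_inj h)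

/-- elements of `V_A` modulo `Z` are determined by `f` -/
theorem mem_Z_of_W {A : F} {x : G} (hx : x ∈ D.W A) (hf : D.f x = 0) : x ∈ D.Z := by
  refine (mem_Z_iff hx.1).2 ⟨?_, ?_, hf⟩
  · rw [hx.2.1, hf, zero_mul]
  · rw [hx.2.2, hf, zero_mul]

theorem mem_Z_of_E {x : G} (hx : x ∈ D.E) (hc : D.c x = 0) : x ∈ D.Z :=
  (mem_Z_iff hx.1).2 ⟨hx.2.1, hc, hx.2.2⟩

/-! ### Involutions commuting with an involution -/

/-- the involutions of `P` commuting with `u` -/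
def cs (D : Chart G F n) (u : G) : Set G := {t | t ∈ D.P ∧ t * t = 1 ∧ t * u = u * t}

/-- `M` is the set of involutions commuting with `u`, for all `u ∈ M - Z` -/
structure Sel (D : Chart G F n) (M : Subgroup G) : Prop where
  Z_le : D.Z ≤ M
  cs : ∀ u ∈ M, u ∉ D.Z → (M : Set G) = D.cs u

theorem Sel.cj {M : Subgroup G} (h : Sel D M) {x : G} (hx : CommConj.cj x D.P = D.P) :
    Sel D (CommConj.cj x M) where
  Z_le := by
    rw [← cj_Z hx]
    exact map_mono h.Z_le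
  cs := by
    intro u hu huZ
    rw [mem_cj] at hu
    have h1 : x⁻¹ * u * x ∉ D.Z := by
      intro h1
      apply huZ
      rw [← cj_Z hx, mem_cj]
      exact h1
    have h2 := h.cs _ hu h1
    ext t
    have h3 : t ∈ (CommConj.cj x M : Set G) ↔ x⁻¹ * t * x ∈ (M : Set G) := mem_cj
    rw [h3, h2]
    have h4 : x⁻¹ * t * x ∈ D.P ↔ t ∈ D.P := by
      rw [← mem_cj, hx]
    have h5 : x⁻¹ * t * x * (x⁻¹ * t * x) = 1 ↔ t * t = 1 := by
      have e : x⁻¹ * t * x * (x⁻¹ * t * x) = x⁻¹ * (t * t) * x := by group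
      rw [e]
      constructor
      · intro h6
        have : t * t = x * (x⁻¹ * (t * t) * x) * x⁻¹ := by group
        rw [this, h6]; group
      · intro h6; rw [h6]; group
    have h6 : x⁻¹ * t * x * (x⁻¹ * u * x) = x⁻¹ * u * x * (x⁻¹ * t * x) ↔ t * u = u * t := by
      have e : x⁻¹ * t * x * (x⁻¹ * u * x) = x⁻¹ * (t * u) * x := by group
      have e' : x⁻¹ * u * x * (x⁻¹ * t * x) = x⁻¹ * (u * t) * x := by group
      rw [e, e']
      constructor
      · intro h6; exact mul_left_cancel (mul_right_cancel h6)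
      · intro h6; rw [h6]
    show x⁻¹ * t * x ∈ D.P ∧ _ ∧ _ ↔ t ∈ D.P ∧ _ ∧ _
    rw [h4, h5, h6]

theorem Sel.sq {M : Subgroup G} (h : Sel D M) {u : G} (hu : u ∈ M) (huZ : u ∉ D.Z) : u * u = 1 := by
  have : u ∈ (M : Set G) := hu
  rw [h.cs u hu huZ] at this
  exact this.2.1

theorem Sel.comm {M : Subgroup G} (h : Sel D M) {u t t' : G} (hu : u ∈ M) (huZ : u ∉ D.Z) (ht : t ∈ D.cs u)
    (ht' : t' ∈ D.cs u) : t * t' = t' * t := by
  have h1 := h.cs u hu huZ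
  have m1 : t ∈ (M : Set G) := by rw [h1]; exact ht
  have m2 : t' ∈ (M : Set G) := by rw [h1]; exact ht'
  by_cases hz : t' ∈ D.Z
  · obtain ⟨b, hb, rfl⟩ := hz
    exact (z_comm hb ht.1).symm
  · rw [h.cs t' m2 hz] at m1
    exact m1.2.2

theorem mem_cs {u t : G} (hu : u ∈ D.P) (ht : t ∈ D.P) : t ∈ D.cs u ↔ D.sqf t = 0 ∧ D.bil t u = 0 := by
  rw [← sq_eq_one ht, ← comm_iff ht hu]
  exact ⟨fun h => h.2, fun h => ⟨ht, h⟩⟩

/-- `V` has the property. -/
theorem sel_V : Sel D D.V where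
  Z_le := Z_le_V
  cs := by
    intro u hu huZ
    have hf : D.f u ≠ 0 := fun h0 => huZ ((mem_Z_iff hu.1).2 ⟨hu.2.1, hu.2.2, h0⟩)
    ext t
    constructor
    · intro ht
      have ht' : t ∈ D.V := ht
      rw [mem_cs hu.1 ht'.1, sqf, bil, ht'.2.1, ht'.2.2, hu.2.1, hu.2.2]
      simp [N_zero, Tr_zero]
    · intro ht
      have hP := ht.1
      rw [mem_cs hu.1 hP, sqf, bil, hu.2.1, hu.2.2, bar_zero, mul_zero, Tr_zero, zero_mul, zero_add, add_zero] at ht
      have hc : D.c t = 0 := (mul_eq_zero.1 ht.2).resolve_right hf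
      have ha : D.a t = 0 := by
        have := ht.1
        rw [hc, mul_zero, zero_mul, add_zero, add_zero] at this
        exact N_eq_zero this
      exact (⟨hP, ha, hc⟩ : t ∈ D.V)

/-- `E` has the property if `κ = 0`. -/
theorem sel_E (hk : D.kap = 0) : Sel D D.E where
  Z_le := Z_le_E
  cs := by
    intro u hu huZ
    have hc : D.c u ≠ 0 := fun h0 => huZ (mem_Z_of_E hu h0)
    ext t
    constructor
    · intro ht
      have ht' : t ∈ D.E := ht
      rw [mem_cs hu.1 ht'.1, sqf, bil, ht'.2.1, ht'.2.2, hu.2.1, hu.2.2, hk]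
      simp [N_zero, Tr_zero]
    · intro ht
      have hP := ht.1
      rw [mem_cs hu.1 hP, sqf, bil, hu.2.1, hu.2.2, hk, bar_zero, mul_zero, Tr_zero, mul_zero, zero_mul, zero_add,
        zero_add, add_zero] at ht
      have hf : D.f t = 0 := (mul_eq_zero.1 ht.2).resolve_left hc
      have ha : D.a t = 0 := by
        have := ht.1
        rw [hf, mul_zero, add_zero] at this
        exact N_eq_zero this
      exact (⟨hP, ha, hf⟩ : t ∈ D.E)

/-- `κ = 0`: the involutions commuting with an involution -/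
theorem cs_eq (hk : D.kap = 0) {u : G} (hu : u ∈ D.P) (huZ : u ∉ D.Z) (h2 : u * u = 1) :
    (∃ A : F, D.cs u = (D.W A : Set G)) ∨ D.cs u = (D.E : Set G) := by
  rw [sq_eq_one hu, sqf, hk, zero_mul, add_zero] at h2
  have ff := fix_f hu
  by_cases hf : D.f u = 0
  · right
    rw [hf, mul_zero, add_zero] at h2
    have ha := N_eq_zero h2
    have hE : u ∈ D.E := ⟨hu, ha, hf⟩
    exact ((sel_E hk).cs u hE huZ).symm
  · left
    refine ⟨D.a u / D.f u, ?_⟩
    set A := D.a u / D.f u with hA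
    have e1 : D.a u = D.f u * A := by rw [hA, mul_div_cancel₀ _ hf]
    have e2 : D.c u = D.f u * N n A := by
      have h3 : D.f u * D.c u = D.f u * (D.f u * N n A) := by
        have h4 : N n (D.a u) = D.f u * (D.f u * N n A) := by
          rw [e1, N_mul, N_of_fixed ff]; ring
        rw [← h4]
        have := Cfsg.Agent.StdU3.Field.add_eq_zero.mp h2
        rw [this]; ring
      exact mul_left_cancel₀ hf h3
    ext t
    constructor
    · intro ht
      have hP := ht.1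
      rw [mem_cs hu hP, sqf, bil, hk, zero_mul, add_zero, e1, e2] at ht
      have ft := fix_f hP
      have h5 : Tr n (D.a t * bar n (D.f u * A)) = D.f u * Tr n (D.a t * bar n A) := by
        rw [bar_mul, ff, ← Tr_mul_fixed ff]; congr 1; ring
      have h6 : Tr n (D.a t * bar n A) + D.c t + N n A * D.f t = 0 := by
        have h7 := ht.2
        rw [h5] at h7
        have h8 : D.f u * (Tr n (D.a t * bar n A) + D.c t + N n A * D.f t) = 0 := by
          rw [← h7]; ring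
        exact (mul_eq_zero.1 h8).resolve_left hf
      have h9 : N n (D.a t + D.f t * A) = 0 := by
        rw [N_add' D.hq, N_mul, N_of_fixed ft]
        have h10 : Tr n (D.a t * bar n (D.f t * A)) = D.f t * Tr n (D.a t * bar n A) := by
          rw [bar_mul, ft, ← Tr_mul_fixed ft]; congr 1; ring
        rw [h10]
        have h11 := Cfsg.Agent.StdU3.Field.add_eq_zero.mp ht.1
        rw [h11]
        calc D.c t * D.f t + D.f t ^ 2 * N n A + D.f t * Tr n (D.a t * bar n A)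
            = D.f t * (Tr n (D.a t * bar n A) + D.c t + N n A * D.f t) := by ring
          _ = 0 := by rw [h6, mul_zero]
      have h12 : D.a t = D.f t * A := Cfsg.Agent.StdU3.Field.add_eq_zero.mp (N_eq_zero h9)
      refine (⟨hP, h12, ?_⟩ : t ∈ D.W A)
      have h13 : Tr n (D.a t * bar n A) = 0 := by
        rw [h12, mul_assoc, Tr_mul_fixed ft, Tr_self D.hq, mul_zero]
      rw [h13, zero_add] at h6
      rw [Cfsg.Agent.StdU3.Field.add_eq_zero.mp h6]; ring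
    · intro ht
      have ht' : t ∈ D.W A := ht
      rw [mem_cs hu ht'.1, sqf, bil, hk, ht'.2.1, ht'.2.2, e1, e2]
      have ft := fix_f ht'.1
      refine ⟨?_, ?_⟩
      · rw [N_mul, N_of_fixed ft, zero_mul, add_zero]
        have : D.f t ^ 2 * N n A + D.f t * N n A * D.f t = D.f t ^ 2 * N n A + D.f t ^ 2 * N n A := by ring
        rw [this, Cfsg.Agent.StdU3.Field.add_self]
      · have h5 : Tr n (D.f t * A * bar n (D.f u * A)) = 0 := by
          have : D.f t * A * bar n (D.f u * A) = (D.f t * D.f u) * (A * bar n A) := by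
            rw [bar_mul, ff]; ring
          rw [this, Tr_mul_fixed (fixed_mul ft ff), Tr_self D.hq, mul_zero]
        rw [h5, zero_add]
        have : D.f t * N n A * D.f u + D.f u * N n A * D.f t = D.f t * N n A * D.f u + D.f t * N n A * D.f u := by ring
        rw [this, Cfsg.Agent.StdU3.Field.add_self]

/-! ### Conjugates of `V` and `E` -/

theorem exists_Phi (k : F) : ∃ φ ∈ D.Phi, φ ≠ 0 ∧ φ ≠ k := by
  classical
  by_contra hcon
  push Not at hcon
  have h1 : (D.Phi : Set F) ⊆ {0, k} := by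
    intro φ hφ
    by_cases h0 : φ = 0
    · exact Or.inl h0
    · exact Or.inr (hcon φ hφ h0)
  have h2 : Nat.card D.Phi ≤ 2 := by
    have h3 : Nat.card D.Phi = (D.Phi : Set F).ncard := rfl
    rw [h3]
    refine (Set.ncard_le_ncard h1 (Set.toFinite _)).trans ((Set.ncard_insert_le _ _).trans ?_)
    rw [Set.ncard_singleton]
  have := D.four
  omega

/-- an element of norm one and trace `≠ 0` -/
theorem exists_nt (hq : Qd F n) : ∃ x : F, x * bar n x = 1 ∧ Tr n x ≠ 0 := by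
  obtain ⟨x, h1, -, h3⟩ := exists_norm_one hq
  refine ⟨x, h1, fun h => h3 ?_⟩
  have h4 := fixed_of_Tr h
  rw [N_def, h4] at h1
  have h5 : ((x : F) + 1) ^ 2 = 0 := by
    have h2 : (2 : F) = 0 := CharTwo.two_eq_zero
    linear_combination h1 + (x + 1 : F) * h2
  have h6 := pow_eq_zero_iff (n := 2) (by norm_num) |>.1 h5
  exact Units.val_injective (by rw [Units.val_one]; exact Cfsg.Agent.StdU3.Field.add_eq_zero.mp h6)

/-- (A2), the three cases -/
theorem exists_noncomm (hk : D.kap ≠ 0) {u : G} (hu : u ∈ D.P) (huV : u ∉ D.V) (h2 : D.sqf u = 0) :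
    ∃ t ∈ D.cs u, ∃ t' ∈ D.cs u, D.bil t t' ≠ 0 := by
  have two : (2 : F) = 0 := CharTwo.two_eq_zero
  have ff := fix_f hu
  have fc := D.fix_c u hu
  have fk := D.fix_kap
  have fNa := fixed_N D.hq (D.a u)
  obtain ⟨x, x1, x2⟩ := exists_nt (F := F) D.hq
  have xb : bar n x * bar n (bar n x) = 1 := by rw [bar_bar D.hq, mul_comm]; exact x1
  unfold sqf at h2
  by_cases hf : D.f u = 0
  · -- (iii)
    have ha : D.a u ≠ 0 := by
      intro ha
      rw [ha, N_zero, hf, mul_zero, zero_add, add_zero] at h2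
      exact huV ⟨hu, ha, (mul_eq_zero.1 h2).resolve_left hk⟩
    obtain ⟨φ, hφ, φ0, φk⟩ := exists_Phi (D := D) D.kap
    have fφ := D.fix_Phi φ hφ
    have hkφ : D.kap + φ ≠ 0 := fun h => φk (Cfsg.Agent.StdU3.Field.add_eq_zero.mp h).symm
    obtain ⟨α, hα⟩ := exists_Tr_eq D.hq ha (fixed_mul fc fφ)
    rw [Tr_comm D.hq] at hα
    obtain ⟨l, fl, l1⟩ := exists_fixed_ne D.hq
    have l0 : (l : F) ≠ 0 := l.ne_zero
    have fi := fixed_inv (fixed_add fk fφ)
    obtain ⟨t, ht, t1, t2, t3⟩ := D.surj α (N n α * (D.kap + φ)⁻¹) φ (fixed_mul (fixed_N D.hq _) fi) hφ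
    obtain ⟨t', ht', t1', t2', t3'⟩ := D.surj (α + l * D.a u) (N n (α + l * D.a u) * (D.kap + φ)⁻¹) φ
      (fixed_mul (fixed_N D.hq _) fi) hφ
    have e1 : Tr n (l * D.a u * bar n (D.a u)) = 0 := by
      rw [mul_assoc, Tr_mul_fixed fl, Tr_self D.hq, mul_zero]
    refine ⟨t, (mem_cs hu ht).2 ⟨?_, ?_⟩, t', (mem_cs hu ht').2 ⟨?_, ?_⟩, ?_⟩
    · rw [sqf, t1, t2, t3]; field_simp; linear_combination (N n α * (D.kap + φ)) * two
    · rw [bil, t1, t2, t3, hf, hα]; linear_combination (D.c u * φ) * two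
    · rw [sqf, t1', t2', t3']; field_simp; linear_combination (N n (α + l * D.a u) * (D.kap + φ)) * two
    · rw [bil, t1', t2', t3', hf, add_mul, Tr_add, hα, e1]; linear_combination (D.c u * φ) * two
    · have e2 : Tr n (α * bar n (l * D.a u)) = l * (D.c u * φ) := by
        rw [bar_mul, fl, ← hα, ← Tr_mul_fixed fl]; congr 1; ring
      have e3 : Tr n (α * bar n (α + l * D.a u)) = l * (D.c u * φ) := by
        rw [bar_add, mul_add, Tr_add, Tr_self D.hq, zero_add, e2]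
      have e4 : N n (α + l * D.a u) = N n α + l ^ 2 * N n (D.a u) + l * (D.c u * φ) := by
        rw [N_add' D.hq, e2, N_mul, N_of_fixed fl]
      have e5 : D.kap * D.c u = N n (D.a u) := by
        rw [hf, mul_zero, add_zero] at h2
        exact (Cfsg.Agent.StdU3.Field.add_eq_zero.mp h2).symm
      rw [bil, t1, t2, t3, t1', t2', t3', e3, e4]
      have e6 : (l : F) * (D.c u * φ) + (N n α * (D.kap + φ)⁻¹ * φ +
          (N n α + l ^ 2 * N n (D.a u) + l * (D.c u * φ)) * (D.kap + φ)⁻¹ * φ) =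
          φ * N n (D.a u) * (l * (1 + l)) * (D.kap + φ)⁻¹ := by
        field_simp
        linear_combination (l : F) * e5 + (l * D.c u * φ + N n α) * two
      rw [e6]
      have hl1 : (1 : F) + l ≠ 0 := fun h => l1 (Cfsg.Agent.StdU3.Field.add_eq_zero.mp h).symm
      exact mul_ne_zero (mul_ne_zero (mul_ne_zero φ0 (N_ne_zero ha)) (mul_ne_zero l0 hl1)) (inv_ne_zero hkφ)
  by_cases hfk : D.f u = D.kap
  · -- (ii)
    have ha : D.a u = 0 := by
      rw [hfk] at h2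
      apply N_eq_zero (n := n)
      linear_combination h2 - (D.kap * D.c u) * two
    have hc : D.c u ≠ 0 := fun hc => huV ⟨hu, ha, hc⟩
    obtain ⟨φ, hφ, φ0, φk⟩ := exists_Phi (D := D) D.kap
    have fφ := D.fix_Phi φ hφ
    have hkφ : D.kap + φ ≠ 0 := fun h => φk (Cfsg.Agent.StdU3.Field.add_eq_zero.mp h).symm
    have fγ : bar n (D.c u * φ * D.kap⁻¹) = D.c u * φ * D.kap⁻¹ := fixed_mul (fixed_mul fc fφ) (fixed_inv fk)
    obtain ⟨α, hα⟩ := exists_norm D.hq (fixed_mul fγ (fixed_add fk fφ))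
    obtain ⟨t, ht, t1, t2, t3⟩ := D.surj α (D.c u * φ * D.kap⁻¹) φ fγ hφ
    obtain ⟨t', ht', t1', t2', t3'⟩ := D.surj (x * α) (D.c u * φ * D.kap⁻¹) φ fγ hφ
    refine ⟨t, (mem_cs hu ht).2 ⟨?_, ?_⟩, t', (mem_cs hu ht').2 ⟨?_, ?_⟩, ?_⟩
    · rw [sqf, t1, t2, t3, hα]; field_simp; linear_combination (D.c u * φ * (D.kap + φ)) * two
    · rw [bil, t1, t2, t3, ha, bar_zero, mul_zero, Tr_zero, hfk]; field_simp; linear_combination (D.c u * φ) * two
    · rw [sqf, t1', t2', t3', N_mul, hα, N_def n x, x1]; field_simp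
      linear_combination (D.c u * φ * (D.kap + φ)) * two
    · rw [bil, t1', t2', t3', ha, bar_zero, mul_zero, Tr_zero, hfk]; field_simp; linear_combination (D.c u * φ) * two
    · rw [bil, t1, t2, t3, t1', t2', t3', Cfsg.Agent.StdU3.Field.add_self, add_zero]
      have e1 : α * bar n (x * α) = N n α * bar n x := by rw [bar_mul, N_def]; ring
      rw [e1, Tr_mul_fixed (fixed_N D.hq _), Tr_bar D.hq, hα]
      exact mul_ne_zero (mul_ne_zero (mul_ne_zero (mul_ne_zero hc φ0) (inv_ne_zero hk)) hkφ) x2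
  · -- (i)
    have ha : D.a u ≠ 0 := by
      intro ha
      rw [ha, N_zero, zero_add] at h2
      have h3 : D.c u * (D.kap + D.f u) = 0 := by rw [← h2]; ring
      rcases mul_eq_zero.1 h3 with h4 | h4
      · exact huV ⟨hu, ha, h4⟩
      · exact hfk (Cfsg.Agent.StdU3.Field.add_eq_zero.mp h4).symm
    have fkf : bar n (D.kap * (D.f u)⁻¹) = D.kap * (D.f u)⁻¹ := fixed_mul fk (fixed_inv ff)
    have fγ : bar n (D.kap * (D.f u)⁻¹ * (D.f u)⁻¹ * (N n (D.a u) * Tr n x)) =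
        D.kap * (D.f u)⁻¹ * (D.f u)⁻¹ * (N n (D.a u) * Tr n x) :=
      fixed_mul (fixed_mul fkf (fixed_inv ff)) (fixed_mul fNa (fixed_Tr D.hq _))
    have key : ∀ y : F, y * bar n y = 1 → Tr n y = Tr n x → ∃ t ∈ D.cs u,
        D.a t = (1 + y) * (D.kap * (D.f u)⁻¹ * D.a u) ∧ D.f t = 0 := by
      intro y hy hTr
      obtain ⟨t, ht, t1, t2, t3⟩ := D.surj ((1 + y) * (D.kap * (D.f u)⁻¹ * D.a u))
        (D.kap * (D.f u)⁻¹ * (D.f u)⁻¹ * (N n (D.a u) * Tr n x)) 0 fγ D.Phi.zero_mem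
      have e1 : N n (1 + y) = Tr n x := by
        rw [← hTr, N_def, Tr_def, bar_add, bar_one]
        linear_combination hy + two
      refine ⟨t, (mem_cs hu ht).2 ⟨?_, ?_⟩, t1, t3⟩
      · rw [sqf, t1, t2, t3, N_mul, N_mul, e1, N_of_fixed fkf]
        linear_combination (Tr n x * (D.kap * (D.f u)⁻¹) ^ 2 * N n (D.a u)) * two
      · have e2 : (1 + y) * (D.kap * (D.f u)⁻¹ * D.a u) * bar n (D.a u) =
            (D.kap * (D.f u)⁻¹ * N n (D.a u)) * (1 + y) := by rw [N_def]; ring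
        have e3 : Tr n (1 + y) = Tr n x := by rw [Tr_add, Tr_of_fixed (bar_one n), zero_add, hTr]
        rw [bil, t1, t2, t3, e2, Tr_mul_fixed (fixed_mul fkf fNa), e3]
        field_simp
        linear_combination (D.kap * N n (D.a u) * Tr n x) * two
    obtain ⟨t, ht, t1, t3⟩ := key x x1 rfl
    obtain ⟨t', ht', t1', t3'⟩ := key (bar n x) xb (Tr_bar D.hq x)
    refine ⟨t, ht, t', ht', ?_⟩
    have e1 : (1 + x) * (D.kap * (D.f u)⁻¹ * D.a u) * bar n ((1 + bar n x) * (D.kap * (D.f u)⁻¹ * D.a u)) =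
        ((D.kap * (D.f u)⁻¹) * (D.kap * (D.f u)⁻¹) * N n (D.a u)) * ((1 + x) * (1 + x)) := by
      rw [bar_mul, bar_mul n (D.kap * (D.f u)⁻¹), fkf, bar_add, bar_one, bar_bar D.hq, N_def]; ring
    have e2 : Tr n ((1 + x) * (1 + x)) = Tr n x ^ 2 := by
      have h3 : (1 + x) * (1 + x) = 1 + x * x := by linear_combination x * two
      rw [h3, Tr_add, Tr_of_fixed (bar_one n), zero_add, Tr_def, Tr_def, bar_mul]
      linear_combination (-(x * bar n x)) * two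
    rw [bil, t1, t1', t3, t3', mul_zero, mul_zero, add_zero, add_zero, e1,
      Tr_mul_fixed (fixed_mul (fixed_mul fkf fkf) fNa), e2]
    exact mul_ne_zero (mul_ne_zero (mul_ne_zero (mul_ne_zero hk (inv_ne_zero hf)) (mul_ne_zero hk (inv_ne_zero hf)))
      (N_ne_zero ha)) (pow_ne_zero 2 x2)

theorem exists_V_notZ : ∃ u ∈ D.V, u ∉ D.Z := by
  obtain ⟨u, hu, h1⟩ := exists_V (D := D) D.one_mem
  exact ⟨u, hu, fun hz => one_ne_zero (h1.symm.trans ((mem_Z_iff hu.1).1 hz).2.2)⟩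

theorem exists_E_notZ : ∃ u ∈ D.E, u ∉ D.Z := by
  obtain ⟨u, hu, h1⟩ := exists_E (D := D) (bar_one n)
  exact ⟨u, hu, fun hz => one_ne_zero (h1.symm.trans ((mem_Z_iff hu.1).1 hz).2.1)⟩

theorem cj_notZ {x u : G} (hx : cj x D.P = D.P) (hu : u ∉ D.Z) : x * u * x⁻¹ ∉ D.Z := fun h =>
  hu ((cj_mem_iff (cj_Z hx)).1 h)

/-- (A2) -/
theorem cj_V_of_ne (hk : D.kap ≠ 0) {x : G} (hx : cj x D.P = D.P) : cj x D.V = D.V := by
  have hS := sel_V.cj (D := D) hx
  have key : ∀ u ∈ cj x D.V, u ∉ D.Z → u ∈ D.V := by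
    intro u hu huZ
    by_contra huV
    have huP : u ∈ D.P := by rw [← hx]; exact map_mono V_le hu
    have h2 := (sq_eq_one huP).1 (hS.sq hu huZ)
    obtain ⟨t, ht, t', ht', hne⟩ := exists_noncomm hk huP huV h2
    exact hne ((comm_iff ht.1 ht'.1).1 (hS.comm hu huZ ht ht'))
  obtain ⟨v, hv, hvZ⟩ := exists_V_notZ (D := D)
  have m := mem_cj_mul (g := x) hv
  have mZ := cj_notZ hx hvZ
  apply SetLike.coe_injective
  rw [hS.cs _ m mZ, ← sel_V.cs _ (key _ m mZ) mZ]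

/-- If a conjugate of `E` is a `V_A` then `Φ = F_q`. -/
theorem Phi_full {x : G} (hx : cj x D.P = D.P) {A : F} (h : ∀ e ∈ D.E, x * e * x⁻¹ ∈ D.W A) :
    ∀ b, bar n b = b → b ∈ D.Phi := by
  classical
  choose! e he hec using fun (b : F) (hb : bar n b = b) => exists_E (D := D) hb
  have inj : Set.InjOn (fun b => D.f (x * e b * x⁻¹)) {b | bar n b = b} := by
    intro b hb b' hb' h1
    have h1' : D.f (x * e b * x⁻¹) = D.f (x * e b' * x⁻¹) := h1
    have m := h _ (he b hb)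
    have m' := h _ (he b' hb')
    have m2 : x * (e b * e b') * x⁻¹ ∈ D.W A := by
      have : x * (e b * e b') * x⁻¹ = (x * e b * x⁻¹) * (x * e b' * x⁻¹) := by group
      rw [this]; exact mul_mem m m'
    have f0 : D.f (x * (e b * e b') * x⁻¹) = 0 := by
      have : x * (e b * e b') * x⁻¹ = (x * e b * x⁻¹) * (x * e b' * x⁻¹) := by group
      rw [this, D.f_mul _ m.1 _ m'.1, h1', Cfsg.Agent.StdU3.Field.add_self]
    have h2 := (cj_mem_iff (cj_Z hx)).1 (mem_Z_of_W m2 f0)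
    have h3 := ((mem_Z_iff (mul_mem (he b hb).1 (he b' hb').1)).1 h2).2.1
    rw [D.c_mul _ (he b hb).1 _ (he b' hb').1, hec b hb, hec b' hb'] at h3
    exact Cfsg.Agent.StdU3.Field.add_eq_zero.mp h3
  have hsub : (D.Phi : Set F) ⊆ {b | bar n b = b} := fun b hb => D.fix_Phi b hb
  have hle : ({b | bar n b = b} : Set F).ncard ≤ (D.Phi : Set F).ncard :=
    Set.ncard_le_ncard_of_injOn _ (fun b hb => D.f_mem _ (h _ (he b hb)).1) inj (Set.toFinite _)
  have h4 := Set.eq_of_subset_of_ncard_le hsub hle (Set.toFinite _)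
  intro b hb
  have : b ∈ ({b | bar n b = b} : Set F) := hb
  rw [← h4] at this
  exact this

/-- **(A2), (A3)** -/
theorem cj_V {x : G} (hx : cj x D.P = D.P) : cj x D.V = D.V ∨ (D.kap = 0 ∧
    ((∃ A, A ≠ 0 ∧ cj x D.V = D.W A) ∨ (cj x D.V = D.E ∧ ∀ b, bar n b = b → b ∈ D.Phi))) := by
  by_cases hk : D.kap = 0
  swap
  · exact Or.inl (cj_V_of_ne hk hx)
  have hS := sel_V.cj (D := D) hx
  obtain ⟨v, hv, hvZ⟩ := exists_V_notZ (D := D)
  have m := mem_cj_mul (g := x) hv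
  have mZ := cj_notZ hx hvZ
  have huP : x * v * x⁻¹ ∈ D.P := by rw [← hx]; exact map_mono V_le m
  rcases cs_eq hk huP mZ (hS.sq m mZ) with ⟨A, hA⟩ | hE
  · have h1 : cj x D.V = D.W A := SetLike.coe_injective (by rw [hS.cs _ m mZ, hA])
    by_cases h0 : A = 0
    · left; rw [h1, h0, W_zero]
    · exact Or.inr ⟨hk, Or.inl ⟨A, h0, h1⟩⟩
  · have h1 : cj x D.V = D.E := SetLike.coe_injective (by rw [hS.cs _ m mZ, hE])
    refine Or.inr ⟨hk, Or.inr ⟨h1, ?_⟩⟩
    refine Phi_full (x := x⁻¹) (A := 0) (cj_inv_eq hx) ?_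
    intro e he
    rw [W_zero, ← cj_inv_eq h1]
    exact mem_cj_mul he

/-- **(A4)** -/
theorem cj_E {x : G} (hx : cj x D.P = D.P) (hk : D.kap = 0) : cj x D.E = D.E ∨
    ((∃ A, cj x D.E = D.W A) ∧ ∀ b, bar n b = b → b ∈ D.Phi) := by
  have hS := (sel_E (D := D) hk).cj hx
  obtain ⟨v, hv, hvZ⟩ := exists_E_notZ (D := D)
  have m := mem_cj_mul (g := x) hv
  have mZ := cj_notZ hx hvZ
  have huP : x * v * x⁻¹ ∈ D.P := by rw [← hx]; exact map_mono E_le m
  rcases cs_eq hk huP mZ (hS.sq m mZ) with ⟨A, hA⟩ | hE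
  · have h1 : cj x D.E = D.W A := SetLike.coe_injective (by rw [hS.cs _ m mZ, hA])
    refine Or.inr ⟨⟨A, h1⟩, Phi_full hx (A := A) fun e he => ?_⟩
    rw [← h1]
    exact mem_cj_mul he
  · exact Or.inl (SetLike.coe_injective (by rw [hS.cs _ m mZ, hE]))

/-- a member different from `E` is a `V_A` -/
theorem cj_V' {x : G} (hx : cj x D.P = D.P) (hne : cj x D.V ≠ D.E) : ∃ A, cj x D.V = D.W A := by
  rcases cj_V hx with h | ⟨-, ⟨A, -, h⟩ | ⟨h, -⟩⟩
  · exact ⟨0, by rw [h, W_zero]⟩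
  · exact ⟨A, h⟩
  · exact absurd h hne

end Chart

/-! ### The torus and the partner -/

namespace Dat

open Chart

variable (D : Dat G F n)

include D in
theorem fixed_w (l : Fˣ) : N n (w n l) = N n (l : F) := by
  rw [w, N_mul, N_inv, N_def n ((l : F) ^ 2), bar_pow]
  have h0 : (l : F) ≠ 0 := l.ne_zero
  have h1 : bar n (l : F) ≠ 0 := fun h => h0 (bar_eq_zero h)
  rw [N_bar D.hq, N_def]
  field_simp

theorem w_ne_zero (l : Fˣ) : w n l ≠ 0 :=
  mul_ne_zero (pow_ne_zero 2 l.ne_zero) (inv_ne_zero fun h => l.ne_zero (bar_eq_zero h))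

/-- conjugation by the torus on coordinates -/
theorem cj_h_aux (l : Fˣ) {X Y : Subgroup G} (hX : X ≤ D.P) (hY : Y ≤ D.P)
    (h : ∀ x ∈ D.P, x ∈ X ↔ D.h l * x * (D.h l)⁻¹ ∈ Y) : cj (D.h l) X = Y := by
  refine cj_eq_of (fun g hg => (h g (hX hg)).1 hg) fun g hg => ?_
  have h1 : (D.h l)⁻¹ * g * D.h l ∈ D.P := by
    rw [← mem_cj, D.h_P]; exact hY hg
  rw [h _ h1]
  have e : D.h l * ((D.h l)⁻¹ * g * D.h l) * (D.h l)⁻¹ = g := by group
  rw [e]; exact hg

theorem cj_h_W (l : Fˣ) (A : F) : cj (D.h l) (D.W A) = D.W (w n l * A) := by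
  refine D.cj_h_aux l (W_le _) (W_le _) fun x hx => ?_
  have hN : N n (l : F) ≠ 0 := N_ne_zero l.ne_zero
  have hm : D.h l * x * (D.h l)⁻¹ ∈ D.P := cj_mem (D.h_P l) hx
  rw [mem_W, mem_W, D.h_a l x hx, D.h_c l x hx, D.h_f l x hx, N_mul, D.fixed_w]
  constructor
  · rintro ⟨-, h1, h2⟩
    exact ⟨hm, by rw [h1]; ring, by rw [h2]; ring⟩
  · rintro ⟨-, h1, h2⟩
    refine ⟨hx, mul_left_cancel₀ (w_ne_zero l) (by rw [h1]; ring), mul_left_cancel₀ hN (by rw [h2]; ring)⟩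

theorem cj_h_V (l : Fˣ) : cj (D.h l) D.V = D.V := by
  rw [← W_zero, cj_h_W, mul_zero]

theorem cj_h_E (l : Fˣ) : cj (D.h l) D.E = D.E := by
  refine D.cj_h_aux l E_le E_le fun x hx => ?_
  have hm : D.h l * x * (D.h l)⁻¹ ∈ D.P := cj_mem (D.h_P l) hx
  rw [mem_E, mem_E, D.h_a l x hx, D.h_f l x hx]
  constructor
  · rintro ⟨-, h1, h2⟩
    exact ⟨hm, by rw [h1, mul_zero], h2⟩
  · rintro ⟨-, h1, h2⟩
    exact ⟨hx, (mul_eq_zero.1 h1).resolve_left (w_ne_zero l), h2⟩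

theorem cj_h_S (l : Fˣ) : cj (D.h l) D.S = D.S := by
  refine D.cj_h_aux l S_le S_le fun x hx => ?_
  have hm : D.h l * x * (D.h l)⁻¹ ∈ D.P := cj_mem (D.h_P l) hx
  have hN : N n (l : F) ≠ 0 := N_ne_zero l.ne_zero
  rw [mem_S, mem_S, D.h_c l x hx, D.h_f l x hx]
  constructor
  · rintro ⟨-, h1, h2⟩
    exact ⟨hm, by rw [h1, mul_zero], h2⟩
  · rintro ⟨-, h1, h2⟩
    exact ⟨hx, (mul_eq_zero.1 h1).resolve_left hN, h2⟩

theorem cj_h_Z (l : Fˣ) : cj (D.h l) D.Z = D.Z := cj_Z (D.h_P l)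

/-- the partner of `cj x V` is well defined -/
theorem partner {x y : G} (h : cj x D.V = cj y D.V) : cj x D.E = cj y D.E := by
  have h1 : cj (y⁻¹ * x) D.V = D.V := by rw [cj_mul, h]; exact cj_inv_eq rfl
  have h2 := D.V_E _ h1
  rw [cj_mul] at h2
  have h3 := congrArg (cj y) h2
  rw [← cj_mul, ← cj_mul, mul_inv_cancel, one_mul] at h3
  exact h3

theorem partner_inf {x : G} (hx : cj x D.P = D.P) : cj x D.V ⊓ cj x D.E = D.Z := by
  ext g
  rw [mem_inf, mem_cj, mem_cj, ← mem_inf, V_inf_E, ← mem_cj, cj_Z hx]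

end Dat

end Cfsg.Agent.OddHalf.D4.U3.Defs
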