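import Cfsg.Agent.OddHalf.D4.U3.Fr

/-!
# ODD, D4, row `K = U₃(q)`, piece M: `K ∩ N(L)` contains a Sylow 2-subgroup of `K` with `H₀`
-/

set_option autoImplicit false

namespace Cfsg.Agent.OddHalf.D4.U3.StepA

open Subgroup Cfsg.Agent.OddHalf.D4 Cfsg.Agent.OddHalf.D4.Basic Cfsg.Agent.OddHalf.D4.U3.Fr
open Cfsg.Agent.OddHalf.D4.CommConj (Tight cj mem_cj cj_mul card_cj cj_eq_of_mem_normalizer
  mem_normalizer_of_cj_eq mem_cj_mul)

variable {G : Type*} [Group G]

theorem commute_cent {K : Subgroup G} {k c : G} (hk : k ∈ K) (hc : c ∈ centralizer (K : Set G)) :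
    k * c = c * k := mem_centralizer_iff.mp hc k hk

theorem sq_of_order {x : G} (h : orderOf x = 2) : x * x = 1 := by
  have := pow_orderOf_eq_one x
  rwa [h, pow_two] at this

theorem order_of_sq {x : G} (h : x * x = 1) (h1 : x ≠ 1) : orderOf x = 2 :=
  orderOf_eq_prime (by rw [pow_two]; exact h) h1

theorem ne_one_of_order {x : G} (h : orderOf x = 2) : x ≠ 1 := by
  rintro rfl
  rw [orderOf_one] at h
  exact absurd h (by norm_num)

theorem isPGroup_zpowers {x : G} (h : ∃ k : ℕ, x ^ 2 ^ k = 1) : IsPGroup 2 ↥(zpowers x) := by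
  obtain ⟨k, hk⟩ := h
  rintro ⟨_, m, rfl⟩
  refine ⟨k, Subtype.ext ?_⟩
  show (x ^ m) ^ 2 ^ k = 1
  rw [← zpow_natCast, ← zpow_mul, mul_comm, zpow_mul, zpow_natCast, hk, one_zpow]

theorem el_of_mem {P : Subgroup G} (hP : IsPGroup 2 ↥P) {x : G} (hx : x ∈ P) : ∃ k : ℕ, x ^ 2 ^ k = 1 := by
  obtain ⟨k, hk⟩ := hP ⟨x, hx⟩
  exact ⟨k, congrArg Subtype.val hk⟩

/-- two commuting 2-elements lie in a 2-group contained in each group containing them -/
theorem two_pair {r s : G} (hr : ∃ k : ℕ, r ^ 2 ^ k = 1) (hs : ∃ k : ℕ, s ^ 2 ^ k = 1) (h : r * s = s * r) :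
    IsPGroup 2 ↥(zpowers r ⊔ zpowers s : Subgroup G) := by
  apply IsPGroup.to_sup_of_normal_right' (isPGroup_zpowers hr) (isPGroup_zpowers hs)
  rw [zpowers_le, mem_normalizer_iff]
  have key : ∀ m : ℤ, r * s ^ m * r⁻¹ = s ^ m := by
    intro m
    have : Commute r (s ^ m) := (show Commute r s from h).zpow_right m
    rw [this.eq]; group
  intro x
  constructor
  · rintro ⟨m, rfl⟩
    exact ⟨m, (key m).symm⟩
  · rintro ⟨m, hm⟩
    refine ⟨m, ?_⟩
    have h1 : r * (s ^ m) * r⁻¹ = r * x * r⁻¹ := by rw [key m]; exact hm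
    exact mul_left_cancel (mul_right_cancel h1)

variable {K L Q U S Z B H : Subgroup G}

/-- the even order of `C(K)` -/
theorem even_of_four (f : Fr K S Z B H) : Even (Nat.card ↥(centralizer (K : Set G))) := by
  obtain ⟨r, hr, -, -, hr2, -⟩ := f.four
  exact even_of_mem hr2 hr

theorem four_L (f : Fr K S Z B H) (hF : FullPair K L Q U) :
    ∃ r ∈ centralizer (L : Set G), ∃ s ∈ centralizer (L : Set G), orderOf r = 2 ∧ orderOf s = 2 ∧
      r ≠ s ∧ r * s = s * r := by
  obtain ⟨g, -, rfl⟩ := hF.conj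
  obtain ⟨r, hr, s, hs, hr2, hs2, hne, hcomm⟩ := f.four
  refine ⟨g * r * g⁻¹, ?_, g * s * g⁻¹, ?_, ?_, ?_, ?_, ?_⟩
  · rw [centralizer_cj]; exact mem_cj_mul hr
  · rw [centralizer_cj]; exact mem_cj_mul hs
  · rw [Basic.orderOf_conj]; exact hr2
  · rw [Basic.orderOf_conj]; exact hs2
  · intro h
    exact hne (mul_left_cancel (mul_right_cancel h))
  · calc g * r * g⁻¹ * (g * s * g⁻¹) = g * (r * s) * g⁻¹ := by group
      _ = g * (s * r) * g⁻¹ := by rw [hcomm]
      _ = g * s * g⁻¹ * (g * r * g⁻¹) := by group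

/-- `U` contains a four-group -/
theorem four_U [Finite G] (f : Fr K S Z B H) (hF : FullPair K L Q U) :
    ∃ r ∈ U, ∃ s ∈ U, orderOf r = 2 ∧ orderOf s = 2 ∧ r ≠ s ∧ r * s = s * r := by
  obtain ⟨r, hr, s, hs, hr2, hs2, hne, hcomm⟩ := four_L f hF
  have h1 := two_pair (r := r) (s := s) ⟨1, by rw [pow_one, ← hr2, pow_orderOf_eq_one]⟩
    ⟨1, by rw [pow_one, ← hs2, pow_orderOf_eq_one]⟩ hcomm
  obtain ⟨m, -, hm⟩ := hF.sylU.conj_into h1 (sup_le (by rwa [zpowers_le]) (by rwa [zpowers_le]))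
  refine ⟨_, hm r ((le_sup_left : zpowers r ≤ _) (mem_zpowers r)), _,
    hm s ((le_sup_right : zpowers s ≤ _) (mem_zpowers s)), ?_, ?_, ?_, ?_⟩
  · rw [Basic.orderOf_conj]; exact hr2
  · rw [Basic.orderOf_conj]; exact hs2
  · intro h
    exact hne (mul_left_cancel (mul_right_cancel h))
  · calc m * r * m⁻¹ * (m * s * m⁻¹) = m * (r * s) * m⁻¹ := by group
      _ = m * (s * r) * m⁻¹ := by rw [hcomm]
      _ = m * s * m⁻¹ * (m * r * m⁻¹) := by group

/-- **piece M** -/
theorem stepA [Finite G] (f : Fr K S Z B H) (hF : FullPair K L Q U) :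
    ∃ k ∈ K, cj k S ≤ normalizer (L : Set G) ∧ cj k H ≤ normalizer (L : Set G) ∧
      K ⊓ normalizer (L : Set G) ≤ cj k B := by
  have he := even_of_four f
  have hUN := hF.leU f.tight he
  obtain ⟨r, hr, s, hs, hr2, hs2, hne, hcomm⟩ := four_U f hF
  obtain ⟨x, hx, c, hc, t, ht, hxct⟩ := f.innerFour r (hUN hr) s (hUN hs) hr2 hs2 hne hcomm
  have hxU : x ∈ U := by
    rcases hx with rfl | rfl | rfl
    · exact hr
    · exact hs
    · exact U.mul_mem hr hs
  have hx2 : orderOf x = 2 := by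
    rcases hx with rfl | rfl | rfl
    · exact hr2
    · exact hs2
    · apply order_of_sq
      · calc r * s * (r * s) = r * (s * r) * s := by group
          _ = r * (r * s) * s := by rw [hcomm]
          _ = (r * r) * (s * s) := by group
          _ = 1 := by rw [sq_of_order hr2, sq_of_order hs2, one_mul]
      · intro h
        apply hne
        have h1 : r⁻¹ = s := inv_eq_of_mul_eq_one_right h
        rw [← h1]
        exact (inv_eq_of_mul_eq_one_right (sq_of_order hr2)).symm
  have htc := commute_cent ht hc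
  have htt : t * t = 1 := by
    apply f.cen _ (K.mul_mem ht ht)
    have h1 : x * x = 1 := sq_of_order hx2
    have h2 : t * t = (c * c)⁻¹ := by
      apply eq_inv_of_mul_eq_one_left
      calc t * t * (c * c) = t * (t * c) * c := by group
        _ = t * (c * t) * c := by rw [htc]
        _ = (t * c) * (t * c) := by group
        _ = (c * t) * (c * t) := by rw [htc]
        _ = x * x := by rw [hxct]
        _ = 1 := h1
    rw [h2]
    exact inv_mem (mul_mem hc hc)
  have hxL : x ∈ centralizer (L : Set G) := hF.sylU.le hxU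
  have ht1 : t ≠ 1 := by
    rintro rfl
    rw [mul_one] at hxct
    exact hF.noInv f.tight (by rw [hxct]; exact hc) hxL hx2
  have ht2 := order_of_sq htt ht1
  -- conjugate `t` into `S`
  obtain ⟨m, hm, hmS⟩ := f.syl.conj_into (isPGroup_zpowers ⟨1, by rw [pow_one, pow_two]; exact htt⟩)
    (by rw [zpowers_le]; exact ht)
  have hz := f.invol _ (hmS t (mem_zpowers t)) (by rw [Basic.orderOf_conj]; exact ht2)
  have key : ∀ y ∈ K, y * (m * t * m⁻¹) = (m * t * m⁻¹) * y → m⁻¹ * y * m ∈ normalizer (L : Set G) := by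
    intro y hy hyz
    apply (hF.tightL f.tight).mem hxL hx2
    have h1 : (m⁻¹ * y * m) * t = t * (m⁻¹ * y * m) := by
      calc (m⁻¹ * y * m) * t = m⁻¹ * (y * (m * t * m⁻¹)) * m := by group
        _ = m⁻¹ * ((m * t * m⁻¹) * y) * m := by rw [hyz]
        _ = t * (m⁻¹ * y * m) := by group
    have h2 : (m⁻¹ * y * m) * c = c * (m⁻¹ * y * m) :=
      commute_cent (K.mul_mem (K.mul_mem (K.inv_mem hm) hy) hm) hc
    rw [hxct]
    calc (m⁻¹ * y * m) * (c * t) = ((m⁻¹ * y * m) * c) * t := by group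
      _ = c * ((m⁻¹ * y * m) * t) := by rw [h2]; group
      _ = c * t * (m⁻¹ * y * m) := by rw [h1]; group
  have hBS : S ≤ K := f.syl.le
  have hHK : H ≤ K := f.H_le.trans f.B_le
  have hS' : cj m⁻¹ S ≤ normalizer (L : Set G) := by
    intro y hy
    rw [mem_cj, inv_inv] at hy
    have h1 := key _ (hBS hy) (f.commZ _ hz _ hy).symm
    have h2 : m⁻¹ * (m * y * m⁻¹) * m = y := by group
    rwa [h2] at h1
  refine ⟨m⁻¹, K.inv_mem hm, hS', ?_, ?_⟩
  · intro y hy
    rw [mem_cj, inv_inv] at hy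
    have h1 := key _ (hHK hy) (f.commH _ hz _ hy).symm
    have h2 : m⁻¹ * (m * y * m⁻¹) * m = y := by group
    rwa [h2] at h1
  · by_contra hB
    -- `D = K`
    have hD : cj m (K ⊓ normalizer (L : Set G)) = K := by
      apply f.top
      · intro y hy
        have h1 := K.mul_mem (K.mul_mem hm (mem_cj.mp hy).1) (K.inv_mem hm)
        have h2 : m * (m⁻¹ * y * m) * m⁻¹ = y := by group
        rwa [h2] at h1
      · intro y hy
        rw [mem_cj]
        refine ⟨K.mul_mem (K.mul_mem (K.inv_mem hm) (hBS hy)) hm, hS' ?_⟩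
        rw [mem_cj, inv_inv]
        have h2 : m * (m⁻¹ * y * m) * m⁻¹ = y := by group
        rwa [h2]
      · intro h
        apply hB
        intro y hy
        rw [mem_cj, inv_inv]
        exact h (mem_cj_mul hy)
    have hK : K ≤ normalizer (L : Set G) := by
      intro y hy
      have h1 : m * y * m⁻¹ ∈ cj m (K ⊓ normalizer (L : Set G)) := by
        rw [hD]; exact K.mul_mem (K.mul_mem hm hy) (K.inv_mem hm)
      have h2 := (mem_cj.mp h1).2
      have h3 : m⁻¹ * (m * y * m⁻¹) * m = y := by group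
      rwa [h3] at h2
    have hn : ∀ k ∈ K, ∀ y ∈ K ⊓ centralizer (L : Set G), k * y * k⁻¹ ∈ K ⊓ centralizer (L : Set G) := by
      intro k hk y hy
      exact ⟨K.mul_mem (K.mul_mem hk hy.1) (K.inv_mem hk), (hF.tightL f.tight).norm k (hK hk) y hy.2⟩
    rcases f.simple _ inf_le_left hn with h1 | h1
    · -- `U` centralises `K`
      have hxK : x ∈ centralizer (K : Set G) := by
        rw [mem_centralizer_iff]
        intro k hk
        have h2 := commutator_mem hk (hK hk) hxL (hUN hxU)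
        have h3 : k * x * k⁻¹ * x⁻¹ ∈ K ⊓ centralizer (L : Set G) := h2
        rw [h1, mem_bot] at h3
        have h4 : k * x = (k * x * k⁻¹ * x⁻¹) * (x * k) := by group
        rw [h4, h3, one_mul]
      exact hF.noInv f.tight hxK hxL hx2
    · -- `K` centralises `L`
      have hKL : K ≤ centralizer (L : Set G) := by
        rw [← h1]; exact inf_le_right
      obtain ⟨g, -, rfl⟩ := hF.conj
      apply f.std g
      intro l hl
      rw [mem_centralizer_iff]
      intro k hk
      exact (mem_centralizer_iff.mp (hKL hk) l hl).symm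

end Cfsg.Agent.OddHalf.D4.U3.StepA
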