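import Cfsg.Agent.OddHalf.D4.U3.TLam

/-!
# ODD, D4, row `K = U₃(q)`: PIECE T, the output
-/

set_option autoImplicit false
set_option linter.dupNamespace false
set_option linter.unusedSectionVars false

namespace Cfsg.Agent.OddHalf.D4.U3.TOut

open Subgroup Cfsg.Agent.LieRecognition Cfsg.Agent.LieRecognition.HermHeis Cfsg.Agent.StdU3.URel
  Cfsg.Agent.StdU3.Semi Cfsg.Agent.OddHalf.D4.CommConj Cfsg.Agent.OddHalf.D4.Basic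
  Cfsg.Agent.OddHalf.D4.U3.TBase Cfsg.Agent.OddHalf.D4.U3.TLam

universe u v

variable {G : Type u} [Group G] {F : Type v} [Field F] [Fintype F] [CharP F 2] {σ : F →+* F}
  [hσ : Fact (∀ x, σ (σ x) = x)] {n : ℕ}

/-- The output of PIECE T.  `V = Q Z`, `T₁ = E₁ Q`, `t r t⁻¹ = r z(ch t · f r)`. -/
structure TOut (u : Heis σ →* G) (d : Fˣ →* G) (Q V T₁ E₁ : Subgroup G) (f ch : G → F) (kap : F) : Prop where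
  memV : ∀ w, w ∈ V ↔ ∃ r ∈ Q, ∃ b, σ b = b ∧ w = r * zz u b
  f_fix : ∀ r ∈ Q, σ (f r) = f r
  f_mul : ∀ r ∈ Q, ∀ s ∈ Q, f (r * s) = f r + f s
  f_ne : ∀ r ∈ Q, r ≠ 1 → f r ≠ 0
  T_two : IsPGroup 2 T₁
  T_u : ∀ t ∈ T₁, ∀ s, t * u s = u s * t
  V_T : V ≤ T₁
  Z_E : ∀ b, σ b = b → zz u b ∈ E₁
  E_T : E₁ ≤ T₁
  T_dec : ∀ t ∈ T₁, ∃ e ∈ E₁, ∃ r ∈ Q, t = e * r
  ch_fix : ∀ t ∈ T₁, σ (ch t) = ch t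
  ch_mul : ∀ t ∈ T₁, ∀ t' ∈ T₁, ch (t * t') = ch t + ch t'
  ch_V : ∀ w ∈ V, ch w = 0
  ch_surj : ∀ c, σ c = c → ∃ e ∈ E₁, ch e = c
  ch_ker : ∀ e ∈ E₁, ch e = 0 → ∃ b, σ b = b ∧ e = zz u b
  act : ∀ t ∈ T₁, ∀ r ∈ Q, t * r * t⁻¹ = r * zz u (ch t * f r)
  kap_fix : σ kap = kap
  sq : ∀ e ∈ E₁, e * e = zz u (kap * ch e)
  E_comm : ∀ e ∈ E₁, ∀ e' ∈ E₁, e * e' = e' * e
  d_E : ∀ l, ∀ e ∈ E₁, d l * e * (d l)⁻¹ ∈ E₁ ∧ ch (d l * e * (d l)⁻¹) = nm σ l * ch e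
  H₀ : ∀ l, nm σ l = 1 → ∀ t ∈ T₁, d l * t = t * d l
  memb : ∀ x, cj x Q ≤ V → ∃ c, σ c = c ∧ ∀ r ∈ Q, r * zz u (c * f r) ∈ cj x Q
  norV : ∀ x, cj x V = V → cj x T₁ = T₁ ∧ cj x E₁ = E₁ ∧ cj x u.range = u.range
  kerV : ∀ x, cj x V = V → (∃ k : ℕ, x ^ 2 ^ k = 1) →
    (∀ s, ∃ s' : Heis σ, s'.a = s.a ∧ x * u s * x⁻¹ = u s') → ∃ s, ∃ t ∈ T₁, x = u s * t

end Cfsg.Agent.OddHalf.D4.U3.TOut
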