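import Cfsg.Agent.OddHalf.D4.U3.MkChart
import Cfsg.Agent.OddHalf.D4.U3.StepA
import Cfsg.Agent.OddHalf.D4.U3.TOut

/-!
# ODD, D4, row `K = U₃(q)`: `Dat` from the output of piece T (piece U)

`exists_dat`: from helper136's `TBase.TD` and `TOut.TOut`.
-/

set_option autoImplicit false
set_option linter.dupNamespace false
set_option linter.unusedSectionVars false

namespace Cfsg.Agent.OddHalf.D4.U3.Mk

open Subgroup Cfsg.Agent.LieRecognition Cfsg.Agent.LieRecognition.HermHeis Cfsg.Agent.StdU3.URel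
  Cfsg.Agent.StdU3.Field Cfsg.Agent.StdU3.Semi Cfsg.Agent.OddHalf.D4.CommConj Cfsg.Agent.OddHalf.D4.Basic
  Cfsg.Agent.OddHalf.D4.U3.ParDefs Cfsg.Agent.OddHalf.D4.U3.MkDefs Cfsg.Agent.OddHalf.D4.U3.Defs
  Cfsg.Agent.OddHalf.D4.U3.Fr Cfsg.Agent.OddHalf.D4

universe u v

variable {G : Type u} [Group G] {F : Type v} [Field F] [Fintype F] [CharP F 2] {σ : F →+* F}
  [hσ : Fact (∀ x, σ (σ x) = x)] {n : ℕ} {K : Subgroup G}

/-! ### general -/

theorem cj_eq_of_le [Finite G] {g : G} {X : Subgroup G} (h : cj g X ≤ X) : cj g X = X :=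
  eq_of_le_of_card_ge h (by rw [card_cj])

theorem cj_le_of {g : G} {X Y : Subgroup G} (h : ∀ x ∈ X, g * x * g⁻¹ ∈ Y) : cj g X ≤ Y := by
  intro y hy
  have h1 := h _ (mem_cj.mp hy)
  have e : g * (g⁻¹ * y * g) * g⁻¹ = y := by group
  rwa [e] at h1

theorem of_cj_eq {g x : G} {X : Subgroup G} (h : cj g X = X) (hx : x ∈ X) : g * x * g⁻¹ ∈ X := by
  have h1 := mem_cj_mul (g := g) hx
  rwa [h] at h1

theorem of_cj_eq' {g x : G} {X : Subgroup G} (h : cj g X = X) (hx : x ∈ X) : g⁻¹ * x * g ∈ X := by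
  rw [← h, mem_cj] at hx
  exact hx

theorem cj_inv_eq {g : G} {X : Subgroup G} (h : cj g X = X) : cj g⁻¹ X = X := by
  conv_lhs => rw [← h]
  exact cj_inv_cj g X

theorem cj_mul_eq {g h : G} {X : Subgroup G} (h1 : cj g X = X) (h2 : cj h X = X) : cj (g * h) X = X := by
  rw [cj_mul, h2, h1]

/-- a 2-element of `M` normalising the Sylow 2-subgroup `Q` of `M` lies in `Q` -/
theorem mem_of_norm {Q M : Subgroup G} (hQ : IsSyl Q M) {c : G} (hc : c ∈ M)
    (h2 : ∃ k : ℕ, c ^ 2 ^ k = 1) (h : cj c Q = Q) : c ∈ Q := by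
  have h1 : IsPGroup 2 ↥(zpowers c ⊔ Q : Subgroup G) := by
    apply IsPGroup.to_sup_of_normal_right' (StepA.isPGroup_zpowers h2) hQ.two
    rw [zpowers_le]
    exact mem_normalizer_of_cj_eq h
  exact hQ.max _ h1 le_sup_right (sup_le (by rwa [zpowers_le]) hQ.le)
    ((le_sup_left : zpowers c ≤ _) (mem_zpowers c))

/-- powers of `a c b`, `a, b ∈ P`, `c` normalises `P` -/
theorem pow_mod {P : Subgroup G} {a b c : G} (ha : a ∈ P) (hb : b ∈ P) (h : cj c P = P) (j : ℕ) :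
    ∃ x ∈ P, (a * c * b) ^ j = x * c ^ j := by
  have hc : ∀ j : ℕ, cj (c ^ j) P = P := by
    intro j
    induction j with
    | zero => rw [pow_zero]; ext x; rw [mem_cj]; simp
    | succ j ih => rw [pow_succ]; exact cj_mul_eq ih h
  induction j with
  | zero => exact ⟨1, one_mem _, by simp⟩
  | succ j ih =>
    obtain ⟨x, hx, h1⟩ := ih
    refine ⟨x * (c ^ j * a * (c ^ j)⁻¹) * (c ^ (j + 1) * b * (c ^ (j + 1))⁻¹),
      mul_mem (mul_mem hx (of_cj_eq (hc j) ha)) (of_cj_eq (hc (j + 1)) hb), ?_⟩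
    rw [pow_succ, h1, pow_succ c]
    group

/-- a 2-group with two different involutions has at least four elements -/
theorem four_le_card [Finite G] {Q : Subgroup G} (h2 : IsPGroup 2 ↥Q) {r s : G} (hr : r ∈ Q) (hs : s ∈ Q)
    (hr2 : orderOf r = 2) (hs2 : orderOf s = 2) (hne : r ≠ s) : 4 ≤ Nat.card Q := by
  have hfact : Fact (Nat.Prime 2) := ⟨Nat.prime_two⟩
  obtain ⟨k, hk⟩ := IsPGroup.iff_card.mp h2
  have h1 : zpowers r < Q := by
    refine lt_of_le_of_ne (by rwa [zpowers_le]) ?_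
    intro h
    rw [← h] at hs
    obtain ⟨m, hm⟩ := hs
    have hrr : r * r = 1 := StepA.sq_of_order hr2
    have hs1 : s ≠ 1 := StepA.ne_one_of_order hs2
    rcases Int.even_or_odd m with ⟨j, hj⟩ | ⟨j, hj⟩
    · apply hs1
      rw [← hm, hj]
      show r ^ (j + j) = 1
      rw [← two_mul, zpow_mul, zpow_ofNat, pow_two, hrr, one_zpow]
    · apply hne
      rw [← hm, hj]
      show r = r ^ (2 * j + 1)
      rw [zpow_add, zpow_one, zpow_mul, zpow_ofNat, pow_two, hrr, one_zpow, one_mul]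
  have h3 : Nat.card (zpowers r) < Nat.card Q := by
    apply Nat.lt_of_le_of_ne (Subgroup.card_le_of_le h1.le)
    intro h
    exact h1.ne (eq_of_le_of_card_ge h1.le h.ge)
  rw [Nat.card_zpowers, hr2, hk] at h3
  rw [hk]
  have h4 : 1 < k := by
    by_contra hcon
    push Not at hcon
    have := Nat.pow_le_pow_right (show 0 < 2 by norm_num) hcon
    omega
  calc 4 = 2 ^ 2 := by norm_num
    _ ≤ 2 ^ k := Nat.pow_le_pow_right (by norm_num) h4

/-! ### the chart -/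

section ChartOf

variable {p : Par K σ n} (t : TOut0 p)

/-- the values of `f` -/
def Phi : AddSubgroup F where
  carrier := {x | ∃ r ∈ t.Q, t.f r = x}
  zero_mem' := ⟨1, one_mem _, f_zero t⟩
  add_mem' := by
    rintro x y ⟨r, hr, rfl⟩ ⟨r', hr', rfl⟩
    exact ⟨r * r', mul_mem hr hr', t.f_mul r hr r' hr'⟩
  neg_mem' := by
    rintro x ⟨r, hr, rfl⟩
    exact ⟨r, hr, by rw [CharTwo.neg_eq]⟩

theorem mem_Phi {x : F} : x ∈ Phi t ↔ ∃ r ∈ t.Q, t.f r = x := Iff.rfl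

theorem f_injOn {r r' : G} (hr : r ∈ t.Q) (hr' : r' ∈ t.Q) (h : t.f r = t.f r') : r = r' := by
  have h1 := t.f_mul r hr r' hr'
  rw [h, CharTwo.add_self_eq_zero] at h1
  have h2 := t.f_inj _ (mul_mem hr hr') h1
  have h3 := t.Q_sq r' hr'
  have h4 : r * r' = r' * r' := by rw [h2, h3]
  exact mul_right_cancel h4

theorem card_Phi : Nat.card (Phi t) = Nat.card t.Q := by
  refine (Nat.card_congr (Equiv.ofBijective
    (fun r : t.Q => (⟨t.f r, r, r.2, rfl⟩ : Phi t)) ⟨?_, ?_⟩)).symm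
  · intro r r' h
    exact Subtype.ext (f_injOn t r.2 r'.2 (congrArg Subtype.val h))
  · rintro ⟨x, r, hr, rfl⟩
    exact ⟨⟨r, hr⟩, rfl⟩

variable (hcen : ∀ x ∈ K, x ∈ centralizer (K : Set G) → x = 1) (h4 : 4 ≤ Nat.card t.Q)

/-- the chart of `P = S E Q` -/
noncomputable def chart : Chart G F n where
  hq := p.hS.hq
  P := PP t
  two := two_P t
  a := ca t
  c := cc t
  f := cf t
  z := zz p
  kap := t.kap
  Phi := Phi t
  one_mem := t.f_one
  four := by rw [card_Phi]; exact h4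
  fix_Phi := by
    rintro x ⟨r, hr, rfl⟩
    exact t.f_fix r hr
  fix_kap := t.kap_fix
  a_mul := fun x hx y hy => (coord_mul t hcen hx hy).1
  c_mul := fun x hx y hy => (coord_mul t hcen hx hy).2.1
  f_mul := fun x hx y hy => (coord_mul t hcen hx hy).2.2
  fix_c := by
    rintro x ⟨y, e, he, r, hr, rfl⟩
    rw [cc_nf t hcen y he hr]
    exact t.c_fix e he
  f_mem := by
    rintro x ⟨y, e, he, r, hr, rfl⟩
    rw [cf_nf t hcen y he hr]
    exact ⟨r, hr, rfl⟩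
  surj := by
    rintro α γ φ hγ ⟨r, hr, rfl⟩
    obtain ⟨y, rfl⟩ := exists_a p.hS α
    obtain ⟨e, he, rfl⟩ := t.c_surj γ hγ
    exact ⟨p.u y * e * r, nf_mem t y he hr, ca_nf t hcen y he hr, cc_nf t hcen y he hr, cf_nf t hcen y he hr⟩
  z_mem := by
    intro b _
    obtain ⟨y, hy, h⟩ := zz_mem p b
    exact ⟨y, 1, one_mem _, 1, one_mem _, by rw [h]; group⟩
  z_add := fun b b' hb hb' => zz_add p hb hb'
  z_inj := fun b hb h => zz_inj p hb h
  a_z := fun b _ => (coord_zz t hcen b).1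
  c_z := fun b _ => (coord_zz t hcen b).2.1
  f_z := fun b _ => (coord_zz t hcen b).2.2
  ker := fun x hx h1 h2 h3 => exists_zz p (ker_P t hcen hx h1 h2 h3)
  sq := fun x hx => sq_P t hcen hx
  comm := fun x hx y hy => comm_P t hcen hx hy

theorem chart_V {x : G} : x ∈ (chart t hcen h4).V ↔ ∃ r ∈ t.Q, ∃ b, bar n b = b ∧ x = r * zz p b := by
  constructor
  · rintro ⟨⟨y, e, he, r, hr, rfl⟩, h1, h2⟩
    replace h1 : ca t (p.u y * e * r) = 0 := h1
    replace h2 : cc t (p.u y * e * r) = 0 := h2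
    rw [ca_nf t hcen _ he hr] at h1
    rw [cc_nf t hcen _ he hr] at h2
    have h3 : p.u y * e ∈ p.Z := mul_mem (p.u_mem_Z h1) (t.c_ker e he h2)
    obtain ⟨b, hb, h5⟩ := exists_zz p h3
    refine ⟨r, hr, b, hb, ?_⟩
    rw [h5, Z_Q t (zz_mem p b) hr]
  · rintro ⟨r, hr, b, hb, rfl⟩
    obtain ⟨y, hy, h⟩ := zz_mem p b
    have e1 : r * zz p b = p.u y * 1 * r := by
      rw [← Z_Q t (zz_mem p b) hr, h, mul_one]
    rw [e1]
    refine ⟨nf_mem t y (one_mem _) hr, ?_, ?_⟩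
    · show ca t (p.u y * 1 * r) = 0
      rw [ca_nf t hcen _ (one_mem _) hr, hy]
    · show cc t (p.u y * 1 * r) = 0
      rw [cc_nf t hcen _ (one_mem _) hr, c_one t]

theorem chart_S {x : G} : x ∈ (chart t hcen h4).S ↔ x ∈ p.S := by
  constructor
  · rintro ⟨⟨y, e, he, r, hr, rfl⟩, h1, h2⟩
    replace h1 : cc t (p.u y * e * r) = 0 := h1
    replace h2 : cf t (p.u y * e * r) = 0 := h2
    rw [cc_nf t hcen _ he hr] at h1
    rw [cf_nf t hcen _ he hr] at h2
    rw [t.f_inj r hr h2, mul_one]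
    exact mul_mem (p.u_mem y) (p.Z_le_S (t.c_ker e he h1))
  · rintro ⟨y, rfl⟩
    obtain ⟨h1, h2, h3⟩ := coord_u t hcen y
    exact ⟨⟨y, 1, one_mem _, 1, one_mem _, by group⟩, h2, h3⟩

theorem chart_E {x : G} : x ∈ (chart t hcen h4).E ↔ x ∈ t.E := by
  constructor
  · rintro ⟨⟨y, e, he, r, hr, rfl⟩, h1, h2⟩
    replace h1 : ca t (p.u y * e * r) = 0 := h1
    replace h2 : cf t (p.u y * e * r) = 0 := h2
    rw [ca_nf t hcen _ he hr] at h1
    rw [cf_nf t hcen _ he hr] at h2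
    rw [t.f_inj r hr h2, mul_one]
    exact mul_mem (t.Z_le (p.u_mem_Z h1)) he
  · intro hx
    obtain ⟨h1, h2, h3⟩ := coord_e t hcen hx
    exact ⟨⟨1, x, hx, 1, one_mem _, by rw [map_one]; group⟩, h1, h3⟩

theorem chart_T1 {x : G} : x ∈ (chart t hcen h4).T1 ↔ ∃ e ∈ t.E, ∃ r ∈ t.Q, x = e * r := by
  constructor
  · rintro ⟨⟨y, e, he, r, hr, rfl⟩, h1⟩
    replace h1 : ca t (p.u y * e * r) = 0 := h1
    rw [ca_nf t hcen _ he hr] at h1
    exact ⟨p.u y * e, mul_mem (t.Z_le (p.u_mem_Z h1)) he, r, hr, rfl⟩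
  · rintro ⟨e, he, r, hr, rfl⟩
    have e1 : e * r = p.u 1 * e * r := by rw [map_one]; group
    rw [e1]
    refine ⟨nf_mem t 1 he hr, ?_⟩
    show ca t (p.u 1 * e * r) = 0
    rw [ca_nf t hcen _ he hr]
    rfl

/-- conjugation by the torus -/
theorem d_nf (l : Fˣ) (y : Heis σ) {e r : G} (hr : r ∈ t.Q) :
    p.d l * (p.u y * e * r) * (p.d l)⁻¹ = p.u (act l y) * (p.d l * e * (p.d l)⁻¹) * r := by
  have h1 : p.d l * r * (p.d l)⁻¹ = r := by
    rw [Q_comm t hr (p.d_mem l)]; group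
  calc p.d l * (p.u y * e * r) * (p.d l)⁻¹
      = (p.d l * p.u y * (p.d l)⁻¹) * (p.d l * e * (p.d l)⁻¹) * (p.d l * r * (p.d l)⁻¹) := by group
    _ = _ := by rw [p.d_u, h1]

include hcen in
theorem coord_d (l : Fˣ) {x : G} (hx : x ∈ PP t) :
    p.d l * x * (p.d l)⁻¹ ∈ PP t ∧ ca t (p.d l * x * (p.d l)⁻¹) = Cfsg.Agent.StdU3.PreDef.w n l * ca t x ∧
      cc t (p.d l * x * (p.d l)⁻¹) = N n (l : F) * cc t x ∧ cf t (p.d l * x * (p.d l)⁻¹) = cf t x := by
  obtain ⟨y, e, he, r, hr, rfl⟩ := hx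
  obtain ⟨h1, h2⟩ := t.d_E l e he
  rw [d_nf t l y hr]
  refine ⟨nf_mem t _ h1 hr, ?_, ?_, ?_⟩
  · rw [ca_nf t hcen _ h1 hr, ca_nf t hcen _ he hr, act_a, wt_eq p]
  · rw [cc_nf t hcen _ h1 hr, cc_nf t hcen _ he hr, h2]
  · rw [cf_nf t hcen _ h1 hr, cf_nf t hcen _ he hr]

/-- an element normalising `S` is semilinear on it -/
theorem exists_sl (p : Par K σ n) {x : G} (h : cj x p.S = p.S) : ∃ c₀ : F, c₀ ≠ 0 ∧ ∃ τ : F ≃+* F,
    (∀ y : Heis σ, ∃ y' : Heis σ, x * p.u y * x⁻¹ = p.u y' ∧ y'.a = c₀ * τ y.a) ∧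
    ∀ b, bar n b = b → x * zz p b * x⁻¹ = zz p (N n c₀ * τ b) := by
  have hW : PW p.u (⊥ : Subgroup G) :=
    ⟨p.u_inj, fun r hr y => by rw [mem_bot.mp hr, one_mul, mul_one],
      fun r hr => by rw [mem_bot.mp hr, one_mul], fun y hy => p.u_eq_one (mem_bot.mp hy)⟩
  have hN : Nm p.u (⊥ : Subgroup G) x := by
    intro y
    obtain ⟨y', hy'⟩ := of_cj_eq h (p.u_mem y)
    exact ⟨y', 1, one_mem _, by rw [one_mul, hy']⟩
  obtain ⟨c₀, hc, τ, h1, h2⟩ := Nm.exists_SL p.hS hW hN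
  refine ⟨c₀, hc, τ, ?_, ?_⟩
  · intro y
    obtain ⟨y', r, hr, h3, h5⟩ := h1 y
    rw [mem_bot.mp hr, one_mul] at h3
    exact ⟨y', h3, h5⟩
  · intro b hb
    obtain ⟨z', hz, h3, h5⟩ := h2 (zet b (sig_of_bar p hb)) rfl
    rw [zz_eq p (sig_of_bar p hb), h5, u_eq_zz p hz, h3, p.hS.eq, N_def, zet_b]

end ChartOf

/-! ### the data -/

section DatOf

variable [Finite G] {p : Par K σ n} (t : TOut0 p)
  (hcen : ∀ x ∈ K, x ∈ centralizer (K : Set G) → x = 1) (h4 : 4 ≤ Nat.card t.Q)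

/-- what else is needed about `N(V)` -/
structure NorV : Prop where
  nor : ∀ x, cj x (chart t hcen h4).V = (chart t hcen h4).V →
    cj x (chart t hcen h4).T1 = (chart t hcen h4).T1 ∧ cj x t.E = t.E ∧ cj x p.S = p.S
  ker : ∀ x, cj x (chart t hcen h4).V = (chart t hcen h4).V → (∃ k : ℕ, x ^ 2 ^ k = 1) →
    (∀ s, ∃ s' : Heis σ, s'.a = s.a ∧ x * p.u s * x⁻¹ = p.u s') →
      ∃ s, ∃ w ∈ (chart t hcen h4).T1, x = p.u s * w

/-- **`Dat`** -/
noncomputable def mkDat (N : NorV t hcen h4) : Dat G F n where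
  toChart := chart t hcen h4
  Q := t.Q
  Q_le := by
    intro r hr
    rw [chart_V]
    exact ⟨r, hr, 0, bar_zero n, by rw [zz_zero, mul_one]⟩
  Q_sup := by
    intro v hv
    rw [chart_V] at hv
    exact hv
  Q_z := by
    intro b hb h
    apply zz_inj p hb
    exact hcen _ (Z_K t (zz_mem p b)) (t.sylQ.le h)
  h := p.d
  h_P := by
    intro l
    apply cj_eq_of_le
    apply cj_le_of
    intro x hx
    exact (coord_d t hcen l hx).1
  h_a := fun l x hx => (coord_d t hcen l hx).2.1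
  h_c := fun l x hx => (coord_d t hcen l hx).2.2.1
  h_f := fun l x hx => (coord_d t hcen l hx).2.2.2
  h_z := fun l b hb => zz_act p l hb
  h_Q := fun l r hr => Q_comm t hr (p.d_mem l)
  h_T := by
    intro l hl x hx
    rw [chart_T1] at hx
    obtain ⟨e, he, r, hr, rfl⟩ := hx
    have h1 := t.d_comm l hl e he
    have h2 := Q_comm t hr (p.d_mem l)
    calc p.d l * (e * r) = (p.d l * e) * r := by group
      _ = e * (p.d l * r) := by rw [h1]; group
      _ = e * r * p.d l := by rw [h2]; group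
  memb := by
    intro g hg
    obtain ⟨c₀, hc, h⟩ := t.memb g (by
      intro r hr
      have h1 := hg (mem_cj_mul hr)
      rw [chart_V] at h1
      obtain ⟨r', hr', b, hb, h2⟩ := h1
      exact ⟨r', hr', _, zz_mem p b, h2⟩)
    refine ⟨c₀, hc, ?_⟩
    intro r hr
    show r * zz p (c₀ * cf t r) ∈ cj g t.Q
    rw [(coord_r t hcen hr).2.2]
    exact h r hr
  V_P := by
    intro x hx
    obtain ⟨h1, -, h3⟩ := N.nor x hx
    apply cj_eq_of_le
    apply cj_le_of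
    rintro _ ⟨y, e, he, r, hr, rfl⟩
    have h5 : x * (e * r) * x⁻¹ ∈ (chart t hcen h4).T1 := of_cj_eq h1 ((chart_T1 t hcen h4).mpr ⟨e, he, r, hr, rfl⟩)
    have h6 := of_cj_eq h3 (p.u_mem y)
    have e1 : x * (p.u y * e * r) * x⁻¹ = (x * p.u y * x⁻¹) * (x * (e * r) * x⁻¹) := by group
    rw [e1]
    refine mul_mem ?_ h5.1
    obtain ⟨y', hy'⟩ := h6
    rw [← hy']
    exact ⟨y', 1, one_mem _, 1, one_mem _, by group⟩
  V_S := by
    intro x hx
    have h3 := (N.nor x hx).2.2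
    have e1 : (chart t hcen h4).S = p.S := by
      ext y
      exact chart_S t hcen h4
    rw [e1, h3]
  V_E := by
    intro x hx
    have h3 := (N.nor x hx).2.1
    have e1 : (chart t hcen h4).E = t.E := by
      ext y
      exact chart_E t hcen h4
    rw [e1, h3]
  ker_V := by
    intro x hx h2 h
    have h3 := (N.nor x hx).2.2
    obtain ⟨s, w, hw, rfl⟩ := N.ker x hx h2 (by
      intro s
      obtain ⟨s', hs'⟩ := of_cj_eq h3 (p.u_mem s)
      refine ⟨s', ?_, hs'.symm⟩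
      have h5 := h (p.u s) ((chart_S t hcen h4).mpr (p.u_mem s))
      rw [← hs'] at h5
      replace h5 : ca t (p.u s') = ca t (p.u s) := h5
      rw [(coord_u t hcen s').1, (coord_u t hcen s).1] at h5
      exact h5)
    refine mul_mem ?_ hw.1
    exact ⟨s, 1, one_mem _, 1, one_mem _, by group⟩
  sl := by
    intro x hx
    have e1 : (chart t hcen h4).S = p.S := by
      ext y
      exact chart_S t hcen h4
    rw [e1] at hx
    obtain ⟨c₀, hc, τ, h1, h2⟩ := exists_sl p hx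
    refine ⟨c₀, hc, τ, ?_, h2⟩
    intro s hs
    rw [chart_S] at hs
    obtain ⟨y, rfl⟩ := hs
    obtain ⟨y', h3, h5⟩ := h1 y
    rw [h3]
    show ca t (p.u y') = c₀ * τ (ca t (p.u y))
    rw [(coord_u t hcen y').1, (coord_u t hcen y).1, h5]

end DatOf

/-! ### from piece T -/

section FromT

variable {p : Par K σ n} {Q V T₁ E₁ : Subgroup G} {f ch : G → F} {kap : F}

theorem zz_eq_zz (b : F) : TBase.zz p.u b = zz p b := rfl

/-- the normalised output of piece T -/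
theorem exists_tout (T : TBase.TD p.u p.d K (centralizer (K : Set G)) (normalizer (K : Set G)) Q n)
    (O : TOut.TOut p.u p.d Q V T₁ E₁ f ch kap) : ∃ t : TOut0 p, t.Q = Q ∧ t.E = E₁ := by
  obtain ⟨r0, hr0, hne⟩ := T.ne
  have hφ : f r0 ≠ 0 := O.f_ne r0 hr0 hne
  have hφσ : σ (f r0) = f r0 := O.f_fix r0 hr0
  have hbar : ∀ {b : F}, bar n b = b → σ b = b := fun hb => sig_of_bar p hb
  have hsig : ∀ {b : F}, σ b = b → bar n b = b := fun hb => bar_of_sig p hb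
  have hinv : σ (f r0)⁻¹ = (f r0)⁻¹ := by rw [map_inv₀, hφσ]
  have hZT : ∀ z ∈ p.Z, z ∈ V := by
    rintro _ ⟨y, hy, rfl⟩
    rw [O.memV]
    exact ⟨1, one_mem _, y.b, b_fixed_of_a_eq_zero hy, by rw [one_mul, TBase.u_of_a hy]⟩
  refine ⟨{ Q := Q, E := E₁, c := fun x => ch x * f r0, f := fun x => f x * (f r0)⁻¹, kap := kap * (f r0)⁻¹
            sylQ := T.syl, Q_sq := T.sq, Z_le := ?_, E_S := ?_, E_comm := O.E_comm, c_mul := ?_, c_fix := ?_
            c_surj := ?_, c_ker := ?_, c_Z := ?_, f_mul := ?_, f_fix := ?_, f_inj := ?_, f_one := ?_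
            kap_fix := ?_, conj := ?_, sq := ?_, d_E := ?_, d_comm := ?_, memb := ?_ }, rfl, rfl⟩
  · rintro _ ⟨y, hy, rfl⟩
    rw [TBase.u_of_a hy]
    exact O.Z_E _ (b_fixed_of_a_eq_zero hy)
  · rintro e he _ ⟨y, rfl⟩
    exact O.T_u e (O.E_T he) y
  · intro e he e' he'
    show ch (e * e') * f r0 = ch e * f r0 + ch e' * f r0
    rw [O.ch_mul e (O.E_T he) e' (O.E_T he')]; ring
  · intro e he
    apply hsig
    show σ (ch e * f r0) = ch e * f r0
    rw [map_mul, hφσ, O.ch_fix e (O.E_T he)]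
  · intro b hb
    obtain ⟨e, he, h⟩ := O.ch_surj (b * (f r0)⁻¹) (by rw [map_mul, hinv, hbar hb])
    refine ⟨e, he, ?_⟩
    show ch e * f r0 = b
    rw [h, inv_mul_cancel_right₀ hφ]
  · intro e he h
    have h1 : ch e * f r0 = 0 := h
    obtain ⟨b, hb, h2⟩ := O.ch_ker e he ((mul_eq_zero.mp h1).resolve_right hφ)
    rw [h2]
    exact zz_mem p b
  · intro z hz
    show ch z * f r0 = 0
    rw [O.ch_V z (hZT z hz), zero_mul]
  · intro r hr r' hr'
    show f (r * r') * (f r0)⁻¹ = f r * (f r0)⁻¹ + f r' * (f r0)⁻¹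
    rw [O.f_mul r hr r' hr']; ring
  · intro r hr
    apply hsig
    show σ (f r * (f r0)⁻¹) = f r * (f r0)⁻¹
    rw [map_mul, hinv, O.f_fix r hr]
  · intro r hr h
    have h1 : f r * (f r0)⁻¹ = 0 := h
    by_contra hne'
    exact O.f_ne r hr hne' ((mul_eq_zero.mp h1).resolve_right (inv_ne_zero hφ))
  · exact ⟨r0, hr0, mul_inv_cancel₀ hφ⟩
  · apply hsig
    rw [map_mul, hinv, O.kap_fix]
  · intro e he r hr
    show e * r * e⁻¹ = r * zz p (ch e * f r0 * (f r * (f r0)⁻¹))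
    have e1 : ch e * f r0 * (f r * (f r0)⁻¹) = ch e * f r := by
      field_simp
    rw [e1]
    exact O.act e (O.E_T he) r hr
  · intro e he
    show e * e = zz p (kap * (f r0)⁻¹ * (ch e * f r0))
    have e1 : kap * (f r0)⁻¹ * (ch e * f r0) = kap * ch e := by
      field_simp
    rw [e1]
    exact O.sq e he
  · intro l e he
    obtain ⟨h1, h2⟩ := O.d_E l e he
    refine ⟨h1, ?_⟩
    show ch (p.d l * e * (p.d l)⁻¹) * f r0 = N n (l : F) * (ch e * f r0)
    rw [h2, nm_eq p]; ring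
  · intro l hl e he
    exact O.H₀ l (by rw [nm_eq p, hl]) e (O.E_T he)
  · intro g hg
    obtain ⟨c, hc, h⟩ := O.memb g (by
      apply cj_le_of
      intro r hr
      obtain ⟨r', hr', z, hz, h1⟩ := hg r hr
      obtain ⟨b, hb, h2⟩ := exists_zz p hz
      rw [O.memV]
      exact ⟨r', hr', b, hbar hb, by rw [h1, h2]; rfl⟩)
    refine ⟨c * f r0, ?_, ?_⟩
    · apply hsig
      rw [map_mul, hc, hφσ]
    · intro r hr
      have e1 : c * f r0 * (f r * (f r0)⁻¹) = c * f r := by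
        field_simp
      show r * zz p (c * f r0 * (f r * (f r0)⁻¹)) ∈ cj g Q
      rw [e1]
      exact h r hr

/-- **piece U**: `Dat` from the output of piece T -/
theorem exists_dat [Finite G]
    (T : TBase.TD p.u p.d K (centralizer (K : Set G)) (normalizer (K : Set G)) Q n)
    (O : TOut.TOut p.u p.d Q V T₁ E₁ f ch kap) (h4 : 4 ≤ Nat.card Q) : Nonempty (Dat G F n) := by
  obtain ⟨t, hQ, hE⟩ := exists_tout T O
  subst hQ hE
  have hV : (chart t T.KC h4).V = V := by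
    ext x
    rw [chart_V, O.memV]
    constructor
    · rintro ⟨r, hr, b, hb, h⟩
      exact ⟨r, hr, b, sig_of_bar p hb, h⟩
    · rintro ⟨r, hr, b, hb, h⟩
      exact ⟨r, hr, b, bar_of_sig p hb, h⟩
  have hQV : ∀ r ∈ t.Q, r ∈ V := by
    intro r hr
    rw [O.memV]
    exact ⟨r, hr, 0, map_zero σ, by rw [TBase.zz_zero, mul_one]⟩
  have hT : (chart t T.KC h4).T1 = T₁ := by
    ext x
    rw [chart_T1]
    constructor
    · rintro ⟨e, he, r, hr, rfl⟩
      exact mul_mem (O.E_T he) (O.V_T (hQV r hr))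
    · intro hx
      exact O.T_dec x hx
  refine ⟨mkDat t T.KC h4 ⟨?_, ?_⟩⟩
  · intro x hx
    rw [hV] at hx
    rw [hT]
    exact O.norV x hx
  · intro x hx h2 h
    rw [hV] at hx
    rw [hT]
    exact O.kerV x hx h2 h

/-- `|Q| ≥ 4` -/
theorem four_le_Q [Finite G] (X : Uni K σ n) {Q : Subgroup G} (hQ : IsSyl Q (centralizer (K : Set G))) :
    4 ≤ Nat.card Q := by
  obtain ⟨r, hr, s, hs, hr2, hs2, hne, hcomm⟩ := X.four
  have h1 := StepA.two_pair (r := r) (s := s) ⟨1, by rw [pow_one, ← hr2, pow_orderOf_eq_one]⟩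
    ⟨1, by rw [pow_one, ← hs2, pow_orderOf_eq_one]⟩ hcomm
  obtain ⟨m, -, hm⟩ := hQ.conj_into h1 (sup_le (by rwa [zpowers_le]) (by rwa [zpowers_le]))
  refine four_le_card hQ.two (hm r ((le_sup_left : zpowers r ≤ _) (mem_zpowers r)))
    (hm s ((le_sup_right : zpowers s ≤ _) (mem_zpowers s))) ?_ ?_ ?_
  · rw [Basic.orderOf_conj]; exact hr2
  · rw [Basic.orderOf_conj]; exact hs2
  · intro h
    exact hne (mul_left_cancel (mul_right_cancel h))

end FromT

end Cfsg.Agent.OddHalf.D4.U3.Mk
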