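import Cfsg.Agent.OddHalf.D4.U3.ParDefs

/-!
# ODD, D4, row `K = U₃(q)`: normalised form of the output of piece T (helper136's `TOut.TOut`)

`TOut p`: `Q` a Sylow 2-subgroup of `C(K)`, `E = E₁`, `T₁ = E Q`, the coordinates `c : E → F_q`, `f : Q → F_q` with
`1 ∈ f(Q)`. `Mk.lean` makes a `Dat` from it (and from `norV`, `kerV` of `TOut.TOut`).
-/

set_option autoImplicit false
set_option linter.dupNamespace false

namespace Cfsg.Agent.OddHalf.D4.U3.MkDefs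

open Subgroup Cfsg.Agent.LieRecognition Cfsg.Agent.LieRecognition.HermHeis Cfsg.Agent.StdU3.URel
  Cfsg.Agent.StdU3.Field Cfsg.Agent.StdU3.Semi Cfsg.Agent.OddHalf.D4.CommConj Cfsg.Agent.OddHalf.D4.Basic
  Cfsg.Agent.OddHalf.D4.U3.ParDefs

universe u v

variable {G : Type u} [Group G] {F : Type v} [Field F] [Fintype F] [CharP F 2] {σ : F →+* F}
  [hσ : Fact (∀ x, σ (σ x) = x)] {n : ℕ} {K : Subgroup G}

open Classical in
/-- the element of `Z` with coordinate `b` (`σ b = b`) -/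
noncomputable def zz (p : Par K σ n) (b : F) : G := if h : σ b = b then p.u (zet b h) else 1

/-- the output of piece T (`T₁ = E Q`), coordinates -/
structure TOut0 (p : Par K σ n) where
  Q : Subgroup G
  E : Subgroup G
  c : G → F
  f : G → F
  kap : F
  sylQ : IsSyl Q (centralizer (K : Set G))
  Q_sq : ∀ r ∈ Q, r * r = 1
  Z_le : p.Z ≤ E
  E_S : ∀ e ∈ E, ∀ s ∈ p.S, e * s = s * e
  E_comm : ∀ e ∈ E, ∀ e' ∈ E, e * e' = e' * e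
  c_mul : ∀ e ∈ E, ∀ e' ∈ E, c (e * e') = c e + c e'
  c_fix : ∀ e ∈ E, bar n (c e) = c e
  c_surj : ∀ b, bar n b = b → ∃ e ∈ E, c e = b
  c_ker : ∀ e ∈ E, c e = 0 → e ∈ p.Z
  c_Z : ∀ z ∈ p.Z, c z = 0
  f_mul : ∀ r ∈ Q, ∀ r' ∈ Q, f (r * r') = f r + f r'
  f_fix : ∀ r ∈ Q, bar n (f r) = f r
  f_inj : ∀ r ∈ Q, f r = 0 → r = 1
  f_one : ∃ r ∈ Q, f r = 1
  kap_fix : bar n kap = kap
  /-- the action of `E` on `Q` -/
  conj : ∀ e ∈ E, ∀ r ∈ Q, e * r * e⁻¹ = r * zz p (c e * f r)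
  sq : ∀ e ∈ E, e * e = zz p (kap * c e)
  /-- the torus on `E` -/
  d_E : ∀ l : Fˣ, ∀ e ∈ E, p.d l * e * (p.d l)⁻¹ ∈ E ∧ c (p.d l * e * (p.d l)⁻¹) = N n (l : F) * c e
  d_comm : ∀ l : Fˣ, N n (l : F) = 1 → ∀ e ∈ E, p.d l * e = e * p.d l
  /-- a conjugate of `Q` in `V = Q Z` is a graph `{r * z (c₀ f r)}` -/
  memb : ∀ g : G, (∀ r ∈ Q, ∃ r' ∈ Q, ∃ z ∈ p.Z, g * r * g⁻¹ = r' * z) →
    ∃ c₀ : F, bar n c₀ = c₀ ∧ ∀ r ∈ Q, r * zz p (c₀ * f r) ∈ cj g Q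

/-- the output of piece T -/
structure TOut (p : Par K σ n) extends TOut0 p where
  /-- `T₁ = E Q` is the set of all 2-elements `y` of `C(S)` with `[y, Q] ≤ Z` -/
  mem : ∀ y : G, (∃ k : ℕ, y ^ 2 ^ k = 1) → (∀ s ∈ p.S, y * s = s * y) →
    (∀ r ∈ Q, ∃ z ∈ p.Z, y * r * y⁻¹ = r * z) → ∃ e ∈ E, ∃ r ∈ Q, y = e * r

end Cfsg.Agent.OddHalf.D4.U3.MkDefs
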