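import Cfsg.Agent.OddHalf.D4.U3.Defs
import Cfsg.Agent.OddHalf.D4.U3.MkDefs
import Cfsg.Agent.OddHalf.D4.U3.ParFacts

/-!
# ODD, D4, row `K = U₃(q)`: the chart of `P = S E Q`

Normal forms `u y * e * r` and coordinates.
-/

set_option autoImplicit false
set_option linter.dupNamespace false
set_option linter.unusedSectionVars false

namespace Cfsg.Agent.OddHalf.D4.U3.Mk

open Subgroup Cfsg.Agent.LieRecognition Cfsg.Agent.LieRecognition.HermHeis Cfsg.Agent.StdU3.URel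
  Cfsg.Agent.StdU3.Field Cfsg.Agent.StdU3.Semi Cfsg.Agent.OddHalf.D4.CommConj Cfsg.Agent.OddHalf.D4.Basic
  Cfsg.Agent.OddHalf.D4.U3.ParDefs Cfsg.Agent.OddHalf.D4.U3.MkDefs Cfsg.Agent.OddHalf.D4.U3.Defs

universe u v

variable {G : Type u} [Group G] {F : Type v} [Field F] [Fintype F] [CharP F 2] {σ : F →+* F}
  [hσ : Fact (∀ x, σ (σ x) = x)] {n : ℕ} {K : Subgroup G}

/-! ### the elements `zz b` -/

section ZZ

variable (p : Par K σ n)

include p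

theorem sig_of_bar {b : F} (hb : bar n b = b) : σ b = b := by rw [p.hS.eq, hb]

theorem bar_of_sig {b : F} (hb : σ b = b) : bar n b = b := by rw [← p.hS.eq, hb]

theorem zz_eq {b : F} (hb : σ b = b) : zz p b = p.u (zet b hb) := by
  unfold zz
  rw [dif_pos hb]

theorem zz_mem (b : F) : zz p b ∈ p.Z := by
  unfold zz
  split_ifs with h
  · exact p.u_mem_Z rfl
  · exact one_mem _

theorem zz_add {b b' : F} (hb : bar n b = b) (hb' : bar n b' = b') : zz p (b + b') = zz p b * zz p b' := by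
  have h1 := sig_of_bar p hb
  have h2 := sig_of_bar p hb'
  have h3 : σ (b + b') = b + b' := by rw [map_add, h1, h2]
  rw [zz_eq p h1, zz_eq p h2, zz_eq p h3, ← map_mul]
  congr 1
  ext
  · simp
  · simp

theorem zz_zero : zz p (0 : F) = 1 := by
  rw [zz_eq p (map_zero σ), ← map_one p.u]
  congr 1

theorem zz_inj {b : F} (hb : bar n b = b) (h : zz p b = 1) : b = 0 := by
  rw [zz_eq p (sig_of_bar p hb)] at h
  have h1 := p.u_eq_one h
  exact congrArg Heis.b h1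

theorem zz_inj' {b b' : F} (hb : bar n b = b) (hb' : bar n b' = b') (h : zz p b = zz p b') : b = b' := by
  rw [zz_eq p (sig_of_bar p hb), zz_eq p (sig_of_bar p hb')] at h
  exact congrArg Heis.b (p.u_inj h)

theorem exists_zz {z : G} (hz : z ∈ p.Z) : ∃ b, bar n b = b ∧ z = zz p b := by
  obtain ⟨y, hy, rfl⟩ := hz
  have h1 := b_fixed_of_a_eq_zero hy
  refine ⟨y.b, bar_of_sig p h1, ?_⟩
  rw [zz_eq p h1]
  congr 1
  exact ext_z hy rfl rfl

/-- every `u ζ`, `ζ.a = 0`, is `zz ζ.b` -/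
theorem u_eq_zz {y : Heis σ} (hy : y.a = 0) : p.u y = zz p y.b := by
  rw [zz_eq p (b_fixed_of_a_eq_zero hy)]
  congr 1
  exact ext_z hy rfl rfl

theorem zz_act (l : Fˣ) {b : F} (hb : bar n b = b) :
    p.d l * zz p b * (p.d l)⁻¹ = zz p (N n (l : F) * b) := by
  have h1 := sig_of_bar p hb
  rw [zz_eq p h1, p.d_u]
  rw [u_eq_zz p (y := act l (zet b h1)) (by rw [act_a, zet_a, mul_zero])]
  congr 1
  rw [act_b, zet_b]
  unfold nm
  rw [p.hS.eq, N_def]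

/-- the squares in `S` -/
theorem u_sq (x : Heis σ) : p.u x * p.u x = zz p (N n x.a) := by
  rw [← map_mul, u_eq_zz p (sq_a x), sq_b, p.hS.eq, N_def]

/-- the commutators in `S` -/
theorem u_comm (x y : Heis σ) : p.u x * p.u y = zz p (Tr n (x.a * bar n y.a)) * (p.u y * p.u x) := by
  have hf : σ (Tr n (x.a * bar n y.a)) = Tr n (x.a * bar n y.a) :=
    sig_of_bar p (fixed_Tr p.hS.hq _)
  rw [zz_eq p hf, ← map_mul, ← map_mul, ← map_mul]
  congr 1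
  ext
  · simp [add_comm]
  · simp only [mul_b, zet_b, zet_a, zero_mul, add_zero]
    rw [Tr_def, bar_mul, bar_bar p.hS.hq, p.hS.eq, p.hS.eq]
    have := CharTwo.add_self_eq_zero (y.a * bar n x.a)
    linear_combination -this

theorem wt_eq (l : Fˣ) : wt σ l = Cfsg.Agent.StdU3.PreDef.w n l := by
  unfold wt Cfsg.Agent.StdU3.PreDef.w
  rw [p.hS.eq]

theorem nm_eq (l : Fˣ) : nm σ l = N n (l : F) := by
  unfold nm
  rw [p.hS.eq, N_def]

end ZZ

/-! ### normal forms -/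

section NF

variable {p : Par K σ n} (t : TOut0 p)

include t

theorem Q_comm {r k : G} (hr : r ∈ t.Q) (hk : k ∈ K) : k * r = r * k :=
  mem_centralizer_iff.mp (t.sylQ.le hr) k hk

theorem Z_K {z : G} (hz : z ∈ p.Z) : z ∈ K := p.S_le (p.Z_le_S hz)

theorem Q_Q {r r' : G} (hr : r ∈ t.Q) (hr' : r' ∈ t.Q) : r * r' = r' * r := by
  have h1 := t.Q_sq _ (mul_mem hr hr')
  have h2 := t.Q_sq _ hr
  have h3 := t.Q_sq _ hr'
  have e1 : r⁻¹ = r := inv_eq_of_mul_eq_one_left h2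
  have e2 : r'⁻¹ = r' := inv_eq_of_mul_eq_one_left h3
  have e3 : (r * r')⁻¹ = r * r' := inv_eq_of_mul_eq_one_left h1
  rw [mul_inv_rev, e1, e2] at e3
  exact e3.symm

theorem Z_E {z e : G} (hz : z ∈ p.Z) (he : e ∈ t.E) : z * e = e * z := t.E_comm _ (t.Z_le hz) _ he

theorem Z_Q {z r : G} (hz : z ∈ p.Z) (hr : r ∈ t.Q) : z * r = r * z := Q_comm t hr (Z_K t hz)

theorem Z_inv {z : G} (hz : z ∈ p.Z) : z⁻¹ = z := inv_eq_of_mul_eq_one_left (p.Z_sq hz)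

theorem fix_cf {e r : G} (he : e ∈ t.E) (hr : r ∈ t.Q) : bar n (t.c e * t.f r) = t.c e * t.f r :=
  fixed_mul (t.c_fix e he) (t.f_fix r hr)

/-- `r e = e r z(c e f r)` -/
theorem swap {e r : G} (he : e ∈ t.E) (hr : r ∈ t.Q) : r * e = zz p (t.c e * t.f r) * (e * r) := by
  have h1 := t.conj e he r hr
  have hz := zz_mem p (t.c e * t.f r)
  have h2 : e * r = r * zz p (t.c e * t.f r) * e := by rw [← h1]; group
  have h3 : zz p (t.c e * t.f r) * (e * r) = (zz p (t.c e * t.f r) * r) * zz p (t.c e * t.f r) * e := by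
    rw [h2]; group
  rw [h3, Z_Q t hz hr, mul_assoc r, p.Z_sq hz, mul_one]

/-- products of normal forms -/
theorem nf_mul {y y' : Heis σ} {e e' r r' : G} (he : e ∈ t.E) (he' : e' ∈ t.E) (hr : r ∈ t.Q) :
    (p.u y * e * r) * (p.u y' * e' * r') =
      zz p (t.c e' * t.f r) * (p.u (y * y') * (e * e') * (r * r')) := by
  have hz := zz_mem p (t.c e' * t.f r)
  have h1 : r * p.u y' = p.u y' * r := (Q_comm t hr (p.u_mem_K y')).symm
  have h2 : e * p.u y' = p.u y' * e := t.E_S e he _ (p.u_mem y')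
  have h3 := swap t he' hr
  have h4 : zz p (t.c e' * t.f r) * p.u y = p.u y * zz p (t.c e' * t.f r) := p.Z_comm hz (p.u_mem y)
  have h4' : zz p (t.c e' * t.f r) * p.u y' = p.u y' * zz p (t.c e' * t.f r) := p.Z_comm hz (p.u_mem y')
  have h5 : zz p (t.c e' * t.f r) * e = e * zz p (t.c e' * t.f r) := Z_E t hz he
  calc (p.u y * e * r) * (p.u y' * e' * r') = p.u y * e * (r * p.u y') * e' * r' := by group
    _ = p.u y * (e * p.u y') * (r * e') * r' := by rw [h1]; group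
    _ = p.u y * p.u y' * (e * zz p (t.c e' * t.f r)) * (e' * r) * r' := by rw [h2, h3]; group
    _ = p.u y * (p.u y' * zz p (t.c e' * t.f r)) * e * (e' * r) * r' := by rw [← h5]; group
    _ = (p.u y * zz p (t.c e' * t.f r)) * p.u y' * e * (e' * r) * r' := by rw [← h4']; group
    _ = zz p (t.c e' * t.f r) * (p.u (y * y') * (e * e') * (r * r')) := by
      rw [← h4, map_mul]; group

/-- `E ∩ Q Z = Z` -/
theorem E_QZ {e r z : G} (he : e ∈ t.E) (hr : r ∈ t.Q) (hz : z ∈ p.Z) (h : e = r * z) : e ∈ p.Z := by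
  apply t.c_ker e he
  obtain ⟨r1, hr1, h1⟩ := t.f_one
  have h2 := t.conj e he r1 hr1
  rw [h1, mul_one] at h2
  have h3 : e * r1 * e⁻¹ = r1 := by
    rw [h]
    have h4 : z * r1 = r1 * z := Z_Q t hz hr1
    have h5 := Q_Q t hr hr1
    calc r * z * r1 * (r * z)⁻¹ = r * (z * r1) * z⁻¹ * r⁻¹ := by group
      _ = (r * r1) * r⁻¹ := by rw [h4]; group
      _ = r1 := by rw [h5]; group
  rw [h3] at h2
  exact zz_inj p (t.c_fix e he) (left_eq_mul.mp h2)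

/-- uniqueness of normal forms -/
theorem nf_inj (hcen : ∀ x ∈ K, x ∈ centralizer (K : Set G) → x = 1) {y y' : Heis σ} {e e' r r' : G}
    (he : e ∈ t.E) (he' : e' ∈ t.E) (hr : r ∈ t.Q) (hr' : r' ∈ t.Q)
    (h : p.u y * e * r = p.u y' * e' * r') : y.a = y'.a ∧ t.c e = t.c e' ∧ r = r' := by
  have hq : r' * r⁻¹ ∈ t.Q := mul_mem hr' (inv_mem hr)
  have h1 : p.u (y'⁻¹ * y) * (e'⁻¹ * e) = r' * r⁻¹ := by
    have e1 : e'⁻¹ * p.u (y'⁻¹ * y) = p.u (y'⁻¹ * y) * e'⁻¹ := t.E_S _ (inv_mem he') _ (p.u_mem _)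
    calc p.u (y'⁻¹ * y) * (e'⁻¹ * e) = (p.u (y'⁻¹ * y) * e'⁻¹) * e := by group
      _ = e'⁻¹ * p.u (y'⁻¹ * y) * e := by rw [e1]
      _ = e'⁻¹ * (p.u y')⁻¹ * (p.u y * e * r) * r⁻¹ := by rw [map_mul, map_inv]; group
      _ = r' * r⁻¹ := by rw [h]; group
  set s := p.u (y'⁻¹ * y) with hs
  set e2 := e'⁻¹ * e with he2
  have he2m : e2 ∈ t.E := mul_mem (inv_mem he') he
  -- `s` is in `Z`
  have h2 : s ∈ p.Z := by
    apply p.mem_Z_of_comm (p.u_mem _)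
    intro x hx
    have h3 : s = r' * r⁻¹ * e2⁻¹ := by rw [← h1]; group
    have h4 : e2⁻¹ * x = x * e2⁻¹ := t.E_S _ (inv_mem he2m) x hx
    have h5 : (r' * r⁻¹) * x = x * (r' * r⁻¹) := (Q_comm t hq (p.S_le hx)).symm
    calc s * x = (r' * r⁻¹) * (e2⁻¹ * x) := by rw [h3]; group
      _ = ((r' * r⁻¹) * x) * e2⁻¹ := by rw [h4]; group
      _ = x * s := by rw [h5, h3]; group
  have h3 : e2 ∈ p.Z := by
    apply E_QZ t he2m hq (inv_mem h2)
    have h5 := Q_comm t hq (Z_K t (inv_mem h2))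
    calc e2 = s⁻¹ * (s * e2) := by group
      _ = (r' * r⁻¹) * s⁻¹ := by rw [h1, h5]
  have h4 : r' * r⁻¹ = 1 := by
    apply hcen _ _ (t.sylQ.le hq)
    rw [← h1]
    exact mul_mem (Z_K t h2) (Z_K t h3)
  refine ⟨?_, ?_, (mul_inv_eq_one.mp h4).symm⟩
  · have h5 := p.u_mem_Z_iff.mp h2
    rw [mul_a, inv_a, CharTwo.add_eq_zero] at h5
    exact h5.symm
  · have h5 := t.c_Z _ h3
    rw [he2, t.c_mul _ (inv_mem he') _ he] at h5
    have h6 := t.c_mul _ (inv_mem he') _ he'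
    rw [inv_mul_cancel, t.c_Z 1 (one_mem _)] at h6
    have h7 : t.c e'⁻¹ = t.c e' := (CharTwo.add_eq_zero.mp h6.symm)
    rw [h7, CharTwo.add_eq_zero] at h5
    exact h5.symm

/-- `P = S E Q` -/
def PP : Subgroup G where
  carrier := {x | ∃ y : Heis σ, ∃ e ∈ t.E, ∃ r ∈ t.Q, x = p.u y * e * r}
  one_mem' := ⟨1, 1, one_mem _, 1, one_mem _, by rw [map_one, mul_one, mul_one]⟩
  mul_mem' := by
    rintro x x' ⟨y, e, he, r, hr, rfl⟩ ⟨y', e', he', r', hr', rfl⟩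
    rw [nf_mul t he he' hr]
    obtain ⟨z, hz0, hz⟩ := zz_mem p (t.c e' * t.f r)
    refine ⟨z * (y * y'), e * e', mul_mem he he', r * r', mul_mem hr hr', ?_⟩
    rw [hz, map_mul p.u z]; group
  inv_mem' := by
    rintro x ⟨y, e, he, r, hr, rfl⟩
    -- `(u e r)⁻¹ = r⁻¹ e⁻¹ u⁻¹ = z u⁻¹ e⁻¹ r⁻¹`
    obtain ⟨z, hz0, hz⟩ := zz_mem p (t.c e⁻¹ * t.f r⁻¹)
    refine ⟨z * y⁻¹, e⁻¹, inv_mem he, r⁻¹, inv_mem hr, ?_⟩
    have h1 := swap t (inv_mem he) (inv_mem hr)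
    have h2 : e⁻¹ * p.u y⁻¹ = p.u y⁻¹ * e⁻¹ := t.E_S _ (inv_mem he) _ (p.u_mem _)
    have h3 : r⁻¹ * p.u y⁻¹ = p.u y⁻¹ * r⁻¹ := (Q_comm t (inv_mem hr) (p.u_mem_K _)).symm
    calc (p.u y * e * r)⁻¹ = (r⁻¹ * e⁻¹) * p.u y⁻¹ := by rw [map_inv]; group
      _ = zz p (t.c e⁻¹ * t.f r⁻¹) * e⁻¹ * (r⁻¹ * p.u y⁻¹) := by rw [h1]; group
      _ = zz p (t.c e⁻¹ * t.f r⁻¹) * (e⁻¹ * p.u y⁻¹) * r⁻¹ := by rw [h3]; group
      _ = p.u (z * y⁻¹) * e⁻¹ * r⁻¹ := by rw [h2, hz, map_mul]; group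

theorem mem_PP {x : G} : x ∈ PP t ↔ ∃ y : Heis σ, ∃ e ∈ t.E, ∃ r ∈ t.Q, x = p.u y * e * r := Iff.rfl

theorem nf_mem (y : Heis σ) {e r : G} (he : e ∈ t.E) (hr : r ∈ t.Q) : p.u y * e * r ∈ PP t :=
  ⟨y, e, he, r, hr, rfl⟩

open Classical in
/-- the coordinate `a` -/
noncomputable def ca (x : G) : F :=
  if h : ∃ α : F, ∃ y : Heis σ, ∃ e ∈ t.E, ∃ r ∈ t.Q, x = p.u y * e * r ∧ y.a = α then h.choose else 0

open Classical in
/-- the coordinate `c` -/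
noncomputable def cc (x : G) : F :=
  if h : ∃ γ : F, ∃ y : Heis σ, ∃ e ∈ t.E, ∃ r ∈ t.Q, x = p.u y * e * r ∧ t.c e = γ then h.choose else 0

open Classical in
/-- the coordinate `f` -/
noncomputable def cf (x : G) : F :=
  if h : ∃ φ : F, ∃ y : Heis σ, ∃ e ∈ t.E, ∃ r ∈ t.Q, x = p.u y * e * r ∧ t.f r = φ then h.choose else 0

variable (hcen : ∀ x ∈ K, x ∈ centralizer (K : Set G) → x = 1)

include hcen

theorem ca_nf (y : Heis σ) {e r : G} (he : e ∈ t.E) (hr : r ∈ t.Q) : ca t (p.u y * e * r) = y.a := by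
  have h : ∃ α : F, ∃ y' : Heis σ, ∃ e' ∈ t.E, ∃ r' ∈ t.Q, p.u y * e * r = p.u y' * e' * r' ∧ y'.a = α :=
    ⟨y.a, y, e, he, r, hr, rfl, rfl⟩
  unfold ca
  rw [dif_pos h]
  obtain ⟨y', e', he', r', hr', h1, h2⟩ := h.choose_spec
  rw [← h2]
  exact (nf_inj t hcen he he' hr hr' h1).1.symm

theorem cc_nf (y : Heis σ) {e r : G} (he : e ∈ t.E) (hr : r ∈ t.Q) : cc t (p.u y * e * r) = t.c e := by
  have h : ∃ γ : F, ∃ y' : Heis σ, ∃ e' ∈ t.E, ∃ r' ∈ t.Q, p.u y * e * r = p.u y' * e' * r' ∧ t.c e' = γ :=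
    ⟨t.c e, y, e, he, r, hr, rfl, rfl⟩
  unfold cc
  rw [dif_pos h]
  obtain ⟨y', e', he', r', hr', h1, h2⟩ := h.choose_spec
  rw [← h2]
  exact (nf_inj t hcen he he' hr hr' h1).2.1.symm

theorem cf_nf (y : Heis σ) {e r : G} (he : e ∈ t.E) (hr : r ∈ t.Q) : cf t (p.u y * e * r) = t.f r := by
  have h : ∃ φ : F, ∃ y' : Heis σ, ∃ e' ∈ t.E, ∃ r' ∈ t.Q, p.u y * e * r = p.u y' * e' * r' ∧ t.f r' = φ :=
    ⟨t.f r, y, e, he, r, hr, rfl, rfl⟩
  unfold cf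
  rw [dif_pos h]
  obtain ⟨y', e', he', r', hr', h1, h2⟩ := h.choose_spec
  rw [← h2, (nf_inj t hcen he he' hr hr' h1).2.2]

omit hcen in
theorem f_zero : t.f 1 = 0 := by
  have h := t.f_mul 1 (one_mem _) 1 (one_mem _)
  rw [mul_one] at h
  exact left_eq_add.mp h

omit hcen in
theorem c_one : t.c 1 = 0 := t.c_Z 1 (one_mem _)

/-- coordinates of an element `u y` -/
theorem coord_u (y : Heis σ) : ca t (p.u y) = y.a ∧ cc t (p.u y) = 0 ∧ cf t (p.u y) = 0 := by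
  have e : p.u y = p.u y * 1 * 1 := by group
  rw [e]
  exact ⟨ca_nf t hcen y (one_mem _) (one_mem _), by rw [cc_nf t hcen y (one_mem _) (one_mem _), c_one t],
    by rw [cf_nf t hcen y (one_mem _) (one_mem _), f_zero t]⟩

theorem coord_e {e : G} (he : e ∈ t.E) : ca t e = 0 ∧ cc t e = t.c e ∧ cf t e = 0 := by
  have h : e = p.u 1 * e * 1 := by rw [map_one]; group
  have h1 := ca_nf t hcen 1 he (one_mem t.Q)
  have h2 := cc_nf t hcen 1 he (one_mem t.Q)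
  have h3 := cf_nf t hcen 1 he (one_mem t.Q)
  rw [← h] at h1 h2 h3
  exact ⟨h1, h2, by rw [h3, f_zero t]⟩

theorem coord_r {r : G} (hr : r ∈ t.Q) : ca t r = 0 ∧ cc t r = 0 ∧ cf t r = t.f r := by
  have h : r = p.u 1 * 1 * r := by rw [map_one]; group
  have h1 := ca_nf t hcen 1 (one_mem t.E) hr
  have h2 := cc_nf t hcen 1 (one_mem t.E) hr
  have h3 := cf_nf t hcen 1 (one_mem t.E) hr
  rw [← h] at h1 h2 h3
  exact ⟨h1, by rw [h2, c_one t], h3⟩

theorem coord_zz (b : F) : ca t (zz p b) = 0 ∧ cc t (zz p b) = 0 ∧ cf t (zz p b) = 0 := by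
  obtain ⟨y, hy, h⟩ := zz_mem p b
  rw [h]
  obtain ⟨h1, h2, h3⟩ := coord_u t hcen y
  exact ⟨by rw [h1, hy], h2, h3⟩

omit hcen in
/-- a central factor can be absorbed -/
theorem absorb (b : F) (y : Heis σ) (e r : G) :
    ∃ y' : Heis σ, y'.a = y.a ∧ zz p b * (p.u y * e * r) = p.u y' * e * r := by
  obtain ⟨z, hz, h⟩ := zz_mem p b
  refine ⟨z * y, by rw [mul_a, hz, zero_add], ?_⟩
  rw [h, map_mul]; group

theorem coord_mul {x x' : G} (hx : x ∈ PP t) (hx' : x' ∈ PP t) :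
    ca t (x * x') = ca t x + ca t x' ∧ cc t (x * x') = cc t x + cc t x' ∧ cf t (x * x') = cf t x + cf t x' := by
  obtain ⟨y, e, he, r, hr, rfl⟩ := hx
  obtain ⟨y', e', he', r', hr', rfl⟩ := hx'
  rw [nf_mul t he he' hr]
  obtain ⟨w, hw, h⟩ := absorb t (t.c e' * t.f r) (y * y') (e * e') (r * r')
  rw [h, ca_nf t hcen _ (mul_mem he he') (mul_mem hr hr'), cc_nf t hcen _ (mul_mem he he') (mul_mem hr hr'),
    cf_nf t hcen _ (mul_mem he he') (mul_mem hr hr'), ca_nf t hcen _ he hr, ca_nf t hcen _ he' hr',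
    cc_nf t hcen _ he hr, cc_nf t hcen _ he' hr', cf_nf t hcen _ he hr, cf_nf t hcen _ he' hr', hw, mul_a,
    t.c_mul e he e' he', t.f_mul r hr r' hr']
  exact ⟨rfl, rfl, rfl⟩

/-- the square of an element of `P` -/
theorem sq_P {x : G} (hx : x ∈ PP t) :
    x * x = zz p (N n (ca t x) + t.kap * cc t x + cc t x * cf t x) := by
  obtain ⟨y, e, he, r, hr, rfl⟩ := hx
  rw [nf_mul t he he hr, ca_nf t hcen _ he hr, cc_nf t hcen _ he hr, cf_nf t hcen _ he hr, map_mul, u_sq,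
    t.sq e he, t.Q_sq r hr, mul_one]
  have h1 : bar n (N n y.a) = N n y.a := fixed_N p.hS.hq _
  have h2 : bar n (t.kap * t.c e) = t.kap * t.c e := fixed_mul t.kap_fix (t.c_fix e he)
  have h3 := fix_cf t he hr
  rw [zz_add p (fixed_add h1 h2) h3, zz_add p h1 h2]
  have h4 := p.Z_comm (zz_mem p (t.c e * t.f r)) (p.Z_le_S (mul_mem (zz_mem p (N n y.a)) (zz_mem p (t.kap * t.c e))))
  exact h4

/-- commutators in `P` -/
theorem comm_P {x x' : G} (hx : x ∈ PP t) (hx' : x' ∈ PP t) :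
    x * x' = zz p (Tr n (ca t x * bar n (ca t x')) + (cc t x * cf t x' + cc t x' * cf t x)) * (x' * x) := by
  obtain ⟨y, e, he, r, hr, rfl⟩ := hx
  obtain ⟨y', e', he', r', hr', rfl⟩ := hx'
  rw [nf_mul t he he' hr, nf_mul t he' he hr', ca_nf t hcen _ he hr, cc_nf t hcen _ he hr,
    cf_nf t hcen _ he hr, ca_nf t hcen _ he' hr', cc_nf t hcen _ he' hr', cf_nf t hcen _ he' hr', map_mul,
    map_mul, u_comm p y y', t.E_comm e' he' e he, Q_Q t hr' hr]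
  have h1 : bar n (Tr n (y.a * bar n y'.a)) = Tr n (y.a * bar n y'.a) := fixed_Tr p.hS.hq _
  have h2 := fix_cf t he hr'
  have h3 := fix_cf t he' hr
  rw [zz_add p h1 (fixed_add h2 h3), zz_add p h2 h3]
  set A := zz p (Tr n (y.a * bar n y'.a)) with hA
  set B := zz p (t.c e * t.f r') with hB
  set D := zz p (t.c e' * t.f r) with hD
  have hA' : A ∈ p.Z := zz_mem p _
  have hB' : B ∈ p.Z := zz_mem p _
  have hD' : D ∈ p.Z := zz_mem p _
  have e1 : A * (B * D) * B = D * A := by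
    have q1 : D * A = A * D := p.Z_comm hD' (p.Z_le_S hA')
    have q2 : B * D = D * B := p.Z_comm hB' (p.Z_le_S hD')
    calc A * (B * D) * B = A * D * (B * B) := by rw [q2]; group
      _ = D * A := by rw [p.Z_sq hB', mul_one, q1]
  calc D * (A * (p.u y' * p.u y) * (e * e') * (r * r'))
      = (D * A) * (p.u y' * p.u y * (e * e') * (r * r')) := by group
    _ = A * (B * D) * B * (p.u y' * p.u y * (e * e') * (r * r')) := by rw [e1]
    _ = _ := by group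

theorem ker_P {x : G} (hx : x ∈ PP t) (h1 : ca t x = 0) (h2 : cc t x = 0) (h3 : cf t x = 0) : x ∈ p.Z := by
  obtain ⟨y, e, he, r, hr, rfl⟩ := hx
  rw [ca_nf t hcen _ he hr] at h1
  rw [cc_nf t hcen _ he hr] at h2
  rw [cf_nf t hcen _ he hr] at h3
  rw [t.f_inj r hr h3, mul_one]
  exact mul_mem (p.u_mem_Z h1) (t.c_ker e he h2)

omit hcen in
theorem two_P : IsPGroup 2 ↥(PP t) := by
  rintro ⟨x, y, e, he, r, hr, rfl⟩
  refine ⟨2, ?_⟩
  apply Subtype.ext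
  show (p.u y * e * r) ^ 2 ^ 2 = 1
  have h1 : (p.u y * e * r) * (p.u y * e * r) ∈ p.Z := by
    rw [nf_mul t he he hr, map_mul, u_sq, t.sq e he, t.Q_sq r hr, mul_one]
    exact mul_mem (zz_mem p _) (mul_mem (zz_mem p _) (zz_mem p _))
  have h2 := p.Z_sq h1
  calc (p.u y * e * r) ^ 2 ^ 2
      = ((p.u y * e * r) * (p.u y * e * r)) * ((p.u y * e * r) * (p.u y * e * r)) := by
        rw [show (2 : ℕ) ^ 2 = 4 by norm_num]; simp only [pow_succ, pow_zero, one_mul, mul_assoc]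
    _ = 1 := h2

end NF

end Cfsg.Agent.OddHalf.D4.U3.Mk
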