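import Cfsg.Agent.OddHalf.D4.U3.Mk

/-!
# ODD, D4, row `K = U₃(q)`: the normalizer of `V = Q Z`

`norV`: from `TBase.TD` and `MkDefs.TOut` (with `mem`). `exists_dat_of`: the resulting `Dat`.
-/

set_option autoImplicit false
set_option linter.dupNamespace false
set_option linter.unusedSectionVars false

namespace Cfsg.Agent.OddHalf.D4.U3.Mk

open Subgroup Cfsg.Agent.LieRecognition Cfsg.Agent.LieRecognition.HermHeis Cfsg.Agent.StdU3.URel
  Cfsg.Agent.StdU3.Field Cfsg.Agent.StdU3.Semi Cfsg.Agent.OddHalf.D4.CommConj Cfsg.Agent.OddHalf.D4.Basic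
  Cfsg.Agent.OddHalf.D4.U3.ParDefs Cfsg.Agent.OddHalf.D4.U3.MkDefs Cfsg.Agent.OddHalf.D4.U3.Defs
  Cfsg.Agent.OddHalf.D4

universe u v

variable {G : Type u} [Group G] {F : Type v} [Field F] [Fintype F] [CharP F 2] {σ : F →+* F}
  [hσ : Fact (∀ x, σ (σ x) = x)] {n : ℕ} {K : Subgroup G}

section Nor

variable [Finite G] {p : Par K σ n} (t : TOut p)
  (T : TBase.TD p.u p.d K (centralizer (K : Set G)) (normalizer (K : Set G)) t.Q n)
  (h4 : 4 ≤ Nat.card t.Q)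

include T

/-! ### elements of `E` -/

theorem cj_e_V {e : G} (he : e ∈ t.E) :
    cj e (chart t.toTOut0 T.KC h4).V = (chart t.toTOut0 T.KC h4).V := by
  apply cj_eq_of_le
  apply cj_le_of
  intro x hx
  rw [chart_V] at hx ⊢
  obtain ⟨r, hr, b, hb, rfl⟩ := hx
  refine ⟨r, hr, t.c e * t.f r + b, fixed_add (fix_cf t.toTOut0 he hr) hb, ?_⟩
  have h1 := t.conj e he r hr
  have h2 : zz p b * e = e * zz p b := Z_E t.toTOut0 (zz_mem p b) he
  rw [zz_add p (fix_cf t.toTOut0 he hr) hb]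
  calc e * (r * zz p b) * e⁻¹ = e * r * (zz p b * e⁻¹) := by group
    _ = e * r * (e⁻¹ * (e * zz p b) * e⁻¹) := by group
    _ = (e * r * e⁻¹) * zz p b := by rw [← h2]; group
    _ = _ := by rw [h1, mul_assoc]

theorem cj_e_T1 {e : G} (he : e ∈ t.E) :
    cj e (chart t.toTOut0 T.KC h4).T1 = (chart t.toTOut0 T.KC h4).T1 := by
  have h1 : e ∈ (chart t.toTOut0 T.KC h4).T1 := by
    rw [chart_T1]
    exact ⟨e, he, 1, one_mem _, (mul_one e).symm⟩
  exact cj_eq_of_mem_normalizer (le_normalizer h1)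

theorem cj_e_E {e : G} (he : e ∈ t.E) : cj e t.E = t.E := by
  exact cj_eq_of_mem_normalizer (le_normalizer he)

theorem cj_e_S {e : G} (he : e ∈ t.E) : cj e p.S = p.S := by
  apply cj_eq_of_le
  apply cj_le_of
  intro s hs
  rw [t.E_S e he s hs]
  have e1 : s * e * e⁻¹ = s := by group
  rwa [e1]

/-! ### elements of `N(K)` -/

variable {m : G} (hm : m ∈ normalizer (K : Set G))

include hm

theorem nor_Z (hV : cj m (chart t.toTOut0 T.KC h4).V = (chart t.toTOut0 T.KC h4).V) {z : G}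
    (hz : z ∈ p.Z) : m * z * m⁻¹ ∈ p.Z := by
  obtain ⟨b, hb, rfl⟩ := exists_zz p hz
  have h1 : m * zz p b * m⁻¹ ∈ (chart t.toTOut0 T.KC h4).V := by
    apply of_cj_eq hV
    rw [chart_V]
    exact ⟨1, one_mem _, b, hb, (one_mul _).symm⟩
  rw [chart_V] at h1
  obtain ⟨r, hr, b', hb', h2⟩ := h1
  have h3 : m * zz p b * m⁻¹ ∈ K := T.K_nor m hm _ (Z_K t.toTOut0 hz)
  have h4 : r ∈ K := by
    have e1 : r = m * zz p b * m⁻¹ * (zz p b')⁻¹ := by rw [h2]; group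
    rw [e1]
    exact mul_mem h3 (inv_mem (Z_K t.toTOut0 (zz_mem p b')))
  rw [h2, T.KC r h4 (t.sylQ.le hr), one_mul]
  exact zz_mem p b'

theorem nor_S (hV : cj m (chart t.toTOut0 T.KC h4).V = (chart t.toTOut0 T.KC h4).V) : cj m p.S = p.S := by
  obtain ⟨z, hz, hz1⟩ := p.exists_Z_ne
  have h1 := nor_Z t T h4 hm hV hz
  obtain ⟨y, hy, rfl⟩ := hz
  obtain ⟨y', hy', h2⟩ := h1
  exact T.ti m hm y y' (fun h => hz1 (by rw [h, map_one])) h2

theorem nor_Q (hV : cj m (chart t.toTOut0 T.KC h4).V = (chart t.toTOut0 T.KC h4).V) {r : G}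
    (hr : r ∈ t.Q) : m * r * m⁻¹ ∈ t.Q := by
  have h1 : m * r * m⁻¹ ∈ (chart t.toTOut0 T.KC h4).V := by
    apply of_cj_eq hV
    rw [chart_V]
    exact ⟨r, hr, 0, bar_zero n, by rw [zz_zero, mul_one]⟩
  rw [chart_V] at h1
  obtain ⟨r', hr', b', hb', h2⟩ := h1
  have h3 : m * r * m⁻¹ ∈ centralizer (K : Set G) := T.C_nor m hm _ (t.sylQ.le hr)
  have h5 : zz p b' ∈ centralizer (K : Set G) := by
    have e1 : zz p b' = r'⁻¹ * (m * r * m⁻¹) := by rw [h2]; group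
    rw [e1]
    exact mul_mem (inv_mem (t.sylQ.le hr')) h3
  rw [h2, T.KC _ (Z_K t.toTOut0 (zz_mem p b')) h5, mul_one]
  exact hr'

theorem nor_T1 (hV : cj m (chart t.toTOut0 T.KC h4).V = (chart t.toTOut0 T.KC h4).V) {w : G}
    (hw : w ∈ (chart t.toTOut0 T.KC h4).T1) : m * w * m⁻¹ ∈ (chart t.toTOut0 T.KC h4).T1 := by
  have hm' : m⁻¹ ∈ normalizer (K : Set G) := inv_mem hm
  have hV' := cj_inv_eq hV
  have hw0 := hw
  rw [chart_T1] at hw ⊢
  obtain ⟨e, he, r, hr, rfl⟩ := hw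
  apply t.mem
  · obtain ⟨k, hk⟩ := (chart t.toTOut0 T.KC h4).two ⟨e * r, hw0.1⟩
    refine ⟨k, ?_⟩
    have h1 : (e * r) ^ 2 ^ k = 1 := congrArg Subtype.val hk
    rw [conj_pow, h1]; group
  · intro s hs
    have h1 := of_cj_eq (nor_S t T h4 hm' hV') hs
    rw [inv_inv] at h1
    have h2 : (e * r) * (m⁻¹ * s * m) = (m⁻¹ * s * m) * (e * r) := by
      have q1 := t.E_S e he _ h1
      have q2 := Q_comm t.toTOut0 hr (p.S_le h1)
      calc (e * r) * (m⁻¹ * s * m) = e * (r * (m⁻¹ * s * m)) := by group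
        _ = (e * (m⁻¹ * s * m)) * r := by rw [← q2]; group
        _ = (m⁻¹ * s * m) * (e * r) := by rw [q1]; group
    calc m * (e * r) * m⁻¹ * s = m * ((e * r) * (m⁻¹ * s * m)) * m⁻¹ := by group
      _ = m * ((m⁻¹ * s * m) * (e * r)) * m⁻¹ := by rw [h2]
      _ = s * (m * (e * r) * m⁻¹) := by group
  · intro r1 hr1
    have h1 := nor_Q t T h4 hm' hV' hr1
    rw [inv_inv] at h1
    -- `(e r) r'' (e r)⁻¹ = r'' z`
    have h2 : (e * r) * (m⁻¹ * r1 * m) * (e * r)⁻¹ =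
        (m⁻¹ * r1 * m) * zz p (t.c e * t.f (m⁻¹ * r1 * m)) := by
      rw [← t.conj e he _ h1]
      have q := Q_Q t.toTOut0 hr h1
      calc (e * r) * (m⁻¹ * r1 * m) * (e * r)⁻¹ = e * (r * (m⁻¹ * r1 * m)) * r⁻¹ * e⁻¹ := by group
        _ = _ := by rw [q]; group
    refine ⟨m * zz p (t.c e * t.f (m⁻¹ * r1 * m)) * m⁻¹, nor_Z t T h4 hm hV (zz_mem p _), ?_⟩
    calc m * (e * r) * m⁻¹ * r1 * (m * (e * r) * m⁻¹)⁻¹
        = m * ((e * r) * (m⁻¹ * r1 * m) * (e * r)⁻¹) * m⁻¹ := by group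
      _ = m * ((m⁻¹ * r1 * m) * zz p (t.c e * t.f (m⁻¹ * r1 * m))) * m⁻¹ := by rw [h2]
      _ = _ := by group

theorem nor_E (hV : cj m (chart t.toTOut0 T.KC h4).V = (chart t.toTOut0 T.KC h4).V) {e : G}
    (he : e ∈ t.E) : m * e * m⁻¹ ∈ t.E := by
  have hS := nor_S t T h4 hm hV
  obtain ⟨l, hl, hl1⟩ := exists_fixed_ne p.hS.hq
  have hN : N n (l : F) + 1 ≠ 0 := by
    rw [N_of_fixed hl]
    intro h
    rw [CharTwo.add_eq_zero] at h
    apply hl1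
    have h2 : ((l : F) + 1) ^ 2 = 0 := by
      rw [CharTwo.add_sq, h, one_pow, CharTwo.add_self_eq_zero]
    exact CharTwo.add_eq_zero.mp (pow_eq_zero_iff (two_ne_zero)|>.mp h2)
  have hNf : bar n (N n (l : F) + 1) = N n (l : F) + 1 := fixed_add (fixed_N p.hS.hq _) (bar_one n)
  -- `e = [d, e0] z`
  obtain ⟨e0, he0, hc0⟩ := t.c_surj (t.c e * (N n (l : F) + 1)⁻¹) (fixed_mul (t.c_fix e he) (fixed_inv hNf))
  obtain ⟨h1, h2⟩ := t.d_E l e0 he0
  set g := p.d l * e0 * (p.d l)⁻¹ * e0⁻¹ with hg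
  have hgE : g ∈ t.E := mul_mem h1 (inv_mem he0)
  have hcinv : ∀ x ∈ t.E, t.c x⁻¹ = t.c x := by
    intro x hx
    have h5 := t.c_mul x hx x⁻¹ (inv_mem hx)
    rw [mul_inv_cancel, c_one t.toTOut0] at h5
    exact (CharTwo.add_eq_zero.mp h5.symm).symm
  have hcg : t.c g = t.c e := by
    rw [hg, t.c_mul _ h1 _ (inv_mem he0), hcinv e0 he0, h2, hc0]
    have e1 : N n (l : F) * (t.c e * (N n (l : F) + 1)⁻¹) + t.c e * (N n (l : F) + 1)⁻¹ =
        t.c e * ((N n (l : F) + 1) * (N n (l : F) + 1)⁻¹) := by ring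
    rw [e1, mul_inv_cancel₀ hN, mul_one]
  have hz : g⁻¹ * e ∈ p.Z := by
    apply t.c_ker _ (mul_mem (inv_mem hgE) he)
    rw [t.c_mul _ (inv_mem hgE) _ he, hcinv g hgE, hcg, CharTwo.add_self_eq_zero]
  -- the conjugate of `g`
  obtain ⟨y, l', hd⟩ := T.norB m hm hS l
  have hT1 : e0 ∈ (chart t.toTOut0 T.KC h4).T1 := by
    rw [chart_T1]
    exact ⟨e0, he0, 1, one_mem _, (mul_one _).symm⟩
  have h5 := nor_T1 t T h4 hm hV hT1
  rw [chart_T1] at h5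
  obtain ⟨e', he', r', hr', h6⟩ := h5
  have hde := (t.d_E l' e' he').1
  have h7 : m * g * m⁻¹ = p.d l' * e' * (p.d l')⁻¹ * e'⁻¹ := by
    have q1 : p.d l' * r' = r' * p.d l' := Q_comm t.toTOut0 hr' (p.d_mem l')
    have q2 : p.u y * (p.d l' * e' * (p.d l')⁻¹) = (p.d l' * e' * (p.d l')⁻¹) * p.u y :=
      (t.E_S _ hde _ (p.u_mem y)).symm
    have q3 : p.u y * r' = r' * p.u y := Q_comm t.toTOut0 hr' (p.u_mem_K y)
    calc m * g * m⁻¹ = (m * p.d l * m⁻¹) * (m * e0 * m⁻¹) * (m * p.d l * m⁻¹)⁻¹ * (m * e0 * m⁻¹)⁻¹ := by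
          rw [hg]; group
      _ = (p.u y * p.d l') * (e' * r') * (p.u y * p.d l')⁻¹ * (e' * r')⁻¹ := by rw [hd, h6]
      _ = p.u y * (p.d l' * e' * (p.d l')⁻¹) * (p.d l' * r') * (p.d l')⁻¹ * (p.u y)⁻¹ * r'⁻¹ * e'⁻¹ := by
          group
      _ = p.u y * (p.d l' * e' * (p.d l')⁻¹) * r' * (p.u y)⁻¹ * r'⁻¹ * e'⁻¹ := by rw [q1]; group
      _ = (p.d l' * e' * (p.d l')⁻¹) * (p.u y * r') * (p.u y)⁻¹ * r'⁻¹ * e'⁻¹ := by rw [q2]; group
      _ = _ := by rw [q3]; group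
  have h8 : m * e * m⁻¹ = (m * g * m⁻¹) * (m * (g⁻¹ * e) * m⁻¹) := by group
  rw [h8, h7]
  exact mul_mem (mul_mem hde (inv_mem he')) (t.Z_le (nor_Z t T h4 hm hV hz))

omit hm

/-! ### `N(V)` -/

theorem exists_e {x : G} (hx : cj x (chart t.toTOut0 T.KC h4).V = (chart t.toTOut0 T.KC h4).V) :
    ∃ e ∈ t.E, e⁻¹ * x ∈ normalizer (K : Set G) ∧
      cj (e⁻¹ * x) (chart t.toTOut0 T.KC h4).V = (chart t.toTOut0 T.KC h4).V := by
  obtain ⟨c₀, hc, h⟩ := t.memb x (by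
    intro r hr
    have h1 : x * r * x⁻¹ ∈ (chart t.toTOut0 T.KC h4).V := by
      apply of_cj_eq hx
      rw [chart_V]
      exact ⟨r, hr, 0, bar_zero n, by rw [zz_zero, mul_one]⟩
    rw [chart_V] at h1
    obtain ⟨r', hr', b, hb, h2⟩ := h1
    exact ⟨r', hr', _, zz_mem p b, h2⟩)
  obtain ⟨e, he, hce⟩ := t.c_surj c₀ hc
  refine ⟨e, he, ?_, cj_mul_eq (cj_inv_eq (cj_e_V t T h4 he)) hx⟩
  obtain ⟨r1, hr1, hf1⟩ := t.f_one
  have hne : r1 ≠ 1 := by
    rintro rfl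
    rw [f_zero t.toTOut0] at hf1
    exact zero_ne_one hf1
  have h1 := h r1 hr1
  rw [← hce, ← t.conj e he r1 hr1, mem_cj] at h1
  have h2 : x⁻¹ * e ∈ normalizer (K : Set G) := by
    have h3 : (x⁻¹ * e)⁻¹ ∈ normalizer (K : Set G) := by
      apply T.tight _ r1 (t.sylQ.le hr1) hne (t.Q_sq r1 hr1)
      rw [inv_inv]
      have e1 : (x⁻¹ * e) * r1 * (x⁻¹ * e)⁻¹ = x⁻¹ * (e * r1 * e⁻¹) * x := by group
      rw [e1]
      exact t.sylQ.le h1
    have h4 := inv_mem h3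
    rwa [inv_inv] at h4
  have h3 := inv_mem h2
  rwa [mul_inv_rev, inv_inv] at h3

/-- **the normalizer of `V`** -/
theorem norV : NorV t.toTOut0 T.KC h4 where
  nor := by
    intro x hx
    obtain ⟨e, he, hm, hV⟩ := exists_e t T h4 hx
    have e1 : x = e * (e⁻¹ * x) := by group
    refine ⟨?_, ?_, ?_⟩
    · rw [e1]
      exact cj_mul_eq (cj_e_T1 t T h4 he) (cj_eq_of_le (cj_le_of fun w hw => nor_T1 t T h4 hm hV hw))
    · rw [e1]
      exact cj_mul_eq (cj_e_E t T he) (cj_eq_of_le (cj_le_of fun w hw => nor_E t T h4 hm hV hw))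
    · rw [e1]
      exact cj_mul_eq (cj_e_S t T he) (nor_S t T h4 hm hV)
  ker := by
    intro x hx h2 h
    obtain ⟨e, he, hm, hV⟩ := exists_e t T h4 hx
    set m := e⁻¹ * x with hmdef
    have hxm : x = e * m := by rw [hmdef]; group
    have hmS := nor_S t T h4 hm hV
    -- `m` is trivial on `S / Z`
    obtain ⟨c, hc, s, hcs⟩ := T.trivS m hm (by
      intro y
      obtain ⟨y', hy', h3⟩ := h y
      refine ⟨y', hy', ?_⟩
      obtain ⟨y'', hy''⟩ := of_cj_eq hmS (p.u_mem y)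
      have h5 := t.E_S e he _ (p.u_mem y'')
      rw [← hy'', ← h3, hxm]
      calc p.u y'' = (p.u y'' * e) * e⁻¹ := by group
        _ = e * (m * p.u y * m⁻¹) * e⁻¹ := by rw [← h5, hy'']
        _ = e * m * p.u y * (e * m)⁻¹ := by group)
    have hSV : cj (p.u s)⁻¹ (chart t.toTOut0 T.KC h4).V = (chart t.toTOut0 T.KC h4).V := by
      apply cj_eq_of_le
      apply cj_le_of
      intro v hv
      have h5 : (p.u s)⁻¹ * v = v * (p.u s)⁻¹ := by
        rw [chart_V] at hv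
        obtain ⟨r, hr, b, hb, rfl⟩ := hv
        have q1 : (p.u s)⁻¹ * r = r * (p.u s)⁻¹ := Q_comm t.toTOut0 hr (inv_mem (p.u_mem_K s))
        have q2 : zz p b * (p.u s)⁻¹ = (p.u s)⁻¹ * zz p b := p.Z_comm (zz_mem p b) (inv_mem (p.u_mem s))
        calc (p.u s)⁻¹ * (r * zz p b) = ((p.u s)⁻¹ * r) * zz p b := by group
          _ = r * ((p.u s)⁻¹ * zz p b) := by rw [q1]; group
          _ = r * zz p b * (p.u s)⁻¹ := by rw [← q2]; group
      rw [h5]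
      have e2 : v * (p.u s)⁻¹ * (p.u s)⁻¹⁻¹ = v := by group
      rwa [e2]
    have hcm : c = m * (p.u s)⁻¹ := by rw [hcs]; group
    have hcV : cj c (chart t.toTOut0 T.KC h4).V = (chart t.toTOut0 T.KC h4).V := by
      rw [hcm]
      exact cj_mul_eq hV hSV
    have hcM : c ∈ normalizer (K : Set G) := T.C_le hc
    have hcQ : cj c t.Q = t.Q := cj_eq_of_le (cj_le_of fun r hr => nor_Q t T h4 hcM hcV hr)
    -- `c` normalises `P`
    have hcP : cj c (PP t.toTOut0) = PP t.toTOut0 := by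
      apply cj_eq_of_le
      apply cj_le_of
      rintro _ ⟨y, e1, he1, r1, hr1, rfl⟩
      obtain ⟨y', hy'⟩ := of_cj_eq (nor_S t T h4 hcM hcV) (p.u_mem y)
      have h5 := nor_E t T h4 hcM hcV he1
      have h6 := nor_Q t T h4 hcM hcV hr1
      refine ⟨y', _, h5, _, h6, ?_⟩
      rw [hy']; group
    have hPe : e ∈ PP t.toTOut0 := ⟨1, e, he, 1, one_mem _, by rw [map_one]; group⟩
    have hPs : p.u s ∈ PP t.toTOut0 := ⟨s, 1, one_mem _, 1, one_mem _, by group⟩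
    -- `c` is a 2-element
    have hc2 : ∃ k : ℕ, c ^ 2 ^ k = 1 := by
      obtain ⟨k, hk⟩ := h2
      obtain ⟨w, hw, h5⟩ := pow_mod hPe hPs hcP (2 ^ k)
      have e2 : e * c * p.u s = x := by rw [hxm, hcs]; group
      rw [e2, hk] at h5
      have h6 : c ^ 2 ^ k ∈ PP t.toTOut0 := by
        have e3 : c ^ 2 ^ k = w⁻¹ := by
          have e4 : c ^ 2 ^ k = w⁻¹ * (w * c ^ 2 ^ k) := by group
          rw [e4, ← h5, mul_one]
        rw [e3]
        exact inv_mem hw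
      obtain ⟨j, hj⟩ := (two_P t.toTOut0) ⟨_, h6⟩
      refine ⟨k + j, ?_⟩
      have h7 : (c ^ 2 ^ k) ^ 2 ^ j = 1 := congrArg Subtype.val hj
      rw [pow_add, pow_mul, h7]
    have hcQ' : c ∈ t.Q := mem_of_norm t.sylQ hc hc2 hcQ
    refine ⟨s, e * c, ?_, ?_⟩
    · rw [chart_T1]
      exact ⟨e, he, c, hcQ', rfl⟩
    · have q1 : c * p.u s = p.u s * c := (Q_comm t.toTOut0 hcQ' (p.u_mem_K s)).symm
      have q2 := t.E_S e he _ (p.u_mem s)
      calc x = e * (c * p.u s) := by rw [hxm, hcs]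
        _ = (e * p.u s) * c := by rw [q1]; group
        _ = p.u s * (e * c) := by rw [q2]; group

include h4 in
/-- **piece U** from `MkDefs.TOut` -/
theorem exists_dat_of : Nonempty (Dat G F n) := ⟨mkDat t.toTOut0 T.KC h4 (norV t T h4)⟩

end Nor

end Cfsg.Agent.OddHalf.D4.U3.Mk
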