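import Cfsg.Agent.OddHalf.D4.U3.UniFalse
import Cfsg.Agent.OddHalf.D4.U3.DigFacts
import Cfsg.Agent.OddHalf.D4.U3.StartUni
import Cfsg.Agent.OddHalf.D4.Start
import Cfsg.Agent.OddHalf.D4.Cut

/-!
# ODD, D4, the row `K ≅ U₃(2^a)`, `a ≥ 2`, `m₂(C(K)) ≥ 2`

`row` : `Cut.Row1 Cut.U3e` from S1173, S1169 and Bender's theorem.
-/

set_option autoImplicit false
set_option linter.dupNamespace false

namespace Cfsg.Agent.OddHalf.D4.U3.Row

open Subgroup Cfsg Cfsg.Agent.OddHalf.D4 Cfsg.Agent.OddHalf.D4.U3.ParDefs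

universe u

/-- **the row `U₃(2^a)`, `a ≥ 2`** -/
theorem row (h1173 : Start.P1173.{u}) (gold : Cfsg.Agent.StdSz.EndClosed.Gold.{u})
    (hBen : ∀ (Y : Type u) [Group Y] [Finite Y], Cfsg.Agent.StrongEmb.Split.BenderHolds Y) :
    Cut.Row1.{u} (fun K _ => Cut.U3e K) := by
  intro G _ hG K hK hrk hz hP
  have := hG.fin
  have := hG.simple
  obtain ⟨x, y, hx, hy, hx2, hy2, hxy, hne⟩ := EvenPair.exists_two_of_not_pRankLE hrk
  obtain ⟨F, _, _, _, σ, _, n, ⟨X⟩⟩ := StartUni.exists_uni hG hK.toStd0 hrk hz hP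
  exact UniFalse.uni_false (h1173 G (Start.oddCore_eq_bot hx2)) gold X
    (fun Y g hg h1 h2 => DigFacts.digon_false hBen Y g hg h1 h2)

end Cfsg.Agent.OddHalf.D4.U3.Row
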