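import Cfsg.Agent.OddHalf.D4.U3.ParFacts
import Cfsg.Agent.OddHalf.D4.KPairG

/-!
# ODD, D4, row `K = U₃(q)`: (F1) and the existence of a full pair
-/

set_option autoImplicit false
set_option linter.dupNamespace false
set_option linter.unusedSectionVars false

namespace Cfsg.Agent.OddHalf.D4.U3.ParDefs

open Subgroup Cfsg.Agent.LieRecognition Cfsg.Agent.LieRecognition.HermHeis Cfsg.Agent.StdU3.URel
  Cfsg.Agent.StdU3.Field Cfsg.Agent.StdU3.Semi Cfsg.Agent.OddHalf.D4 Cfsg.Agent.OddHalf.D4.Basic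
open Cfsg.Agent.OddHalf.D4.CommConj (Tight cj mem_cj cj_mul card_cj cj_eq_of_mem_normalizer
  mem_normalizer_of_cj_eq mem_cj_mul)
open scoped commutatorElement

universe u v

variable {G : Type u} [Group G] {F : Type v} [Field F] [Fintype F] [CharP F 2] {σ : F →+* F}
  [hσ : Fact (∀ x, σ (σ x) = x)] {n : ℕ}

namespace Par

variable {K : Subgroup G}

/-! ### (F1) -/

/-- **(F1)** -/
theorem innSyl (p : Par K σ n) [Finite G] : KPairG.InnSyl ↥K := by
  intro P φ h2 hφ
  have hfin : Finite ↥K := Finite.of_injective (fun x : ↥K => (x : G)) (fun _ _ h => Subtype.ext h)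
  -- `P` is conjugate to `S`
  have h1 := isSyl_of_sylow P
  obtain ⟨k, hk, h3⟩ := p.exists_cj_le h1.two h1.le
  have h4 : ∀ x : ↥K, (⟨k, hk⟩ : ↥K) * x * (⟨k, hk⟩ : ↥K)⁻¹ ∈ p.R.T ↔ x ∈ P := by
    have h5 : cj k ((P : Subgroup ↥K).map K.subtype) = p.S := by
      apply Subgroup.eq_of_le_of_card_ge h3
      obtain ⟨k', hk', h6⟩ := h1.conj_into p.S_two p.S_le
      rw [card_cj]
      have h7 : cj k' p.S ≤ (P : Subgroup ↥K).map K.subtype := by
        rintro _ ⟨t, ht, rfl⟩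
        exact h6 t ht
      rw [← card_cj k' p.S]
      exact Subgroup.card_le_of_le h7
    intro x
    rw [p.mem_RT, ← h5, mem_cj]
    have e : k⁻¹ * (((⟨k, hk⟩ : ↥K) * x * (⟨k, hk⟩ : ↥K)⁻¹ : ↥K) : G) * k = x := by
      show k⁻¹ * (k * x * k⁻¹) * k = x
      group
    rw [e]
    constructor
    · rintro ⟨y, hy, h8⟩
      rwa [Subtype.ext h8] at hy
    · intro hx
      exact ⟨x, hx, rfl⟩
  set κ : ↥K := ⟨k, hk⟩ with hκ
  set ψ : MulAut ↥K := MulAut.conj κ * φ * MulAut.conj κ⁻¹ with hψ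
  have h5 : ∀ s ∈ p.R.T, ψ s = s := by
    intro s hs
    have h6 : κ⁻¹ * s * κ ∈ P := by
      rw [← h4]
      have e : κ * (κ⁻¹ * s * κ) * κ⁻¹ = s := by group
      rwa [e]
    have h7 : ψ s = κ * φ (κ⁻¹ * s * κ⁻¹⁻¹) * κ⁻¹ := rfl
    rw [h7, inv_inv, hφ _ h6]
    group
  have h6 : Cfsg.Agent.StdU3.URelAut.Triv p.R ψ := fun y => ⟨y, h5 _ (p.R.u_mem y), rfl⟩
  obtain ⟨y, h7⟩ := h6.inner (fieldOK p.hS)
  refine ⟨κ⁻¹ * p.R.u y * κ, ?_, ?_⟩
  · rw [← h4]
    have e : κ * (κ⁻¹ * p.R.u y * κ) * κ⁻¹ = p.R.u y := by group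
    rw [e]
    exact p.R.u_mem y
  · have e : φ = MulAut.conj κ⁻¹ * ψ * MulAut.conj κ := by
      rw [hψ, map_inv]; group
    rw [e, h7, ← map_mul, ← map_mul]

end Par

/-! ### Existence of a full pair -/

theorem Uni.exists_fullPair [Finite G] [IsSimpleGroup G] {K : Subgroup G} (X : Uni K σ n)
    (h1173 : EvenPair.H1173 G) : ∃ L Q U : Subgroup G, FullPair K L Q U := by
  have hne : K ≠ ⊥ := by
    rintro rfl
    have := X.sim.toNontrivial
    exact not_subsingleton ↥(⊥ : Subgroup G) inferInstance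
  obtain ⟨s, hs, hsZ⟩ := X.p.exists_S_not_Z
  have hna : ¬ ∀ a ∈ K, ∀ b ∈ K, a * b = b * a := by
    intro h
    exact hsZ (X.p.mem_Z_of_comm hs fun t ht => h s (X.p.S_le hs) t (X.p.S_le ht))
  have := X.sim
  have hperf : ⁅K, K⁆ = K := by
    have h1 : commutator ↥K = ⊤ := by
      rcases (inferInstance : (commutator ↥K).Normal).eq_bot_or_eq_top with h1 | h1
      · exfalso
        apply hna
        intro a ha b hb
        have h2 : ⁅(⟨a, ha⟩ : ↥K), ⟨b, hb⟩⁆ ∈ commutator ↥K := commutator_mem_commutator (mem_top _) (mem_top _)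
        rw [h1, mem_bot, commutatorElement_eq_one_iff_mul_comm] at h2
        exact congrArg Subtype.val h2
      · exact h1
    have h2 := congrArg (Subgroup.map K.subtype) h1
    rw [_root_.commutator_def, Subgroup.map_commutator, ← MonoidHom.range_eq_map, Subgroup.range_subtype] at h2
    exact h2
  have heven : Even (Nat.card ↥(centralizer (K : Set G))) := by
    obtain ⟨r, hr, -, -, hr2, -⟩ := X.four
    exact even_of_mem hr2 hr
  exact KPairG.exists_fullPair h1173 X.tight heven X.cen (X.p.innSyl) hne hperf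

end Cfsg.Agent.OddHalf.D4.U3.ParDefs
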