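import Cfsg.Agent.OddHalf.D4.U3.TBase
import Cfsg.Agent.OddHalf.D4.U3.CommonTD

/-!
# ODD, D4, row `K = U₃(q)`: the instance of `TBase.TD`
-/

set_option autoImplicit false
set_option linter.dupNamespace false

namespace Cfsg.Agent.OddHalf.D4.U3.TInst

open Subgroup Cfsg.Agent.LieRecognition Cfsg.Agent.LieRecognition.HermHeis Cfsg.Agent.OddHalf.D4
  Cfsg.Agent.OddHalf.D4.Basic Cfsg.Agent.OddHalf.D4.U3.Fr Cfsg.Agent.OddHalf.D4.U3.ParDefs
  Cfsg.Agent.OddHalf.D4.U3.Common Cfsg.Agent.OddHalf.D4.U3.CommonTD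
open Cfsg.Agent.OddHalf.D4.CommConj (Tight cj mem_cj cj_mul card_cj cj_eq_of_mem_normalizer
  mem_normalizer_of_cj_eq mem_cj_mul)

universe u v

variable {G : Type u} [Group G] {F : Type v} [Field F] [Fintype F] [CharP F 2] {σ : F →+* F}
  [hσ : Fact (∀ x, σ (σ x) = x)] {n : ℕ} {K Q : Subgroup G}

/-- an element of `N(K)` that maps an element `≠ 1` of `S` into `S` normalises `S` -/
theorem ti (p : Par K σ n) [Finite G] {x : G} (hx : x ∈ normalizer (K : Set G)) {y y' : Heis σ} (hy : y ≠ 1)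
    (h : x * p.u y * x⁻¹ = p.u y') : cj x p.S = p.S := by
  have h1 : IsSyl (cj x p.S) K := by
    have h2 := p.sylS.cj x
    rwa [cj_eq_of_mem_normalizer hx] at h2
  obtain ⟨k, hk, h3⟩ := exists_cj_eq p.sylS h1.two h1.le (by rw [card_cj])
  have h4 : p.u y' ∈ cj k p.S := by
    rw [h3, ← h]
    exact mem_cj_mul (p.u_mem y)
  rw [mem_cj] at h4
  have hy' : p.u y' ≠ 1 := by
    intro e
    apply hy
    rw [e] at h
    apply p.u_eq_one
    calc p.u y = x⁻¹ * (x * p.u y * x⁻¹) * x := by group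
      _ = 1 := by rw [h]; group
  have h5 : k⁻¹ ∈ p.B := p.mem_B_of (inv_mem hk) (p.u_mem y') hy' (by rwa [inv_inv])
  have h6 := inv_mem h5
  rw [inv_inv] at h6
  rw [← h3]
  exact p.cj_S_of_B h6

/-- `N(K) ∩ N(S)` normalises `B` -/
theorem norB (p : Par K σ n) {x : G} (hx : x ∈ normalizer (K : Set G)) (h : cj x p.S = p.S) (l : Fˣ) :
    x * p.d l * x⁻¹ ∈ p.B := by
  apply p.mem_B_of_cj ((mem_normalizer_iff.mp hx _).mp (p.d_mem l))
  have h1 := cj_inv_cj x p.S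
  rw [h] at h1
  rw [cj_mul, cj_mul, h1, p.cj_S_of_B (p.d_mem_B l), h]

/-- **The instance of `TD`.** -/
theorem td_of [Finite G] (X : Uni K σ n)
    (hdig : ∀ (Y : Uni K σ n) (g : G), g ∉ normalizer (K : Set G) →
      Y.p.S ≤ centralizer ((cj g K : Subgroup G) : Set G) → cj g Y.p.S ≤ centralizer (K : Set G) → False)
    (hQ : IsSyl Q (centralizer (K : Set G))) {x : G} (hx : x ∉ normalizer (K : Set G))
    (hc : ∀ r ∈ Q, ∀ w ∈ cj x Q, r * w = w * r) :
    TBase.TD X.p.u X.p.d K (centralizer (K : Set G)) (normalizer (K : Set G)) Q n where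
  hS := X.p.hS
  inj := X.p.u_inj
  d_u := X.p.d_u
  uC c hc x := (mem_centralizer_iff.1 hc _ (X.p.u_mem_K x)).symm
  dC c hc l := (mem_centralizer_iff.1 hc _ (X.p.d_mem l)).symm
  uK := X.p.u_mem_K
  dK := X.p.d_mem
  K_le := le_normalizer
  C_le := cent_le_norm K
  K_nor m hm x hx := (mem_normalizer_iff.mp hm x).mp hx
  C_nor m hm c hc := X.tight.norm m hm c hc
  KC x hx hc := X.cen x hx hc
  syl := hQ
  sq := td_sq_of X hdig hQ hx hc
  ne := by
    obtain ⟨r, hr, s, hs, hr2, hs2, -, -⟩ := X.four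
    have h1 : IsPGroup 2 ↥(zpowers r) := by
      rw [IsPGroup.iff_card]
      exact ⟨1, by rw [Nat.card_zpowers, hr2, pow_one]⟩
    obtain ⟨m, hm, h⟩ := hQ.conj_into h1 (by rw [zpowers_le]; exact hr)
    refine ⟨m * r * m⁻¹, h r (mem_zpowers r), fun e => ?_⟩
    have h2 : r = 1 := by
      calc r = m⁻¹ * (m * r * m⁻¹) * m := by group
        _ = 1 := by rw [e]; group
    rw [h2, orderOf_one] at hr2
    exact absurd hr2 (by norm_num)
  tight x r hr hr1 hr2 h := by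
    have ho : orderOf r = 2 := orderOf_eq_prime (by rw [sq, hr2]) hr1
    have h1 := X.tight.tight x⁻¹ r hr ho (by rwa [inv_inv])
    have h2 := inv_mem h1
    rwa [inv_inv] at h2
  trivS x hx h := by
    obtain ⟨c, hc, s, ⟨y, rfl⟩, e⟩ := X.p.triv hx (by
      rintro s ⟨y, rfl⟩
      obtain ⟨y', h1, h2⟩ := h y
      refine ⟨(X.p.u y)⁻¹ * X.p.u y', ?_, by rw [h2]; group⟩
      rw [← map_inv, ← map_mul, X.p.u_mem_Z_iff, mul_a, inv_a, h1]
      exact CharTwo.add_self_eq_zero _)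
    exact ⟨c, hc, y, e⟩
  ti x hx y y' hy h := ti X.p hx hy h
  norB x hx h l := X.p.mem_B.mp (norB X.p hx h l)
  pair := td_pair_of X hdig hQ

end Cfsg.Agent.OddHalf.D4.U3.TInst
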