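import Cfsg.Agent.OddHalf.D4.U3.MkNor
import Cfsg.Agent.OddHalf.D4.U3.TInst
import Cfsg.Agent.OddHalf.D4.U3.Start
import Cfsg.Agent.OddHalf.D4.U3.End

/-!
# ODD, D4, row `K = U₃(q)`: the glue of the two halves

`false_of`: `Uni K σ n` is impossible, from the digon lemma and piece T.
-/

set_option autoImplicit false
set_option linter.dupNamespace false

namespace Cfsg.Agent.OddHalf.D4.U3.RowOf

open Subgroup Cfsg.Agent.LieRecognition Cfsg.Agent.StdU3.URel Cfsg.Agent.OddHalf.D4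
  Cfsg.Agent.OddHalf.D4.Basic Cfsg.Agent.OddHalf.D4.U3.ParDefs
open Cfsg.Agent.OddHalf.D4.CommConj (cj)

universe u v

variable {G : Type u} [Group G] {F : Type v} [Field F] [Fintype F] [CharP F 2] {σ : F →+* F}
  [hσ : Fact (∀ x, σ (σ x) = x)] {n : ℕ} {K : Subgroup G}

theorem false_of [Finite G] [IsSimpleGroup G] (h1173 : EvenPair.H1173 G)
    (gold : Cfsg.Agent.StdSz.EndClosed.Gold.{u}) (X : Uni K σ n)
    (hdig : ∀ (Y : Uni K σ n) (g : G), g ∉ normalizer (K : Set G) →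
      Y.p.S ≤ centralizer ((cj g K : Subgroup G) : Set G) → cj g Y.p.S ≤ centralizer (K : Set G) → False)
    (hT : ∀ Q : Subgroup G,
      TBase.TD X.p.u X.p.d K (centralizer (K : Set G)) (normalizer (K : Set G)) Q n →
        ∃ (V T₁ E₁ : Subgroup G) (f ch : G → F) (kap : F), TOut.TOut X.p.u X.p.d Q V T₁ E₁ f ch kap) : False := by
  obtain ⟨L, Q, U, hF⟩ := X.exists_fullPair h1173
  obtain ⟨x, hx, -, -, hc⟩ := CommonTD.exists_x hF
  have T := TInst.td_of X hdig hF.sylQ hx hc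
  obtain ⟨V, T₁, E₁, f, ch, kap, O⟩ := hT Q T
  obtain ⟨D⟩ := Mk.exists_dat T O (Mk.four_le_Q X hF.sylQ)
  exact Defs.Dat.false gold D

/-- the same, with the normalised output `MkDefs.TOut` of piece T -/
theorem false_of' [Finite G] [IsSimpleGroup G] (h1173 : EvenPair.H1173 G)
    (gold : Cfsg.Agent.StdSz.EndClosed.Gold.{u}) (X : Uni K σ n)
    (hdig : ∀ (Y : Uni K σ n) (g : G), g ∉ normalizer (K : Set G) →
      Y.p.S ≤ centralizer ((cj g K : Subgroup G) : Set G) → cj g Y.p.S ≤ centralizer (K : Set G) → False)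
    (hT : ∀ Q : Subgroup G,
      TBase.TD X.p.u X.p.d K (centralizer (K : Set G)) (normalizer (K : Set G)) Q n →
        ∃ t : MkDefs.TOut X.p, t.Q = Q) : False := by
  obtain ⟨L, Q, U, hF⟩ := X.exists_fullPair h1173
  obtain ⟨x, hx, -, -, hc⟩ := CommonTD.exists_x hF
  have T := TInst.td_of X hdig hF.sylQ hx hc
  obtain ⟨t, rfl⟩ := hT Q T
  obtain ⟨D⟩ := Mk.exists_dat_of t T (Mk.four_le_Q X hF.sylQ)
  exact Defs.Dat.false gold D

end Cfsg.Agent.OddHalf.D4.U3.RowOf
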