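import Cfsg.Agent.OddHalf.D4.U3.Zeta

/-!
# ODD, D4, row `K = U₃(q)`: no element of `N(P)` swaps `V` and `W α` and fixes `E`
-/

set_option autoImplicit false
set_option linter.unusedSectionVars false

namespace Cfsg.Agent.OddHalf.D4.U3.SwapOne

open Subgroup Cfsg.Agent.StdU3.Field Cfsg.Agent.StdU3.PreDef Cfsg.Agent.OddHalf.D4.CommConj
  Cfsg.Agent.OddHalf.D4.Basic Cfsg.Agent.OddHalf.D4.U3.Defs Cfsg.Agent.OddHalf.D4.U3.Zeta

universe u v

variable {G : Type u} [Group G] {F : Type v} [Field F] [Fintype F] [CharP F 2] {n : ℕ}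

/-! ### the field -/

theorem exists_sqrt (hq : Qd F n) {t : F} (ht : bar n t = t) : ∃ s : F, bar n s = s ∧ s * s = t := by
  refine ⟨t ^ (2 ^ (n - 1)), by rw [bar_pow, ht], ?_⟩
  have h1 := hq.hn
  rw [← pow_add]
  have h2 : 2 ^ (n - 1) + 2 ^ (n - 1) = 2 ^ n := by
    obtain ⟨m, rfl⟩ : ∃ m, n = m + 1 := ⟨n - 1, by omega⟩
    rw [Nat.add_sub_cancel, pow_succ]; ring
  rw [h2]
  exact ht

/-- **Hua's trick** on `F_q` -/
theorem hua (hq : Qd F n) {δ : F → F} (hadd : ∀ a b, bar n a = a → bar n b = b → δ (a + b) = δ a + δ b)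
    (h1 : δ 1 = 0) (hinv : ∀ t, bar n t = t → t ≠ 0 → δ t = t ^ 2 * δ t⁻¹) :
    ∀ t, bar n t = t → δ t = 0 := by
  have h0 : δ 0 = 0 := by
    have := hadd 0 0 (bar_zero n) (bar_zero n)
    rw [add_zero] at this
    exact add_eq_left.mp this.symm
  have key : ∀ t : F, bar n t = t → δ (t * t) = 0 := by
    intro t hbt
    by_cases ht : t = 0
    · rw [ht, mul_zero, h0]
    by_cases ht1 : t + 1 = 0
    · have : t = 1 := add_eq_zero.mp ht1
      rw [this, mul_one, h1]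
    have h2 : (1 : F) + 1 = 0 := CharTwo.add_self_eq_zero 1
    have e1 : t⁻¹ + (t + 1)⁻¹ = (t * (t + 1))⁻¹ := by
      field_simp
      linear_combination t * h2
    have b1 : bar n (t + 1) = t + 1 := fixed_add hbt (bar_one n)
    have e2 : δ t⁻¹ = δ t / t ^ 2 := by rw [hinv t hbt ht]; field_simp
    have e3 : δ (t + 1)⁻¹ = δ (t + 1) / (t + 1) ^ 2 := by rw [hinv (t + 1) b1 ht1]; field_simp
    have e4 : δ (t * (t + 1))⁻¹ = δ (t * (t + 1)) / (t * (t + 1)) ^ 2 := by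
      rw [hinv (t * (t + 1)) (fixed_mul hbt b1) (mul_ne_zero ht ht1)]
      field_simp
    have e5 := congrArg δ e1
    rw [hadd _ _ (fixed_inv hbt) (fixed_inv b1), e2, e3, e4, hadd _ _ hbt (bar_one n), h1, add_zero, mul_add,
      mul_one, hadd _ _ (fixed_mul hbt hbt) hbt] at e5
    field_simp at e5
    rw [← pow_two]
    linear_combination -e5 + (t * δ t + t ^ 2 * δ t) * h2
  intro t ht
  obtain ⟨s, hs, hst⟩ := exists_sqrt hq ht
  rw [← hst]; exact key s hs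

/-! ### transvections -/

/-- `x` acts on `P / Z` as `(a, c, f) ↦ (a + f β, c + Tr (a β̄) + f N β, f)`, and trivially on `Z` -/
structure Act (D : Dat G F n) (x : G) (β : F) : Prop where
  P : cj x D.P = D.P
  Z : ∀ b, bar n b = b → x * D.z b * x⁻¹ = D.z b
  a : ∀ p ∈ D.P, D.a (x * p * x⁻¹) = D.a p + D.f p * β
  c : ∀ p ∈ D.P, D.c (x * p * x⁻¹) = D.c p + Tr n (D.a p * bar n β) + D.f p * N n β
  f : ∀ p ∈ D.P, D.f (x * p * x⁻¹) = D.f p

variable {D : Dat G F n}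

theorem fix_f {p : G} (hp : p ∈ D.P) : bar n (D.f p) = D.f p := D.fix_Phi _ (D.f_mem p hp)

namespace Act

variable {x y : G} {β β' : F}

theorem mem (hx : Act D x β) {p : G} (hp : p ∈ D.P) : x * p * x⁻¹ ∈ D.P := conj_mem hx.P hp

theorem mul (hx : Act D x β) (hy : Act D y β') : Act D (x * y) (β + β') := by
  have e : ∀ p : G, x * y * p * (x * y)⁻¹ = x * (y * p * y⁻¹) * x⁻¹ := fun p => by group
  refine ⟨cj_mul_eq hx.P hy.P, ?_, ?_, ?_, ?_⟩
  · intro b hb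
    rw [e, hy.Z b hb, hx.Z b hb]
  · intro p hp
    rw [e, hx.a _ (hy.mem hp), hy.a p hp, hy.f p hp]; ring
  · intro p hp
    rw [e, hx.c _ (hy.mem hp), hy.c p hp, hy.a p hp, hy.f p hp, N_add' D.hq, bar_add, mul_add, add_mul, Tr_add,
      Tr_add, mul_assoc (D.f p) β', Tr_mul_fixed (fix_f hp), Tr_comm D.hq β β']
    ring
  · intro p hp
    rw [e, hx.f _ (hy.mem hp), hy.f p hp]

theorem inv (hx : Act D x β) : Act D x⁻¹ β := by
  have hP := cj_inv_eq hx.P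
  have hm : ∀ p ∈ D.P, x⁻¹ * p * x⁻¹⁻¹ ∈ D.P := fun p hp => conj_mem hP hp
  have e : ∀ p : G, x * (x⁻¹ * p * x⁻¹⁻¹) * x⁻¹ = p := fun p => by group
  have hf : ∀ p ∈ D.P, D.f (x⁻¹ * p * x⁻¹⁻¹) = D.f p := by
    intro p hp
    rw [← hx.f _ (hm p hp), e]
  have ha : ∀ p ∈ D.P, D.a (x⁻¹ * p * x⁻¹⁻¹) = D.a p + D.f p * β := by
    intro p hp
    have h1 := hx.a _ (hm p hp)
    rw [e, hf p hp] at h1
    rw [h1, add_add_self]
  refine ⟨hP, ?_, ha, ?_, hf⟩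
  · intro b hb
    have h1 := hx.Z b hb
    calc x⁻¹ * D.z b * x⁻¹⁻¹ = x⁻¹ * (x * D.z b * x⁻¹) * x := by rw [h1]; group
      _ = D.z b := by group
  · intro p hp
    have h1 := hx.c _ (hm p hp)
    rw [e, hf p hp, ha p hp, add_mul, Tr_add, mul_assoc (D.f p) β, ← N_def,
      Tr_of_fixed (fixed_mul (fix_f hp) (fixed_N D.hq β)), add_zero] at h1
    rw [h1, add_assoc, add_assoc]
    have h2 := add_self (Tr n (D.a p * bar n β) + D.f p * N n β)
    linear_combination -h2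

theorem conj_h (hx : Act D x β) (l : Fˣ) : Act D (D.h l * x * (D.h l)⁻¹) (w n l * β) := by
  have e : ∀ p : G, D.h l * x * (D.h l)⁻¹ * p * (D.h l * x * (D.h l)⁻¹)⁻¹ =
      D.h l * (x * ((D.h l)⁻¹ * p * D.h l) * x⁻¹) * (D.h l)⁻¹ := fun p => by group
  have hm : ∀ p ∈ D.P, (D.h l)⁻¹ * p * D.h l ∈ D.P := fun p hp => h_inv_mem D l hp
  refine ⟨cj_mul_eq (cj_mul_eq (D.h_P l) hx.P) (cj_inv_eq (D.h_P l)), ?_, ?_, ?_, ?_⟩
  · intro b hb
    have h0 : N n (l : F) ≠ 0 := N_ne_zero l.ne_zero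
    have hb' : bar n ((N n (l : F))⁻¹ * b) = (N n (l : F))⁻¹ * b :=
      fixed_mul (fixed_inv (fixed_N D.hq _)) hb
    have h1 := D.h_z l _ hb'
    rw [← mul_assoc, mul_inv_cancel₀ h0, one_mul] at h1
    have h2 : (D.h l)⁻¹ * D.z b * D.h l = D.z ((N n (l : F))⁻¹ * b) := by rw [← h1]; group
    rw [e, h2, hx.Z _ hb', h1]
  · intro p hp
    rw [e, D.h_a l _ (hx.mem (hm p hp)), hx.a _ (hm p hp), mul_add, a_h_inv D l hp, f_h_inv D l hp]
    ring
  · intro p hp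
    have h1 : N n (l : F) * Tr n (D.a ((D.h l)⁻¹ * p * D.h l) * bar n β) =
        Tr n (D.a p * bar n (w n l * β)) := by
      rw [← Tr_mul_fixed (fixed_N D.hq _), ← N_w D.hq, ← a_h_inv D l hp, N_def, bar_mul]
      congr 1; ring
    rw [e, D.h_c l _ (hx.mem (hm p hp)), hx.c _ (hm p hp), mul_add, mul_add, c_h_inv D l hp, f_h_inv D l hp,
      h1, N_mul, N_w D.hq]
    ring
  · intro p hp
    rw [e, D.h_f l _ (hx.mem (hm p hp)), hx.f _ (hm p hp), f_h_inv D l hp]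

end Act

/-- `x` normalises `P` and is trivial on `Z` and on `E / Z` -/
structure Pre (D : Dat G F n) (x : G) : Prop where
  P : cj x D.P = D.P
  Z : ∀ b, bar n b = b → x * D.z b * x⁻¹ = D.z b
  E : ∀ e ∈ D.E, x * e * x⁻¹ ∈ D.E ∧ D.c (x * e * x⁻¹) = D.c e

namespace Pre

variable {x y : G}

theorem isZ (hx : Pre D x) : IsZ D.toChart x (fun b => b) := ⟨hx.P, fun _ hb => hb, hx.Z⟩

/-- the `f`-coordinate is preserved -/
theorem f (hx : Pre D x) {p : G} (hp : p ∈ D.P) : D.f (x * p * x⁻¹) = D.f p := by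
  obtain ⟨e, he, e1, e2, e3⟩ := exists_E D.toChart (bar_one n)
  obtain ⟨h1, h2⟩ := hx.E e he
  have h3 := hx.isZ.comm hp he.1
  simp only [h1.2.1, h1.2.2, h2, e1, e2, e3, bar_zero, mul_zero, Tr_zero, one_mul, zero_add] at h3
  exact h3

theorem cjE [Finite G] (hx : Pre D x) : cj x D.E = D.E := by
  refine eq_of_le_of_card_ge ?_ (card_cj x D.E).ge
  rintro _ ⟨e, he, rfl⟩
  exact (hx.E e he).1

theorem inv [Finite G] (hx : Pre D x) : Pre D x⁻¹ := by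
  refine ⟨cj_inv_eq hx.P, ?_, ?_⟩
  · intro b hb
    have h1 := hx.Z b hb
    calc x⁻¹ * D.z b * x⁻¹⁻¹ = x⁻¹ * (x * D.z b * x⁻¹) * x := by rw [h1]; group
      _ = D.z b := by group
  · intro e he
    have h1 : x⁻¹ * e * x⁻¹⁻¹ ∈ D.E := conj_mem (cj_inv_eq hx.cjE) he
    refine ⟨h1, ?_⟩
    have h2 := (hx.E _ h1).2
    rw [← h2]
    congr 1; group

theorem mul (hx : Pre D x) (hy : Pre D y) : Pre D (x * y) := by
  have e : ∀ p : G, x * y * p * (x * y)⁻¹ = x * (y * p * y⁻¹) * x⁻¹ := fun p => by group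
  refine ⟨cj_mul_eq hx.P hy.P, ?_, ?_⟩
  · intro b hb
    rw [e, hy.Z b hb, hx.Z b hb]
  · intro q hq
    rw [e]
    have h1 := hy.E q hq
    have h2 := hx.E _ h1.1
    exact ⟨h2.1, h2.2.trans h1.2⟩

theorem conj_h (hx : Pre D x) (l : Fˣ) : Pre D (D.h l * x * (D.h l)⁻¹) := by
  have e : ∀ p : G, D.h l * x * (D.h l)⁻¹ * p * (D.h l * x * (D.h l)⁻¹)⁻¹ =
      D.h l * (x * ((D.h l)⁻¹ * p * D.h l) * x⁻¹) * (D.h l)⁻¹ := fun p => by group
  refine ⟨cj_mul_eq (cj_mul_eq (D.h_P l) hx.P) (cj_inv_eq (D.h_P l)), ?_, ?_⟩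
  · intro b hb
    have h0 : N n (l : F) ≠ 0 := N_ne_zero l.ne_zero
    have hb' : bar n ((N n (l : F))⁻¹ * b) = (N n (l : F))⁻¹ * b :=
      fixed_mul (fixed_inv (fixed_N D.hq _)) hb
    have h1 := D.h_z l _ hb'
    rw [← mul_assoc, mul_inv_cancel₀ h0, one_mul] at h1
    have h2 : (D.h l)⁻¹ * D.z b * D.h l = D.z ((N n (l : F))⁻¹ * b) := by rw [← h1]; group
    rw [e, h2, hx.Z _ hb', h1]
  · intro q hq
    have h1 : (D.h l)⁻¹ * q * D.h l ∈ D.E := inv_conj_mem (cj_h_E D l) hq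
    have h2 := hx.E _ h1
    rw [e]
    refine ⟨conj_mem (cj_h_E D l) h2.1, ?_⟩
    rw [D.h_c l _ h2.1.1, h2.2, c_h_inv D l hq.1]

end Pre

/-- an element trivial on `Z`, `E / Z` and on the `a`-coordinates of `{f = 0}` is a transvection -/
theorem act_of (hk : D.kap = 0) {x : G} (hx : Pre D x)
    (ha : ∀ p ∈ D.P, D.f p = 0 → D.a (x * p * x⁻¹) = D.a p) : ∃ β, Act D x β := by
  obtain ⟨p₁, hp₁, e1, e2, e3⟩ := D.surj 0 0 1 (bar_zero n) D.one_mem
  set β := D.a (x * p₁ * x⁻¹) with hβ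
  have f1 : D.f (x * p₁ * x⁻¹) = 1 := by rw [hx.f hp₁, e3]
  have c1 : D.c (x * p₁ * x⁻¹) = N n β := by
    have h1 := hx.isZ.sq hp₁
    simp only [e1, e2, e3, hk, f1, N_zero, zero_mul, mul_zero, add_zero, mul_one] at h1
    exact (Cfsg.Agent.StdU3.Field.add_eq_zero.mp h1).symm
  have key : ∀ p ∈ D.P, D.a (x * p * x⁻¹) = D.a p + D.f p * β := by
    intro p hp
    have h0 : D.a (x * p * x⁻¹) + D.a p + D.f p * β = 0 := by
      apply eq_zero_of_Tr D.hq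
      intro t
      obtain ⟨s, hs, s1, s2, s3⟩ := D.surj t 0 0 (bar_zero n) D.Phi.zero_mem
      have h1 := hx.isZ.comm hp₁ hs
      have h2 := hx.isZ.comm hp hs
      have h3 : D.f (x * s * x⁻¹) = 0 := by rw [hx.f hs, s3]
      have h4 : D.a (x * s * x⁻¹) = t := by rw [ha s hs s3, s1]
      have h5 : D.f (x * p * x⁻¹) = D.f p := hx.f hp
      simp only [h3, h4, h5, f1, e1, e2, s1, s2, s3, zero_mul, mul_zero, add_zero, zero_add, mul_one,
        Tr_zero, ← hβ] at h1 h2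
      rw [add_mul, add_mul, Tr_add, Tr_add, mul_assoc (D.f p), Tr_mul_fixed (fix_f hp)]
      have h6 := add_self (Tr n (D.a p * bar n t))
      linear_combination h2 + h6 + D.f p * h1 - D.c (x * s * x⁻¹) * D.f p * (CharTwo.two_eq_zero (R := F))
    rw [add_assoc] at h0
    exact add_eq_zero.mp h0
  refine ⟨β, hx.P, hx.Z, key, ?_, fun p hp => hx.f hp⟩
  intro p hp
  have h1 := hx.isZ.comm hp hp₁
  have h5 : D.f (x * p * x⁻¹) = D.f p := hx.f hp
  simp only [h5, f1, c1, e1, e2, e3, ← hβ, bar_zero, zero_mul, mul_zero, add_zero, zero_add, mul_one,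
    Tr_zero, key p hp] at h1
  rw [add_mul, Tr_add, mul_assoc (D.f p), ← N_def, Tr_of_fixed (fixed_mul (fix_f hp) (fixed_N D.hq β)),
    add_zero] at h1
  rw [← h1]
  linear_combination (-(Tr n (D.a p * bar n β)) - D.f p * N n β) * (CharTwo.two_eq_zero (R := F))

/-- an element trivial on `Z`, `E / Z` and `A_α / Z` is trivial or a transvection on `{f = 0} / E` -/
theorem dich (hk : D.kap = 0) {x : G} (hx : Pre D x) {α : F} (hα : α ≠ 0)
    (hA : ∃ s ∈ D.S, D.a s = α ∧ x * s * x⁻¹ ∈ D.S ∧ D.a (x * s * x⁻¹) = α) :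
    (∀ p ∈ D.P, D.f p = 0 → D.a (x * p * x⁻¹) = D.a p) ∨
      ∀ p ∈ D.P, D.f p = 0 → D.a (x * p * x⁻¹) = D.a p + Tr n (D.a p * bar n α) / N n α * α := by
  obtain ⟨s, hs, hsa, hs1, hsa1⟩ := hA
  have hN : N n α ≠ 0 := N_ne_zero hα
  have key : ∀ p ∈ D.P, D.f p = 0 → D.a (x * p * x⁻¹) = D.a p ∨
      D.a (x * p * x⁻¹) = D.a p + Tr n (D.a p * bar n α) / N n α * α := by
    intro p hp hf
    have hf' : D.f (x * p * x⁻¹) = 0 := by rw [hx.f hp, hf]
    have h1 := hx.isZ.sq hp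
    have h2 := hx.isZ.comm hp hs.1
    simp only [hk, hf, hf', hs.2.1, hs.2.2, hs1.2.1, hs1.2.2, hsa, hsa1, zero_mul, mul_zero, add_zero] at h1 h2
    -- `δ = t α`
    have h3 : Tr n ((D.a (x * p * x⁻¹) + D.a p) * bar n α) = 0 := by
      rw [add_mul, Tr_add, h2, add_self]
    rw [Tr_comm D.hq] at h3
    have h4 := fixed_div_of_Tr D.hq h3 hα
    set t := (D.a (x * p * x⁻¹) + D.a p) / α with ht
    have h5 : D.a (x * p * x⁻¹) = D.a p + t * α := by
      rw [ht, div_mul_cancel₀ _ hα]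
      linear_combination -(D.a p) * (CharTwo.two_eq_zero (R := F))
    rw [h5, N_add' D.hq, N_mul, N_of_fixed h4, bar_mul, h4] at h1
    have h6 : Tr n (D.a p * (t * bar n α)) = t * Tr n (D.a p * bar n α) := by
      rw [← Tr_mul_fixed h4]; congr 1; ring
    rw [h6] at h1
    have h7 : t * (t * N n α + Tr n (D.a p * bar n α)) = 0 := by linear_combination h1
    rcases mul_eq_zero.mp h7 with h8 | h8
    · left
      rw [h5, h8, zero_mul, add_zero]
    · right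
      rw [h5]
      have h9 : t = Tr n (D.a p * bar n α) / N n α := by
        rw [eq_div_iff hN]
        exact add_eq_zero.mp h8
      rw [← h9]
  by_contra hcon
  push Not at hcon
  obtain ⟨⟨p, hp, hpf, hpa⟩, q, hq, hqf, hqa⟩ := hcon
  have hp' := (key p hp hpf).resolve_left hpa
  have hq' := (key q hq hqf).resolve_right hqa
  have hpq := key (p * q) (D.P.mul_mem hp hq) (by rw [D.f_mul p hp q hq, hpf, hqf, add_zero])
  rw [hx.isZ.a_mul hp hq, D.a_mul p hp q hq, hp', hq'] at hpq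
  rcases hpq with h | h
  · apply hpa
    rw [hp']
    linear_combination h
  · apply hqa
    rw [hq']
    rw [add_mul, Tr_add, add_div, add_mul] at h
    linear_combination h

theorem w_fix {l : Fˣ} (h : bar n (l : F) = l) : w n l = l ∧ N n (l : F) = l * l :=
  ⟨w_fixed h, by rw [N_def, h]⟩

/-- the commutator with an element of `F_q` -/
theorem exists_act [Finite G] (hk : D.kap = 0) {x : G} (hx : Pre D x) {α : F} (hα : α ≠ 0)
    (hA : ∃ s ∈ D.S, D.a s = α ∧ x * s * x⁻¹ ∈ D.S ∧ D.a (x * s * x⁻¹) = α) (hV : cj x D.V ≠ D.V) :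
    ∃ x' : G, ∃ β, β ≠ 0 ∧ Act D x' β := by
  obtain ⟨l, hl, hl1⟩ := exists_fixed_ne D.hq
  obtain ⟨hw, hN⟩ := w_fix hl
  have hl0 : (l : F) ≠ 0 := l.ne_zero
  have hpre : Pre D (x * (D.h l * x⁻¹ * (D.h l)⁻¹)) := hx.mul (hx.inv.conj_h l)
  have hlin : ∀ p ∈ D.P, D.f p = 0 → ∀ q ∈ D.P, D.f q = 0 → D.a q = l * D.a p →
      D.a (x * q * x⁻¹) = l * D.a (x * p * x⁻¹) := by
    intro p hp hpf q hq hqf hqa
    rcases dich hk hx hα hA with h | h
    · rw [h p hp hpf, h q hq hqf, hqa]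
    · rw [h p hp hpf, h q hq hqf, hqa, mul_assoc, Tr_mul_fixed hl]; ring
  have ha : ∀ p ∈ D.P, D.f p = 0 →
      D.a (x * (D.h l * x⁻¹ * (D.h l)⁻¹) * p * (x * (D.h l * x⁻¹ * (D.h l)⁻¹))⁻¹) = D.a p := by
    intro p hp hpf
    have m1 : (D.h l)⁻¹ * p * D.h l ∈ D.P := h_inv_mem D l hp
    have f1 : D.f ((D.h l)⁻¹ * p * D.h l) = 0 := by rw [f_h_inv D l hp, hpf]
    have m2 : x⁻¹ * ((D.h l)⁻¹ * p * D.h l) * x⁻¹⁻¹ ∈ D.P := conj_mem hx.inv.P m1
    have f2 : D.f (x⁻¹ * ((D.h l)⁻¹ * p * D.h l) * x⁻¹⁻¹) = 0 := by rw [hx.inv.f m1, f1]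
    have m3 := h_mem D l m2
    have f3 := D.h_f l _ m2
    have a3 := D.h_a l _ m2
    rw [hw] at a3
    rw [f2] at f3
    have h1 := hlin _ m2 f2 _ m3 f3 a3
    have e1 : x * (x⁻¹ * ((D.h l)⁻¹ * p * D.h l) * x⁻¹⁻¹) * x⁻¹ = (D.h l)⁻¹ * p * D.h l := by group
    rw [e1] at h1
    have h2 := a_h_inv D l hp
    rw [hw] at h2
    rw [h2] at h1
    rw [← h1]
    congr 1; group
  obtain ⟨β, hβ⟩ := act_of hk hpre ha
  refine ⟨_, β, ?_, hβ⟩
  rintro rfl
  -- `x' = [x, h]` normalises `V`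
  have hV' : ∀ v ∈ D.V, x * (D.h l * x⁻¹ * (D.h l)⁻¹) * v * (x * (D.h l * x⁻¹ * (D.h l)⁻¹))⁻¹ ∈ D.V := by
    intro v hv
    refine ⟨hβ.mem hv.1, ?_, ?_⟩
    · rw [hβ.a v hv.1, hv.2.1, mul_zero, add_zero]
    · rw [hβ.c v hv.1, hv.2.1, hv.2.2, N_zero, zero_mul, Tr_zero, mul_zero, add_zero, add_zero]
  apply hV
  have h1 : cj x⁻¹ D.V ≤ D.V := by
    rintro _ ⟨v, hv, rfl⟩
    change x⁻¹ * v * x⁻¹⁻¹ ∈ D.V
    have hp : x⁻¹ * v * x⁻¹⁻¹ ∈ D.P := conj_mem hx.inv.P hv.1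
    set p := x⁻¹ * v * x⁻¹⁻¹ with hpd
    have hp' := h_mem D l hp
    -- `u = h p h⁻¹ p⁻¹` is in `Z`
    have hu : D.h l * p * (D.h l)⁻¹ * p⁻¹ ∈ D.P := D.P.mul_mem hp' (D.P.inv_mem hp)
    have fu : D.f (D.h l * p * (D.h l)⁻¹ * p⁻¹) = 0 := by
      rw [D.f_mul _ hp' _ (D.P.inv_mem hp), D.h_f l p hp, D.f_inv hp, add_self]
    have hxu : x * (D.h l * p * (D.h l)⁻¹ * p⁻¹) * x⁻¹ ∈ D.V := by
      have k1 := hV' _ (conj_mem (cj_h_V D l) hv)
      have k2 := D.V.mul_mem k1 (D.V.inv_mem hv)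
      have k3 : x * (D.h l * x⁻¹ * (D.h l)⁻¹) * (D.h l * v * (D.h l)⁻¹) *
          (x * (D.h l * x⁻¹ * (D.h l)⁻¹))⁻¹ * v⁻¹ = x * (D.h l * p * (D.h l)⁻¹ * p⁻¹) * x⁻¹ := by
        rw [hpd]; group
      rwa [k3] at k2
    have fxu : D.f (x * (D.h l * p * (D.h l)⁻¹ * p⁻¹) * x⁻¹) = 0 := by rw [hx.f hu, fu]
    obtain ⟨b, hb, hb'⟩ := D.ker _ hxu.1 hxu.2.1 hxu.2.2 fxu
    have hub : D.h l * p * (D.h l)⁻¹ * p⁻¹ = D.z b := by
      have k1 := hx.Z b hb
      rw [← hb'] at k1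
      have k2 : x⁻¹ * (x * (D.h l * p * (D.h l)⁻¹ * p⁻¹) * x⁻¹) * x =
          D.h l * p * (D.h l)⁻¹ * p⁻¹ := by group
      have k3 : x⁻¹ * D.z b * x = D.z b := by
        have k4 := hx.Z b hb
        calc x⁻¹ * D.z b * x = x⁻¹ * (x * D.z b * x⁻¹) * x := by rw [k4]
          _ = D.z b := by group
      rw [← k2, hb', k3]
    have au : D.a (D.h l * p * (D.h l)⁻¹ * p⁻¹) = 0 := by rw [hub, D.a_z b hb]
    have cu : D.c (D.h l * p * (D.h l)⁻¹ * p⁻¹) = 0 := by rw [hub, D.c_z b hb]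
    rw [D.a_mul _ hp' _ (D.P.inv_mem hp), D.h_a l p hp, D.a_inv hp, hw] at au
    rw [D.c_mul _ hp' _ (D.P.inv_mem hp), D.h_c l p hp, D.c_inv hp, hN] at cu
    have hl2 : (l : F) + 1 ≠ 0 := fun h => hl1 (Cfsg.Agent.StdU3.Field.add_eq_zero.mp h)
    refine ⟨hp, ?_, ?_⟩
    · have k1 : ((l : F) + 1) * D.a p = 0 := by linear_combination au
      exact (mul_eq_zero.mp k1).resolve_left hl2
    · have k1 : (((l : F) + 1) * ((l : F) + 1)) * D.c p = 0 := by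
        linear_combination cu + l * D.c p * (CharTwo.two_eq_zero (R := F))
      exact (mul_eq_zero.mp k1).resolve_left (mul_ne_zero hl2 hl2)
  have h2 : cj x⁻¹ D.V = D.V := eq_of_le_of_card_ge h1 (card_cj x⁻¹ D.V).ge
  have h3 := cj_inv_eq h2
  rwa [inv_inv] at h3

/-- an element acting as a transvection that centralises `E` -/
theorem exists_act_cent {x : G} {β : F} (hβ : β ≠ 0) (hx : Act D x β) :
    ∃ x' : G, ∃ γ, γ ≠ 0 ∧ Act D x' γ ∧ ∀ e ∈ D.E, x' * e * x'⁻¹ = e := by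
  obtain ⟨l, hl, hl3, -⟩ := exists_norm_one D.hq
  refine ⟨x * (D.h l * x⁻¹ * (D.h l)⁻¹), β + w n l * β, ?_, hx.mul (hx.inv.conj_h l), ?_⟩
  · rw [w_norm hl]
    intro h0
    have h1 : (1 + (l : F) ^ 3) * β = 0 := by linear_combination h0
    rcases mul_eq_zero.mp h1 with h2 | h2
    · exact hl3 (Cfsg.Agent.StdU3.Field.add_eq_zero.mp h2).symm
    · exact hβ h2
  · intro e he
    have hT : ∀ q ∈ D.E, D.h l * q = q * D.h l := fun q hq => D.h_T l hl q ⟨hq.1, hq.2.1⟩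
    have h1 : x⁻¹ * e * x⁻¹⁻¹ ∈ D.E := by
      refine ⟨hx.inv.mem he.1, ?_, ?_⟩
      · rw [hx.inv.a e he.1, he.2.1, he.2.2, zero_mul, add_zero]
      · rw [hx.inv.f e he.1, he.2.2]
    have h2 := hT _ h1
    have h3 := hT e he
    have h4 : (D.h l)⁻¹ * e * D.h l = e := by
      rw [mul_assoc, ← h3]; group
    calc x * (D.h l * x⁻¹ * (D.h l)⁻¹) * e * (x * (D.h l * x⁻¹ * (D.h l)⁻¹))⁻¹
        = x * (D.h l * (x⁻¹ * ((D.h l)⁻¹ * e * D.h l) * x⁻¹⁻¹) * (D.h l)⁻¹) * x⁻¹ := by group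
      _ = x * (D.h l * (x⁻¹ * e * x⁻¹⁻¹) * (D.h l)⁻¹) * x⁻¹ := by rw [h4]
      _ = x * (x⁻¹ * e * x⁻¹⁻¹) * x⁻¹ := by rw [h2]; group
      _ = e := by group

/-! ### the functional equation -/

/-- a transvection with its action on `S` -/
structure Good (D : Dat G F n) (x : G) (γ : F) (g : F → F) : Prop where
  act : Act D x γ
  E : ∀ e ∈ D.E, x * e * x⁻¹ = e
  fix : ∀ t, bar n t = t → bar n (g t) = g t
  S : ∀ t, bar n t = t → ∀ s ∈ D.S, D.a s = t * γ → x * s * x⁻¹ = s * D.z (g t)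

theorem exists_S (D : Dat G F n) (a : F) : ∃ s ∈ D.S, D.a s = a := by
  obtain ⟨s, hs, e1, e2, e3⟩ := D.surj a 0 0 (bar_zero n) D.Phi.zero_mem
  exact ⟨s, ⟨hs, e2, e3⟩, e1⟩

theorem exists_good {x : G} {γ : F} (hx : Act D x γ) (hE : ∀ e ∈ D.E, x * e * x⁻¹ = e) :
    ∃ g : F → F, Good D x γ g := by
  have key : ∀ t, ∃ b, bar n t = t → bar n b = b ∧ ∀ s ∈ D.S, D.a s = t * γ → x * s * x⁻¹ = s * D.z b := by
    intro t
    by_cases ht : bar n t = t
    swap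
    · exact ⟨0, fun h => absurd h ht⟩
    obtain ⟨s₀, hs₀, ha₀⟩ := exists_S D (t * γ)
    have hm := hx.mem hs₀.1
    have hi := D.P.inv_mem hs₀.1
    obtain ⟨b, hb, hb'⟩ := D.ker (s₀⁻¹ * (x * s₀ * x⁻¹)) (D.P.mul_mem hi hm)
      (by rw [D.a_mul _ hi _ hm, D.a_inv hs₀.1, hx.a _ hs₀.1, hs₀.2.2, zero_mul, add_zero, add_self])
      (by rw [D.c_mul _ hi _ hm, D.c_inv hs₀.1, hx.c _ hs₀.1, hs₀.2.2, hs₀.2.1, ha₀, zero_mul, add_zero, zero_add,
            zero_add, mul_assoc, ← N_def]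
          exact Tr_of_fixed (fixed_mul ht (fixed_N D.hq γ)))
      (by rw [D.f_mul _ hi _ hm, D.f_inv hs₀.1, hx.f _ hs₀.1, add_self])
    refine ⟨b, fun _ => ⟨hb, ?_⟩⟩
    intro s hs hsa
    obtain ⟨b', hb1, hb2⟩ := D.ker (s * s₀⁻¹) (D.P.mul_mem hs.1 hi)
      (by rw [D.a_mul _ hs.1 _ hi, D.a_inv hs₀.1, ha₀, hsa, add_self])
      (by rw [D.c_mul _ hs.1 _ hi, D.c_inv hs₀.1, hs.2.1, hs₀.2.1, add_zero])
      (by rw [D.f_mul _ hs.1 _ hi, D.f_inv hs₀.1, hs.2.2, hs₀.2.2, add_zero])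
    have h1 : s = D.z b' * s₀ := by rw [← hb2]; group
    have h2 : x * s₀ * x⁻¹ = s₀ * D.z b := by rw [← hb']; group
    calc x * s * x⁻¹ = (x * D.z b' * x⁻¹) * (x * s₀ * x⁻¹) := by rw [h1]; group
      _ = s * D.z b := by rw [hx.Z b' hb1, h2, h1]; group
  choose g hg using key
  exact ⟨g, hx, hE, fun t ht => (hg t ht).1, fun t ht => (hg t ht).2⟩

namespace Good

variable {x : G} {γ : F} {g : F → F}

theorem add (h : Good D x γ g) {t t' : F} (ht : bar n t = t) (ht' : bar n t' = t') :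
    g (t + t') = g t + g t' := by
  obtain ⟨s, hs, ha⟩ := exists_S D (t * γ)
  obtain ⟨s', hs', ha'⟩ := exists_S D (t' * γ)
  have h1 := h.S t ht s hs ha
  have h2 := h.S t' ht' s' hs' ha'
  have h3 := h.S (t + t') (fixed_add ht ht') (s * s') (D.S.mul_mem hs hs')
    (by rw [D.a_mul _ hs.1 _ hs'.1, ha, ha', add_mul])
  apply z_eq D.toChart (h.fix _ (fixed_add ht ht')) (fixed_add (h.fix _ ht) (h.fix _ ht'))
  rw [D.z_add _ _ (h.fix _ ht) (h.fix _ ht')]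
  have h4 : x * (s * s') * x⁻¹ = (x * s * x⁻¹) * (x * s' * x⁻¹) := by group
  rw [h4, h1, h2] at h3
  have h5 := z_comm D.toChart (h.fix t ht) hs'.1
  have h6 : s * s' * (D.z (g t) * D.z (g t')) = s * s' * D.z (g (t + t')) := by
    rw [← h3]
    calc s * s' * (D.z (g t) * D.z (g t')) = s * (s' * D.z (g t)) * D.z (g t') := by group
      _ = s * (D.z (g t) * s') * D.z (g t') := by rw [h5]
      _ = s * D.z (g t) * (s' * D.z (g t')) := by group
  exact (mul_left_cancel h6).symm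

/-- the product with a conjugate under the torus -/
theorem prod (h : Good D x γ g) {l : Fˣ} (hl : bar n (l : F) = l) :
    Good D (x * (D.h l * x * (D.h l)⁻¹)) (γ + l * γ)
      (fun t => g (t * (1 + l)) + l ^ 2 * g (t * (1 + l) * (l : F)⁻¹)) := by
  obtain ⟨hw, hN⟩ := w_fix hl
  have hl0 : (l : F) ≠ 0 := l.ne_zero
  have e0 : ∀ p : G, x * (D.h l * x * (D.h l)⁻¹) * p * (x * (D.h l * x * (D.h l)⁻¹))⁻¹ =
      x * (D.h l * (x * ((D.h l)⁻¹ * p * D.h l) * x⁻¹) * (D.h l)⁻¹) * x⁻¹ := fun p => by group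
  have b1 : bar n (1 + (l : F)) = 1 + l := fixed_add (bar_one n) hl
  have f1 : ∀ t, bar n t = t → bar n (t * (1 + (l : F))) = t * (1 + l) := fun t ht => fixed_mul ht b1
  have f2 : ∀ t, bar n t = t → bar n (t * (1 + (l : F)) * (l : F)⁻¹) = t * (1 + l) * (l : F)⁻¹ :=
    fun t ht => fixed_mul (f1 t ht) (fixed_inv hl)
  have f3 : bar n ((l : F) ^ 2) = (l : F) ^ 2 := by rw [bar_pow, hl]
  refine ⟨?_, ?_, ?_, ?_⟩
  · have h1 := h.act.mul (h.act.conj_h l)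
    rwa [hw] at h1
  · intro e he
    have h1 : (D.h l)⁻¹ * e * D.h l ∈ D.E := inv_conj_mem (cj_h_E D l) he
    rw [e0, h.E _ h1]
    have h2 : D.h l * ((D.h l)⁻¹ * e * D.h l) * (D.h l)⁻¹ = e := by group
    rw [h2, h.E e he]
  · intro t ht
    exact fixed_add (h.fix _ (f1 t ht)) (fixed_mul f3 (h.fix _ (f2 t ht)))
  · intro t ht s hs hsa
    have m1 : (D.h l)⁻¹ * s * D.h l ∈ D.P := h_inv_mem D l hs.1
    have s1 : (D.h l)⁻¹ * s * D.h l ∈ D.S := by
      refine ⟨m1, ?_, by rw [f_h_inv D l hs.1, hs.2.2]⟩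
      have k := c_h_inv D l hs.1
      rw [hs.2.1] at k
      exact (mul_eq_zero.mp k).resolve_left (N_ne_zero l.ne_zero)
    have a1 : D.a ((D.h l)⁻¹ * s * D.h l) = t * (1 + l) * (l : F)⁻¹ * γ := by
      have k := a_h_inv D l hs.1
      rw [hw, hsa] at k
      apply mul_left_cancel₀ hl0
      rw [k]
      field_simp
      try ring
    have h1 := h.S _ (f2 t ht) _ s1 a1
    have h2 := D.h_z l _ (h.fix _ (f2 t ht))
    have h3 := h.S _ (f1 t ht) s hs (by rw [hsa]; ring)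
    have b2 : bar n ((l : F) ^ 2 * g (t * (1 + l) * (l : F)⁻¹)) = (l : F) ^ 2 * g (t * (1 + l) * (l : F)⁻¹) :=
      fixed_mul f3 (h.fix _ (f2 t ht))
    rw [hN, ← pow_two] at h2
    rw [e0, h1, D.z_add _ _ (h.fix _ (f1 t ht)) b2]
    calc x * (D.h l * ((D.h l)⁻¹ * s * D.h l * D.z (g (t * (1 + l) * (l : F)⁻¹))) * (D.h l)⁻¹) * x⁻¹
        = (x * s * x⁻¹) * (x * (D.h l * D.z (g (t * (1 + l) * (l : F)⁻¹)) * (D.h l)⁻¹) * x⁻¹) := by group
      _ = s * (D.z (g (t * (1 + l))) * D.z ((l : F) ^ 2 * g (t * (1 + l) * (l : F)⁻¹))) := by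
          rw [h2, h.act.Z _ b2, h3]; group

/-- the equation from `memb` -/
theorem memb_eq (hk : D.kap = 0) (h : Good D x γ g) :
    ∃ c₀ : F, ∀ f ∈ D.Phi, g f + f ^ 2 * N n γ = c₀ * f := by
  -- the action of `x²` on `Q`
  have key : ∀ r ∈ D.Q, x * x * r * (x * x)⁻¹ = r * D.z (g (D.f r) + (D.f r) ^ 2 * N n γ) := by
    intro r hr
    have hv := D.Q_le hr
    have bf := fix_f (D := D) hv.1
    have hm := h.act.mem hv.1
    obtain ⟨s, hs, ha⟩ := exists_S D (D.f r * γ)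
    obtain ⟨e, he, e1, e2, e3⟩ := exists_E D.toChart (fixed_mul bf (fixed_N D.hq γ))
    have hrs := D.P.mul_mem hv.1 hs.1
    have hrse := D.P.mul_mem hrs he.1
    have hi := D.P.inv_mem hrse
    obtain ⟨b, hb, hb'⟩ := D.ker (x * r * x⁻¹ * (r * s * e)⁻¹) (D.P.mul_mem hm hi)
      (by rw [D.a_mul _ hm _ hi, D.a_inv hrse, D.a_mul _ hrs _ he.1, D.a_mul _ hv.1 _ hs.1, h.act.a r hv.1,
            hv.2.1, e1, ha, zero_add, add_zero, add_self])
      (by rw [D.c_mul _ hm _ hi, D.c_inv hrse, D.c_mul _ hrs _ he.1, D.c_mul _ hv.1 _ hs.1, h.act.c r hv.1,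
            hv.2.1, hv.2.2, e2, hs.2.1, zero_mul, Tr_zero, zero_add, zero_add, add_self])
      (by rw [D.f_mul _ hm _ hi, D.f_inv hrse, D.f_mul _ hrs _ he.1, D.f_mul _ hv.1 _ hs.1, h.act.f r hv.1,
            e3, hs.2.2, add_zero, add_zero, add_self])
    have hzb := D.z_mem b hb
    -- `x r x⁻¹ = r s e'`
    have h1 : x * r * x⁻¹ = r * s * (e * D.z b) := by
      have k1 : x * r * x⁻¹ = D.z b * (r * s * e) := by rw [← hb']; group
      rw [k1, z_comm D.toChart hb hrse]; group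
    have hgb := h.fix _ bf
    have h2 := h.S _ bf s hs ha
    have h3 := h.E e he
    have h4 := h.act.Z b hb
    have hse : e * s = s * e := by
      have k := D.comm e he.1 s hs.1
      rw [e1, e3, hs.2.1, hs.2.2, zero_mul, Tr_zero, mul_zero, mul_zero, add_zero, add_zero, D.z_zero,
        one_mul] at k
      exact k
    have hss : s * s = D.z ((D.f r) ^ 2 * N n γ) := by
      have k := D.sq s hs.1
      rw [ha, hs.2.1, hs.2.2, mul_zero, mul_zero, add_zero, add_zero, N_mul, N_of_fixed bf] at k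
      exact k
    have hee : e * e = 1 := by
      have k := D.sq e he.1
      rw [e1, e3, hk, N_zero, zero_mul, mul_zero, add_zero, add_zero, D.z_zero] at k
      exact k
    have hbb : D.z b * D.z b = 1 := by rw [← D.z_add b b hb hb, add_self, D.z_zero]
    have c1 := z_comm D.toChart hb he.1
    have c2 := z_comm D.toChart hb hs.1
    have c3 := z_comm D.toChart hgb he.1
    have b2 : bar n ((D.f r) ^ 2 * N n γ) = (D.f r) ^ 2 * N n γ :=
      fixed_mul (by rw [bar_pow, bf]) (fixed_N D.hq γ)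
    have c4 := z_comm D.toChart hb (D.z_mem _ hgb)
    calc x * x * r * (x * x)⁻¹ = x * (x * r * x⁻¹) * x⁻¹ := by group
      _ = x * (r * s * (e * D.z b)) * x⁻¹ := by rw [h1]
      _ = (x * r * x⁻¹) * (x * s * x⁻¹) * ((x * e * x⁻¹) * (x * D.z b * x⁻¹)) := by group
      _ = r * s * (e * D.z b) * (s * D.z (g (D.f r))) * (e * D.z b) := by rw [h1, h2, h3, h4]
      _ = r * s * e * (D.z b * s) * D.z (g (D.f r)) * e * D.z b := by group
      _ = r * s * (e * s) * (D.z b * D.z (g (D.f r))) * e * D.z b := by rw [c2]; group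
      _ = r * s * (s * e) * (D.z (g (D.f r)) * (D.z b * e)) * D.z b := by rw [hse, c4]; group
      _ = r * (s * s) * e * D.z (g (D.f r)) * e * (D.z b * D.z b) := by rw [c1]; group
      _ = r * (s * s) * e * (D.z (g (D.f r)) * e) := by rw [hbb]; group
      _ = r * (s * s) * (e * e) * D.z (g (D.f r)) := by rw [c3]; group
      _ = r * (s * s) * D.z (g (D.f r)) := by rw [hee, mul_one]
      _ = r * D.z (g (D.f r) + (D.f r) ^ 2 * N n γ) := by
          rw [hss, add_comm, D.z_add _ _ b2 hgb, mul_assoc]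
  have hfix : ∀ r ∈ D.Q, bar n (g (D.f r) + (D.f r) ^ 2 * N n γ) = g (D.f r) + (D.f r) ^ 2 * N n γ := by
    intro r hr
    have bf := fix_f (D := D) (D.Q_le hr).1
    exact fixed_add (h.fix _ bf) (fixed_mul (by rw [bar_pow, bf]) (fixed_N D.hq γ))
  have hzV : ∀ b, bar n b = b → D.z b ∈ D.V := fun b hb => ⟨D.z_mem b hb, D.a_z b hb, D.c_z b hb⟩
  obtain ⟨c₀, hc, hc'⟩ := D.memb (x * x) (by
    rintro _ ⟨r, hr, rfl⟩
    change x * x * r * (x * x)⁻¹ ∈ D.V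
    rw [key r hr]
    exact D.V.mul_mem (D.Q_le hr) (hzV _ (hfix r hr)))
  refine ⟨c₀, ?_⟩
  intro f hf
  obtain ⟨v, hv, v1, v2, v3⟩ := D.surj 0 0 f (bar_zero n) hf
  obtain ⟨r, hr, b, hb, hrb⟩ := D.Q_sup v ⟨hv, v1, v2⟩
  have hrP := (D.Q_le hr).1
  have fr : D.f r = f := by
    rw [← v3, hrb, D.f_mul _ hrP _ (D.z_mem b hb), D.f_z b hb, add_zero]
  obtain ⟨r', hr', hrr⟩ := hc' r hr
  change x * x * r' * (x * x)⁻¹ = _ at hrr
  rw [key r' hr'] at hrr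
  have bf := fix_f (D := D) hrP
  have bc : bar n (c₀ * D.f r) = c₀ * D.f r := fixed_mul hc bf
  have h1 : r⁻¹ * r' = D.z (c₀ * D.f r + (g (D.f r') + (D.f r') ^ 2 * N n γ)) := by
    rw [D.z_add _ _ bc (hfix r' hr')]
    have k : D.z (g (D.f r') + (D.f r') ^ 2 * N n γ) * D.z (g (D.f r') + (D.f r') ^ 2 * N n γ) = 1 := by
      rw [← D.z_add _ _ (hfix r' hr') (hfix r' hr'), add_self, D.z_zero]
    calc r⁻¹ * r' = r⁻¹ * (r' * D.z (g (D.f r') + (D.f r') ^ 2 * N n γ)) *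
          (D.z (g (D.f r') + (D.f r') ^ 2 * N n γ))⁻¹ := by group
      _ = D.z (c₀ * D.f r) * (D.z (g (D.f r') + (D.f r') ^ 2 * N n γ))⁻¹ := by rw [hrr]; group
      _ = _ := by rw [inv_eq_of_mul_eq_one_right k]
  have h2 := D.Q_z _ (fixed_add bc (hfix r' hr')) (by rw [← h1]; exact D.Q.mul_mem (D.Q.inv_mem hr) hr')
  rw [h2, D.z_zero] at h1
  have h3 : r' = r := (inv_mul_eq_one.mp h1).symm
  rw [h3] at h2
  rw [← fr]
  exact (Cfsg.Agent.StdU3.Field.add_eq_zero.mp h2).symm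

/-- the final computation -/
theorem false (hk : D.kap = 0) (h : Good D x γ g) (hγ : γ ≠ 0) {f : F} (hf : f ∈ D.Phi) (hf0 : f ≠ 0)
    (hf1 : f ≠ 1) : False := by
  have h2' : (1 : F) + 1 = 0 := CharTwo.add_self_eq_zero 1
  have bf := D.fix_Phi f hf
  have e1 : g f + f ^ 2 * N n γ = f * (g 1 + N n γ) := by
    obtain ⟨c₀, hc⟩ := h.memb_eq hk
    have k1 := hc f hf
    have k2 := hc 1 D.one_mem
    rw [one_pow, one_mul, mul_one] at k2
    rw [k1, k2, mul_comm]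
  have e2 : ∀ t : F, bar n t = t → t ≠ 0 → g (f * t) + t ^ 2 * g (f * t⁻¹) = f * (g t + t ^ 2 * g t⁻¹) := by
    intro t ht ht0
    obtain ⟨c₀, hc⟩ := (h.prod (l := Units.mk0 t ht0) ht).memb_eq hk
    have k1 := hc f hf
    have k2 := hc 1 D.one_mem
    rw [one_pow, one_mul, mul_one] at k2
    rw [← k2] at k1
    simp only [Units.val_mk0] at k1
    have a1 : g (f * (1 + t)) = g f + g (f * t) := by
      rw [mul_add, mul_one, h.add bf (fixed_mul bf ht)]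
    have a2 : g (f * (1 + t) * t⁻¹) = g (f * t⁻¹) + g f := by
      have : f * (1 + t) * t⁻¹ = f * t⁻¹ + f := by field_simp
      rw [this, h.add (fixed_mul bf (fixed_inv ht)) bf]
    have a3 : g (1 + t) = g 1 + g t := h.add (bar_one n) ht
    have a4 : g ((1 + t) * t⁻¹) = g t⁻¹ + g 1 := by
      have : (1 + t) * t⁻¹ = t⁻¹ + 1 := by field_simp
      rw [this, h.add (fixed_inv ht) (bar_one n)]
    have a5 : N n (γ + t * γ) = (1 + t ^ 2) * N n γ := by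
      have : γ + t * γ = (1 + t) * γ := by ring
      rw [this, N_mul, N_of_fixed (fixed_add (bar_one n) ht)]
      linear_combination t * N n γ * h2'
    rw [a1, a2, a3, a4, a5] at k1
    linear_combination k1 - (1 + t ^ 2) * e1
  -- `δ`
  set ν := N n γ * (f ^ 2 + f) with hν
  have e3 : ∀ t, bar n t = t → g (f * t) + f * g t + t * ν = 0 := by
    refine hua D.hq (δ := fun t => g (f * t) + f * g t + t * ν) ?_ ?_ ?_
    · intro a b ha hb
      rw [mul_add, h.add (fixed_mul bf ha) (fixed_mul bf hb), h.add ha hb]; ring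
    · rw [mul_one, one_mul, hν]
      linear_combination e1 + (f * g 1 + f * N n γ) * h2' 
    · intro t ht ht0
      have k := e2 t ht ht0
      have k1 : t ^ 2 * (t⁻¹ * ν) = t * ν := by field_simp
      linear_combination k - k1 + (f * g t) * h2' - (t ^ 2 * g (f * t⁻¹)) * h2'
  have e4 : ∀ k : ℕ, f * g (f ^ k) = f ^ (k + 1) * g 1 + k * f ^ k * ν := by
    intro k
    induction k with
    | zero => rw [pow_zero, pow_one, Nat.cast_zero]; ring
    | succ k ih =>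
      have bk : bar n (f ^ k) = f ^ k := by rw [bar_pow, bf]
      have k1 := e3 (f ^ k) bk
      rw [← pow_succ'] at k1
      have k2 : g (f ^ (k + 1)) = f * g (f ^ k) + f ^ k * ν := by
        linear_combination k1 - (f * g (f ^ k) + f ^ k * ν) * h2'
      rw [k2, ih]
      push_cast
      ring
  have hf2 : f ^ (2 ^ n - 1) = 1 := by
    have k1 : f ^ (2 ^ n) = f := bf
    have k2 : 2 ^ n = 2 ^ n - 1 + 1 := by
      have := Nat.one_le_two_pow (n := n)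
      omega
    rw [k2, pow_succ] at k1
    exact mul_right_cancel₀ hf0 (by rw [k1, one_mul])
  have e5 := e4 (2 ^ n - 1)
  rw [pow_succ, hf2, one_mul, mul_one] at e5
  have hcast : ((2 ^ n - 1 : ℕ) : F) = 1 := by
    have k1 : 1 ≤ 2 ^ n := Nat.one_le_two_pow
    rw [Nat.cast_sub k1]
    push_cast
    have k2 : (2 : F) ^ n = 0 := by
      rw [CharTwo.two_eq_zero, zero_pow]
      have := D.hq.hn
      omega
    rw [k2]
    linear_combination -h2'
  rw [hcast, one_mul] at e5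
  have e6 : ν = 0 := by linear_combination -e5
  rw [hν] at e6
  rcases mul_eq_zero.mp e6 with h1 | h1
  · exact N_ne_zero hγ h1
  · have h3 : f * (f + 1) = 0 := by linear_combination h1
    rcases mul_eq_zero.mp h3 with h4 | h4
    · exact hf0 h4
    · exact hf1 (Cfsg.Agent.StdU3.Field.add_eq_zero.mp h4)

end Good

/-! ### the swap -/

/-- the elements of `S` that commute with `W α` -/
theorem mem_A {α : F} (hα : α ≠ 0) {p : G} (hp : p ∈ D.P) :
    ((∀ v ∈ D.V, p * v = v * p) ∧ (∀ v ∈ D.W α, p * v = v * p) ∧ ∀ v ∈ D.E, p * v = v * p) ↔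
      p ∈ D.S ∧ ∃ t, bar n t = t ∧ D.a p = t * α := by
  have hcz : ∀ q ∈ D.P, p * q = q * p ↔
      Tr n (D.a p * bar n (D.a q)) + (D.c p * D.f q + D.c q * D.f p) = 0 := by
    intro q hq
    rw [D.comm p hp q hq]
    constructor
    · intro h
      exact D.z_inj _ (IsZ.fix_comm (D := D.toChart) hp hq) (mul_eq_right.mp h)
    · intro h
      rw [h, D.z_zero, one_mul]
  constructor
  · rintro ⟨h1, h2, h3⟩
    have hc : D.c p = 0 := by
      obtain ⟨q, hq, q1, q2, q3⟩ := D.surj 0 0 1 (bar_zero n) D.one_mem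
      have k := (hcz q hq).mp (h1 q ⟨hq, q1, q2⟩)
      rw [q1, q2, q3, bar_zero, mul_zero, Tr_zero, zero_mul, mul_one, zero_add, add_zero] at k
      exact k
    have hf : D.f p = 0 := by
      obtain ⟨q, hq, q1, q2, q3⟩ := exists_E D.toChart (bar_one n)
      have k := (hcz q hq.1).mp (h3 q hq)
      rw [q1, q2, q3, bar_zero, mul_zero, Tr_zero, mul_zero, one_mul, zero_add, zero_add] at k
      exact k
    refine ⟨⟨hp, hc, hf⟩, D.a p / α, ?_, by rw [div_mul_cancel₀ _ hα]⟩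
    obtain ⟨q, hq, q1, q2, q3⟩ := exists_W D.toChart α
    have k := (hcz q hq.1).mp (h2 q hq)
    rw [q1, q2, q3, hc, hf, zero_mul, mul_zero, add_zero, add_zero, Tr_comm D.hq] at k
    exact fixed_div_of_Tr D.hq k hα
  · rintro ⟨⟨-, hc, hf⟩, t, ht, hta⟩
    refine ⟨?_, ?_, ?_⟩
    · intro v hv
      rw [hcz v hv.1, hv.2.1, hv.2.2, hc, hf, bar_zero, mul_zero, Tr_zero, zero_mul, mul_zero, add_zero, add_zero]
    · intro v hv
      have bf := fix_f (D := D) hv.1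
      rw [hcz v hv.1, hv.2.1, hc, hf, zero_mul, mul_zero, add_zero, add_zero, hta, bar_mul, bf]
      have e : t * α * (D.f v * bar n α) = t * D.f v * N n α := by rw [N_def]; ring
      rw [e]
      exact Tr_of_fixed (fixed_mul (fixed_mul ht bf) (fixed_N D.hq α))
    · intro v hv
      rw [hcz v hv.1, hv.2.1, hv.2.2, hf, bar_zero, mul_zero, Tr_zero, mul_zero, mul_zero, add_zero, add_zero]

/-- `y` normalises `A_α` -/
theorem swap_A {y : G} (hy : cj y D.P = D.P) {α : F} (hα : α ≠ 0) (h1 : cj y D.V = D.W α)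
    (h2 : cj y (D.W α) = D.V) (h3 : cj y D.E = D.E) {p : G} (hp : p ∈ D.S) {t : F} (ht : bar n t = t)
    (hpt : D.a p = t * α) : y * p * y⁻¹ ∈ D.S ∧ ∃ t, bar n t = t ∧ D.a (y * p * y⁻¹) = t * α := by
  have hpc := (mem_A hα hp.1).mpr ⟨hp, t, ht, hpt⟩
  have key : ∀ v, p * (y⁻¹ * v * y) = y⁻¹ * v * y * p → y * p * y⁻¹ * v = v * (y * p * y⁻¹) := by
    intro v hv
    calc y * p * y⁻¹ * v = y * (p * (y⁻¹ * v * y)) * y⁻¹ := by group
      _ = y * (y⁻¹ * v * y * p) * y⁻¹ := by rw [hv]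
      _ = v * (y * p * y⁻¹) := by group
  refine (mem_A hα (conj_mem hy hp.1)).mp ⟨?_, ?_, ?_⟩
  · intro v hv
    rw [← h2] at hv
    exact key v (hpc.2.1 _ (mem_cj.mp hv))
  · intro v hv
    rw [← h1] at hv
    exact key v (hpc.1 _ (mem_cj.mp hv))
  · intro v hv
    rw [← h3] at hv
    exact key v (hpc.2.2 _ (mem_cj.mp hv))

theorem swapOne (D : Dat G F n) [Finite G] {y : G} (hy : cj y D.P = D.P) {α : F} (hα : α ≠ 0)
    (h1 : cj y D.V = D.W α) (h2 : cj y (D.W α) = D.V) (h3 : cj y D.E = D.E) : False := by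
  -- `κ = 0`
  have hk : D.kap = 0 := by
    obtain ⟨u, hu, u1, u2, u3⟩ := exists_W D.toChart α
    have hu' := hu
    rw [← h1] at hu'
    obtain ⟨v, hv, hvu⟩ := hu'
    change y * v * y⁻¹ = u at hvu
    have hvv : v * v = 1 := by
      have k := D.sq v hv.1
      rw [hv.2.1, hv.2.2, N_zero, mul_zero, zero_mul, add_zero, add_zero, D.z_zero] at k
      exact k
    have huu : u * u = 1 := by
      rw [← hvu]
      calc y * v * y⁻¹ * (y * v * y⁻¹) = y * (v * v) * y⁻¹ := by group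
        _ = 1 := by rw [hvv]; group
    have k := D.sq u hu.1
    rw [huu, u1, u2, u3, mul_one] at k
    have k1 := D.z_inj _ (fixed_add (fixed_add (fixed_N D.hq α) (fixed_mul D.fix_kap (fixed_N D.hq α)))
      (fixed_N D.hq α)) k.symm
    have k2 : D.kap * N n α = 0 := by linear_combination k1 - N n α * (CharTwo.two_eq_zero (R := F))
    exact (mul_eq_zero.mp k2).resolve_right (N_ne_zero hα)
  obtain ⟨ζ, hζ⟩ := exists_zeta D.toChart hy
  -- an element `f₀` of `Φ` different from `0`, `1`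
  obtain ⟨f₀, hf₀, hf00, hf01⟩ : ∃ f ∈ D.Phi, f ≠ 0 ∧ f ≠ 1 := by
    by_contra hcon
    push Not at hcon
    have k : (D.Phi : Set F) ⊆ {0, 1} := by
      intro x hx
      by_cases h0 : x = 0
      · left; exact h0
      · right; exact hcon x hx h0
    have k1 := Set.ncard_le_ncard k
    have k2 : ({0, 1} : Set F).ncard ≤ 2 := by
      rw [Set.ncard_pair zero_ne_one]
    have k3 := D.four
    rw [← Nat.card_coe_set_eq] at k1
    have k4 : Nat.card (D.Phi : Set F) = Nat.card ↥D.Phi := rfl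
    omega
  have bf₀ := D.fix_Phi f₀ hf₀
  -- the elements `v₁`, `v₀`
  obtain ⟨v₁, hv₁, a1, c1, f1⟩ := D.surj 0 0 1 (bar_zero n) D.one_mem
  obtain ⟨v₀, hv₀, a0, c0, f0⟩ := D.surj 0 0 f₀ (bar_zero n) hf₀
  set d₁ := D.f (y * v₁ * y⁻¹) with hd₁
  set d₀ := D.f (y * v₀ * y⁻¹) with hd₀
  have hE1 : ∀ e ∈ D.E, D.c (y * e * y⁻¹) * d₁ = ζ (D.c e) := by
    intro e he
    have k0 := conj_mem h3 he
    have k := hζ.comm he.1 hv₁
    rw [k0.2.1, k0.2.2, he.2.1, he.2.2, f1, c1, zero_mul, zero_mul, Tr_zero, zero_add, zero_add, mul_zero,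
      add_zero, mul_one, zero_mul, add_zero] at k
    exact k
  have hE0 : ∀ e ∈ D.E, D.c (y * e * y⁻¹) * d₀ = ζ (D.c e * f₀) := by
    intro e he
    have k0 := conj_mem h3 he
    have k := hζ.comm he.1 hv₀
    rw [k0.2.1, k0.2.2, he.2.1, he.2.2, f0, c0, zero_mul, zero_mul, Tr_zero, zero_add, zero_add, mul_zero,
      add_zero, zero_mul, add_zero] at k
    exact k
  obtain ⟨e₁, he₁, -, ec, -⟩ := exists_E D.toChart (bar_one n)
  have hd1 : d₁ ≠ 0 := by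
    intro h
    have k := hE1 e₁ he₁
    rw [h, mul_zero, ec] at k
    exact hζ.ne_zero (bar_one n) one_ne_zero k.symm
  have hd0 : d₀ ≠ 0 := by
    intro h
    have k := hE0 e₁ he₁
    rw [h, mul_zero, ec, one_mul] at k
    exact hζ.ne_zero bf₀ hf00 k.symm
  have bd1 : bar n d₁ = d₁ := fix_f (hζ.mem hv₁)
  have bd0 : bar n d₀ = d₀ := fix_f (hζ.mem hv₀)
  obtain ⟨θ, hθd⟩ : ∃ θ, θ = d₀ / d₁ := ⟨_, rfl⟩
  have bθ : bar n θ = θ := by
    rw [hθd, div_eq_mul_inv]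
    exact fixed_mul bd0 (fixed_inv bd1)
  have hθ0 : θ ≠ 0 := by rw [hθd]; exact div_ne_zero hd0 hd1
  have hζθ : ∀ c, bar n c = c → ζ (f₀ * c) = θ * ζ c := by
    intro c hc
    obtain ⟨e, he, -, ec, -⟩ := exists_E D.toChart hc
    have k1 := hE1 e he
    have k0 := hE0 e he
    rw [ec] at k1 k0
    rw [mul_comm f₀ c, ← k0, ← k1, hθd]
    field_simp
  obtain ⟨m₀, bm₀, hm₀⟩ := exists_sqrt D.hq bf₀
  obtain ⟨m, bm, hm⟩ := exists_sqrt D.hq bθ
  have hm₀0 : m₀ ≠ 0 := by rintro rfl; exact hf00 (by rw [← hm₀, mul_zero])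
  have hm0 : m ≠ 0 := by rintro rfl; exact hθ0 (by rw [← hm, mul_zero])
  set l₀ : Fˣ := Units.mk0 m₀ hm₀0 with hl₀
  set l : Fˣ := Units.mk0 m hm0 with hl
  have bl₀ : bar n (l₀ : F) = l₀ := bm₀
  have bl : bar n (l : F) = l := bm
  obtain ⟨w0, N0⟩ := w_fix bl₀
  obtain ⟨wl, Nl⟩ := w_fix bl
  have N0' : N n (l₀ : F) = f₀ := N0.trans hm₀
  have Nl' : N n (l : F) = θ := Nl.trans hm
  -- the element `x = y h₀ y⁻¹ h⁻¹`
  set x : G := y * D.h l₀ * y⁻¹ * (D.h l)⁻¹ with hx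
  have hxc : ∀ p : G, x * p * x⁻¹ = y * (D.h l₀ * (y⁻¹ * ((D.h l)⁻¹ * p * D.h l) * y) * (D.h l₀)⁻¹) * y⁻¹ := by
    intro p; rw [hx]; group
  have hpre : Pre D x := by
    refine ⟨cj_mul_eq (cj_mul_eq (cj_mul_eq hy (D.h_P l₀)) (cj_inv_eq hy)) (cj_inv_eq (D.h_P l)), ?_, ?_⟩
    · intro b hb
      have hb' : bar n (θ⁻¹ * b) = θ⁻¹ * b := fixed_mul (fixed_inv bθ) hb
      have k1 := D.h_z l _ hb'
      rw [Nl', ← mul_assoc, mul_inv_cancel₀ hθ0, one_mul] at k1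
      have k2 : (D.h l)⁻¹ * D.z b * D.h l = D.z (θ⁻¹ * b) := by rw [← k1]; group
      obtain ⟨b', hb1, hb2⟩ := hζ.surj hb'
      have k3 := hζ.eq b' hb1
      rw [hb2] at k3
      have k4 : y⁻¹ * D.z (θ⁻¹ * b) * y = D.z b' := by rw [← k3]; group
      rw [hxc, k2, k4, D.h_z l₀ b' hb1, N0', hζ.eq _ (fixed_mul bf₀ hb1), hζθ b' hb1, hb2, ← mul_assoc,
        mul_inv_cancel₀ hθ0, one_mul]
    · intro e he
      have k1 : (D.h l)⁻¹ * e * D.h l ∈ D.E := inv_conj_mem (cj_h_E D l) he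
      have k2 : y⁻¹ * ((D.h l)⁻¹ * e * D.h l) * y ∈ D.E := inv_conj_mem h3 k1
      have k3 : D.h l₀ * (y⁻¹ * ((D.h l)⁻¹ * e * D.h l) * y) * (D.h l₀)⁻¹ ∈ D.E := conj_mem (cj_h_E D l₀) k2
      have k4 := conj_mem h3 k3
      rw [hxc]
      refine ⟨k4, ?_⟩
      have j1 := hE1 _ k3
      rw [D.h_c l₀ _ k2.1, N0', hζθ _ (D.fix_c _ k2.1), ← hE1 _ k2] at j1
      have j2 : y * (y⁻¹ * ((D.h l)⁻¹ * e * D.h l) * y) * y⁻¹ = (D.h l)⁻¹ * e * D.h l := by group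
      have j3 := c_h_inv D l he.1
      rw [Nl'] at j3
      have j4 : θ * (D.c ((D.h l)⁻¹ * e * D.h l) * d₁) = D.c e * d₁ := by rw [← mul_assoc, j3]
      rw [j2, j4] at j1
      exact mul_right_cancel₀ hd1 j1
  -- the action on `A_α`
  have hAx : ∃ s ∈ D.S, D.a s = α ∧ x * s * x⁻¹ ∈ D.S ∧ D.a (x * s * x⁻¹) = α := by
    obtain ⟨s, hs, hsa⟩ := exists_S D α
    refine ⟨s, hs, hsa, ?_⟩
    have h1' : cj y⁻¹ D.V = D.W α := by
      rw [← h2, ← cj_mul, inv_mul_cancel, cj_one]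
    have h2' : cj y⁻¹ (D.W α) = D.V := by
      rw [← h1, ← cj_mul, inv_mul_cancel, cj_one]
    have hS : ∀ l : Fˣ, ∀ p ∈ D.S, (D.h l)⁻¹ * p * D.h l ∈ D.S ∧ D.h l * p * (D.h l)⁻¹ ∈ D.S := by
      intro l p hp
      refine ⟨⟨h_inv_mem D l hp.1, ?_, by rw [f_h_inv D l hp.1, hp.2.2]⟩, h_mem D l hp.1, ?_, ?_⟩
      · have k := c_h_inv D l hp.1
        rw [hp.2.1] at k
        exact (mul_eq_zero.mp k).resolve_left (N_ne_zero l.ne_zero)
      · rw [D.h_c l p hp.1, hp.2.1, mul_zero]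
      · rw [D.h_f l p hp.1, hp.2.2]
    have k1 := (hS l s hs).1
    have a1 : D.a ((D.h l)⁻¹ * s * D.h l) = (l : F)⁻¹ * α := by
      have k := a_h_inv D l hs.1
      rw [wl, hsa] at k
      rw [← k, ← mul_assoc, inv_mul_cancel₀ l.ne_zero, one_mul]
    obtain ⟨k2, t2, bt2, a2⟩ := swap_A (cj_inv_eq hy) hα h1' h2' (cj_inv_eq h3) k1 (fixed_inv bl) a1
    rw [inv_inv] at k2 a2
    have k3 := (hS l₀ _ k2).2
    have a3 := D.h_a l₀ _ k2.1
    rw [w0, a2] at a3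
    obtain ⟨k4, t4, bt4, a4⟩ := swap_A hy hα h1 h2 h3 k3 (fixed_mul bl₀ bt2) (a3.trans (mul_assoc _ _ _).symm)
    rw [← hxc] at k4 a4
    refine ⟨k4, ?_⟩
    have k5 := hpre.isZ.sq hs.1
    rw [k4.2.1, k4.2.2, hs.2.1, hs.2.2, hsa, a4, hk, zero_mul, add_zero, add_zero, add_zero, add_zero,
      N_mul, N_of_fixed bt4] at k5
    have k6 : t4 ^ 2 = 1 := mul_right_cancel₀ (N_ne_zero (n := n) hα) (by rw [k5, one_mul])
    have k7 : (t4 + 1) * (t4 + 1) = 0 := by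
      linear_combination k6 + (t4 + 1) * (CharTwo.two_eq_zero (R := F))
    have k8 : t4 = 1 := Cfsg.Agent.StdU3.Field.add_eq_zero.mp (mul_self_eq_zero.mp k7)
    rw [a4, k8, one_mul]
  -- `x` moves `V`
  have hV : cj x D.V ≠ D.V := by
    intro h
    rw [hx, cj_mul, cj_mul, cj_mul, cj_inv_eq (cj_h_V D l)] at h
    have h1' : cj y⁻¹ D.V = D.W α := by
      rw [← h2, ← cj_mul, inv_mul_cancel, cj_one]
    rw [h1', cj_h_W, w0] at h
    have h4 : D.W ((l₀ : F) * α) = D.W α := by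
      rw [cj_eq_iff, h1'] at h
      exact h
    have h5 := W_inj D.toChart h4
    have h6 : (l₀ : F) = 1 := mul_right_cancel₀ hα (by rw [h5, one_mul])
    apply hf01
    rw [← hm₀]
    have h7 : m₀ = 1 := h6
    rw [h7, mul_one]
  obtain ⟨x₁, β, hβ, hx₁⟩ := exists_act hk hpre hα hAx hV
  obtain ⟨x₂, γ, hγ, hx₂, hE₂⟩ := exists_act_cent hβ hx₁
  obtain ⟨g, hg⟩ := exists_good hx₂ hE₂
  exact hg.false hk hγ hf₀ hf00 hf01

end Cfsg.Agent.OddHalf.D4.U3.SwapOne
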