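import Cfsg.Agent.OddHalf.D4.U3.Defs

/-!
# ODD, D4, row `K = U₃(q)`: the action of `N(P)` on `Z`, elementary facts on `W A`, `E`, `V`
-/

set_option autoImplicit false
set_option linter.unusedSectionVars false

namespace Cfsg.Agent.OddHalf.D4.U3.Zeta

open Subgroup Cfsg.Agent.StdU3.Field Cfsg.Agent.StdU3.PreDef Cfsg.Agent.OddHalf.D4.CommConj
  Cfsg.Agent.OddHalf.D4.Basic Cfsg.Agent.OddHalf.D4.U3.Defs

universe u v

variable {G : Type u} [Group G] {F : Type v} [Field F] [Fintype F] [CharP F 2] {n : ℕ}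

theorem conj_mem {x : G} {X : Subgroup G} (hx : cj x X = X) {p : G} (hp : p ∈ X) : x * p * x⁻¹ ∈ X := by
  have h := mem_cj_mul (g := x) hp
  rwa [hx] at h

theorem inv_conj_mem {x : G} {X : Subgroup G} (hx : cj x X = X) {p : G} (hp : p ∈ X) : x⁻¹ * p * x ∈ X := by
  rw [← hx] at hp
  exact mem_cj.mp hp

theorem cj_inv_eq {x : G} {X : Subgroup G} (hx : cj x X = X) : cj x⁻¹ X = X := by
  have h := congrArg (cj x⁻¹) hx
  rw [← cj_mul, inv_mul_cancel] at h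
  rw [← h]
  ext p
  rw [mem_cj]
  simp

theorem cj_mul_eq {x y : G} {X : Subgroup G} (hx : cj x X = X) (hy : cj y X = X) : cj (x * y) X = X := by
  rw [cj_mul, hy, hx]

theorem cj_one (X : Subgroup G) : cj 1 X = X := by
  ext p
  rw [mem_cj]
  simp

theorem cj_eq_iff {x : G} {X Y : Subgroup G} : cj x X = Y ↔ X = cj x⁻¹ Y := by
  constructor
  · rintro rfl
    rw [← cj_mul, inv_mul_cancel, cj_one]
  · rintro rfl
    rw [← cj_mul, mul_inv_cancel, cj_one]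

theorem cj_eq_of {x : G} {X Y : Subgroup G} (h1 : ∀ p ∈ X, x * p * x⁻¹ ∈ Y) (h2 : ∀ p ∈ Y, x⁻¹ * p * x ∈ X) :
    cj x X = Y := by
  ext p
  rw [mem_cj]
  constructor
  · intro hp
    have h := h1 _ hp
    have e : x * (x⁻¹ * p * x) * x⁻¹ = p := by group
    rwa [e] at h
  · exact h2 p

section chart

variable (D : Chart G F n)

theorem z_comm {b : F} (hb : bar n b = b) {p : G} (hp : p ∈ D.P) : D.z b * p = p * D.z b := by
  have h := D.comm (D.z b) (D.z_mem b hb) p hp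
  rw [D.a_z b hb, D.c_z b hb, D.f_z b hb, zero_mul, zero_mul, mul_zero, add_zero, add_zero, Tr_zero, D.z_zero,
    one_mul] at h
  exact h

theorem Z_le : D.Z ≤ D.P := by
  rintro x ⟨b, hb, rfl⟩
  exact D.z_mem b hb

theorem z_eq {b b' : F} (hb : bar n b = b) (hb' : bar n b' = b') (h : D.z b = D.z b') : b = b' := by
  have h1 : D.z (b + b') = 1 := by
    rw [D.z_add b b' hb hb', ← h, ← D.z_add b b hb hb, add_self, D.z_zero]
  exact add_eq_zero.mp (D.z_inj _ (fixed_add hb hb') h1)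

/-- `Z` is the centre of `P` -/
theorem mem_Z_of_comm {x : G} (hx : x ∈ D.P) (h : ∀ p ∈ D.P, x * p = p * x) : x ∈ D.Z := by
  have key : ∀ p ∈ D.P, Tr n (D.a x * bar n (D.a p)) + (D.c x * D.f p + D.c p * D.f x) = 0 := by
    intro p hp
    have h1 := D.comm x hx p hp
    rw [← h p hp] at h1
    have h2 := mul_eq_right.mp h1.symm
    apply D.z_inj _ _ h2
    apply fixed_add (fixed_Tr D.hq _)
    apply fixed_add
    · exact fixed_mul (D.fix_c x hx) (D.fix_Phi _ (D.f_mem p hp))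
    · exact fixed_mul (D.fix_c p hp) (D.fix_Phi _ (D.f_mem x hx))
  have ha : D.a x = 0 := by
    apply eq_zero_of_Tr D.hq
    intro y
    obtain ⟨p, hp, e1, e2, e3⟩ := D.surj y 0 0 (bar_zero n) D.Phi.zero_mem
    have h1 := key p hp
    rw [e1, e2, e3, mul_zero, zero_mul, add_zero, add_zero] at h1
    exact h1
  have hc : D.c x = 0 := by
    obtain ⟨p, hp, e1, e2, e3⟩ := D.surj 0 0 1 (bar_zero n) D.one_mem
    have h1 := key p hp
    rw [e1, e2, e3, bar_zero, mul_zero, Tr_zero, mul_one, zero_mul, add_zero, zero_add] at h1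
    exact h1
  have hf : D.f x = 0 := by
    obtain ⟨p, hp, e1, e2, e3⟩ := D.surj 0 1 0 (bar_one n) D.Phi.zero_mem
    have h1 := key p hp
    rw [e1, e2, e3, bar_zero, mul_zero, Tr_zero, mul_zero, one_mul, zero_add, zero_add] at h1
    exact h1
  obtain ⟨b, hb, e⟩ := D.ker x hx ha hc hf
  exact ⟨b, hb, e⟩

theorem comm_of_mem_Z {x p : G} (hx : x ∈ D.Z) (hp : p ∈ D.P) : x * p = p * x := by
  obtain ⟨b, hb, rfl⟩ := hx
  exact z_comm D hb hp

theorem conj_mem_Z {x : G} (hx : cj x D.P = D.P) {t : G} (ht : t ∈ D.Z) : x * t * x⁻¹ ∈ D.Z := by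
  apply mem_Z_of_comm D (conj_mem hx (Z_le D ht))
  intro p hp
  have h1 := comm_of_mem_Z D ht (inv_conj_mem hx hp)
  calc x * t * x⁻¹ * p = x * (t * (x⁻¹ * p * x)) * x⁻¹ := by group
    _ = x * (x⁻¹ * p * x * t) * x⁻¹ := by rw [h1]
    _ = p * (x * t * x⁻¹) := by group

/-- `Z` is characteristic in `P` -/
theorem cj_Z {x : G} (hx : cj x D.P = D.P) : cj x D.Z = D.Z := by
  apply cj_eq_of
  · intro p hp; exact conj_mem_Z D hx hp
  · intro p hp
    have h1 := conj_mem_Z D (cj_inv_eq hx) hp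
    rwa [inv_inv] at h1

/-- `ζ` is the action of `x` on `Z` -/
structure IsZ (x : G) (ζ : F → F) : Prop where
  P : cj x D.P = D.P
  fix : ∀ b, bar n b = b → bar n (ζ b) = ζ b
  eq : ∀ b, bar n b = b → x * D.z b * x⁻¹ = D.z (ζ b)

theorem exists_zeta {x : G} (hx : cj x D.P = D.P) : ∃ ζ : F → F, IsZ D x ζ := by
  have h1 : ∀ b, ∃ b', bar n b = b → bar n b' = b' ∧ x * D.z b * x⁻¹ = D.z b' := by
    intro b
    by_cases hb : bar n b = b
    · obtain ⟨b', hb', e⟩ := conj_mem_Z D hx ⟨b, hb, rfl⟩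
      exact ⟨b', fun _ => ⟨hb', e⟩⟩
    · exact ⟨0, fun h => absurd h hb⟩
  choose ζ hζ using h1
  exact ⟨ζ, hx, fun b hb => (hζ b hb).1, fun b hb => (hζ b hb).2⟩

end chart

namespace IsZ

variable {D : Chart G F n} {x : G} {ζ : F → F} (h : IsZ D x ζ)

include h

theorem add {b b' : F} (hb : bar n b = b) (hb' : bar n b' = b') : ζ (b + b') = ζ b + ζ b' := by
  apply z_eq D (h.fix _ (fixed_add hb hb')) (fixed_add (h.fix _ hb) (h.fix _ hb'))
  rw [D.z_add _ _ (h.fix _ hb) (h.fix _ hb'), ← h.eq _ (fixed_add hb hb'), ← h.eq _ hb, ← h.eq _ hb',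
    D.z_add _ _ hb hb']
  group

theorem zero : ζ 0 = 0 := by
  have h1 := h.add (bar_zero n) (bar_zero n)
  rw [add_zero] at h1
  exact left_eq_add.mp h1

theorem inj {b b' : F} (hb : bar n b = b) (hb' : bar n b' = b') (e : ζ b = ζ b') : b = b' := by
  apply z_eq D hb hb'
  have h1 : x * D.z b * x⁻¹ = x * D.z b' * x⁻¹ := by rw [h.eq _ hb, h.eq _ hb', e]
  exact mul_left_cancel (mul_right_cancel h1)

theorem ne_zero {b : F} (hb : bar n b = b) (h0 : b ≠ 0) : ζ b ≠ 0 := by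
  intro h1
  rw [← h.zero] at h1
  exact h0 (h.inj hb (bar_zero n) h1)

theorem surj {b : F} (hb : bar n b = b) : ∃ b', bar n b' = b' ∧ ζ b' = b := by
  obtain ⟨b', hb', e⟩ := conj_mem_Z D (cj_inv_eq h.P) ⟨b, hb, rfl⟩
  refine ⟨b', hb', ?_⟩
  apply z_eq D (h.fix _ hb') hb
  rw [← h.eq _ hb', ← e]
  group

theorem mem {p : G} (hp : p ∈ D.P) : x * p * x⁻¹ ∈ D.P := conj_mem h.P hp

/-- elements congruent modulo `Z` have the same image -/
theorem congr {p q : G} (hp : p ∈ D.P) (hq : q ∈ D.P) (ha : D.a p = D.a q) (hc : D.c p = D.c q)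
    (hf : D.f p = D.f q) : D.a (x * p * x⁻¹) = D.a (x * q * x⁻¹) ∧ D.c (x * p * x⁻¹) = D.c (x * q * x⁻¹) ∧
      D.f (x * p * x⁻¹) = D.f (x * q * x⁻¹) := by
  have hpq : p * q⁻¹ ∈ D.P := D.P.mul_mem hp (D.P.inv_mem hq)
  obtain ⟨b, hb, e⟩ := D.ker (p * q⁻¹) hpq
    (by rw [D.a_mul p hp _ (D.P.inv_mem hq), D.a_inv hq, ha, add_self])
    (by rw [D.c_mul p hp _ (D.P.inv_mem hq), D.c_inv hq, hc, add_self])
    (by rw [D.f_mul p hp _ (D.P.inv_mem hq), D.f_inv hq, hf, add_self])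
  have e1 : x * p * x⁻¹ = D.z (ζ b) * (x * q * x⁻¹) := by
    rw [← h.eq b hb, ← e]; group
  have hz := D.z_mem _ (h.fix b hb)
  have hq' := h.mem hq
  rw [e1, D.a_mul _ hz _ hq', D.c_mul _ hz _ hq', D.f_mul _ hz _ hq', D.a_z _ (h.fix b hb), D.c_z _ (h.fix b hb),
    D.f_z _ (h.fix b hb), zero_add, zero_add, zero_add]
  exact ⟨rfl, rfl, rfl⟩

theorem a_mul {p q : G} (hp : p ∈ D.P) (hq : q ∈ D.P) :
    D.a (x * (p * q) * x⁻¹) = D.a (x * p * x⁻¹) + D.a (x * q * x⁻¹) := by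
  rw [← D.a_mul _ (h.mem hp) _ (h.mem hq)]
  congr 1; group

theorem c_mul {p q : G} (hp : p ∈ D.P) (hq : q ∈ D.P) :
    D.c (x * (p * q) * x⁻¹) = D.c (x * p * x⁻¹) + D.c (x * q * x⁻¹) := by
  rw [← D.c_mul _ (h.mem hp) _ (h.mem hq)]
  congr 1; group

theorem f_mul {p q : G} (hp : p ∈ D.P) (hq : q ∈ D.P) :
    D.f (x * (p * q) * x⁻¹) = D.f (x * p * x⁻¹) + D.f (x * q * x⁻¹) := by
  rw [← D.f_mul _ (h.mem hp) _ (h.mem hq)]
  congr 1; group

omit h in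
theorem fix_sq {p : G} (hp : p ∈ D.P) : bar n (N n (D.a p) + D.kap * D.c p + D.c p * D.f p) =
    N n (D.a p) + D.kap * D.c p + D.c p * D.f p :=
  fixed_add (fixed_add (fixed_N D.hq _) (fixed_mul D.fix_kap (D.fix_c p hp)))
    (fixed_mul (D.fix_c p hp) (D.fix_Phi _ (D.f_mem p hp)))

omit h in
theorem fix_comm {p q : G} (hp : p ∈ D.P) (hq : q ∈ D.P) :
    bar n (Tr n (D.a p * bar n (D.a q)) + (D.c p * D.f q + D.c q * D.f p)) =
      Tr n (D.a p * bar n (D.a q)) + (D.c p * D.f q + D.c q * D.f p) :=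
  fixed_add (fixed_Tr D.hq _) (fixed_add (fixed_mul (D.fix_c p hp) (D.fix_Phi _ (D.f_mem q hq)))
    (fixed_mul (D.fix_c q hq) (D.fix_Phi _ (D.f_mem p hp))))

/-- squares -/
theorem sq {p : G} (hp : p ∈ D.P) : N n (D.a (x * p * x⁻¹)) + D.kap * D.c (x * p * x⁻¹) +
    D.c (x * p * x⁻¹) * D.f (x * p * x⁻¹) = ζ (N n (D.a p) + D.kap * D.c p + D.c p * D.f p) := by
  apply z_eq D (fix_sq (h.mem hp)) (h.fix _ (fix_sq hp))
  rw [← D.sq _ (h.mem hp), ← h.eq _ (fix_sq hp), ← D.sq p hp]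
  group

/-- commutators -/
theorem comm {p q : G} (hp : p ∈ D.P) (hq : q ∈ D.P) :
    Tr n (D.a (x * p * x⁻¹) * bar n (D.a (x * q * x⁻¹))) +
      (D.c (x * p * x⁻¹) * D.f (x * q * x⁻¹) + D.c (x * q * x⁻¹) * D.f (x * p * x⁻¹)) =
    ζ (Tr n (D.a p * bar n (D.a q)) + (D.c p * D.f q + D.c q * D.f p)) := by
  apply z_eq D (fix_comm (h.mem hp) (h.mem hq)) (h.fix _ (fix_comm hp hq))
  have h1 := D.comm _ (h.mem hp) _ (h.mem hq)
  have h2 := D.comm p hp q hq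
  rw [← h.eq _ (fix_comm hp hq), ← mul_inv_eq_iff_eq_mul.mpr h1, ← mul_inv_eq_iff_eq_mul.mpr h2]
  group

theorem inv_mem {p : G} (hp : p ∈ D.P) : x⁻¹ * p * x ∈ D.P := inv_conj_mem h.P hp

end IsZ

/-! ### `W A`, `E`, `V` -/

theorem N_w (h : Qd F n) (l : Fˣ) : N n (w n l) = N n (l : F) := by
  have h0 : N n (l : F) ≠ 0 := N_ne_zero l.ne_zero
  unfold w
  rw [N_mul, N_inv, N_bar h, sq, N_mul, mul_assoc, mul_inv_cancel₀ h0, mul_one]

theorem w_ne (l : Fˣ) : w n l ≠ 0 := by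
  unfold w
  exact mul_ne_zero (pow_ne_zero 2 l.ne_zero) (inv_ne_zero fun h' => l.ne_zero (bar_eq_zero h'))

theorem w_fixed {l : Fˣ} (h : bar n (l : F) = l) : w n l = l := by
  unfold w
  rw [h, sq, mul_assoc, mul_inv_cancel₀ l.ne_zero, mul_one]

theorem w_norm {l : Fˣ} (h : N n (l : F) = 1) : w n l = (l : F) ^ 3 := by
  unfold w
  have h1 : (bar n (l : F))⁻¹ = l := by
    apply inv_eq_of_mul_eq_one_left
    rwa [N_def] at h
  rw [h1]; ring

section chart2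

variable (D : Chart G F n)

theorem exists_W (A : F) : ∃ x ∈ D.W A, D.a x = A ∧ D.c x = N n A ∧ D.f x = 1 := by
  obtain ⟨x, hx, e1, e2, e3⟩ := D.surj A (N n A) 1 (fixed_N D.hq A) D.one_mem
  exact ⟨x, ⟨hx, by rw [e1, e3, one_mul], by rw [e2, e3, one_mul]⟩, e1, e2, e3⟩

theorem exists_E {γ : F} (hγ : bar n γ = γ) : ∃ x ∈ D.E, D.a x = 0 ∧ D.c x = γ ∧ D.f x = 0 := by
  obtain ⟨x, hx, e1, e2, e3⟩ := D.surj 0 γ 0 hγ D.Phi.zero_mem
  exact ⟨x, ⟨hx, e1, e3⟩, e1, e2, e3⟩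

theorem W_inj {A B : F} (h : D.W A = D.W B) : A = B := by
  obtain ⟨x, hx, e1, -, e3⟩ := exists_W D A
  rw [h] at hx
  have h1 := hx.2.1
  rw [e1, e3, one_mul] at h1
  exact h1

theorem W_ne_E (A : F) : D.W A ≠ D.E := by
  intro h
  obtain ⟨x, hx, -, -, e3⟩ := exists_W D A
  rw [h] at hx
  have h1 := hx.2.2
  rw [e3] at h1
  exact one_ne_zero h1

theorem V_ne_E : D.V ≠ D.E := by
  rw [← D.W_zero]; exact W_ne_E D 0

theorem W_le (A : F) : D.W A ≤ D.P := fun _ hx => hx.1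
theorem E_le : D.E ≤ D.P := fun _ hx => hx.1
theorem V_le : D.V ≤ D.P := fun _ hx => hx.1

end chart2

section dat

variable (D : Dat G F n)

theorem h_mem (l : Fˣ) {x : G} (hx : x ∈ D.P) : D.h l * x * (D.h l)⁻¹ ∈ D.P := conj_mem (D.h_P l) hx

theorem h_inv_mem (l : Fˣ) {x : G} (hx : x ∈ D.P) : (D.h l)⁻¹ * x * D.h l ∈ D.P := inv_conj_mem (D.h_P l) hx

theorem a_h_inv (l : Fˣ) {x : G} (hx : x ∈ D.P) : w n l * D.a ((D.h l)⁻¹ * x * D.h l) = D.a x := by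
  rw [← D.h_a l _ (h_inv_mem D l hx)]
  congr 1; group

theorem c_h_inv (l : Fˣ) {x : G} (hx : x ∈ D.P) : N n (l : F) * D.c ((D.h l)⁻¹ * x * D.h l) = D.c x := by
  rw [← D.h_c l _ (h_inv_mem D l hx)]
  congr 1; group

theorem f_h_inv (l : Fˣ) {x : G} (hx : x ∈ D.P) : D.f ((D.h l)⁻¹ * x * D.h l) = D.f x := by
  rw [← D.h_f l _ (h_inv_mem D l hx)]
  congr 1; group

theorem cj_h_W (l : Fˣ) (A : F) : cj (D.h l) (D.W A) = D.W (w n l * A) := by
  apply cj_eq_of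
  · intro x hx
    refine ⟨h_mem D l hx.1, ?_, ?_⟩
    · rw [D.h_a l x hx.1, D.h_f l x hx.1, hx.2.1]; ring
    · rw [D.h_c l x hx.1, D.h_f l x hx.1, hx.2.2, N_mul, N_w D.hq]; ring
  · intro x hx
    refine ⟨h_inv_mem D l hx.1, ?_, ?_⟩
    · have h1 := a_h_inv D l hx.1
      rw [hx.2.1] at h1
      rw [f_h_inv D l hx.1]
      apply mul_left_cancel₀ (w_ne (n := n) l)
      rw [h1]; ring
    · have h1 := c_h_inv D l hx.1
      rw [hx.2.2, N_mul, N_w D.hq] at h1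
      rw [f_h_inv D l hx.1]
      apply mul_left_cancel₀ (N_ne_zero (n := n) l.ne_zero)
      rw [h1]; ring

theorem cj_h_V (l : Fˣ) : cj (D.h l) D.V = D.V := by
  rw [← D.W_zero, cj_h_W, mul_zero]

theorem cj_h_E (l : Fˣ) : cj (D.h l) D.E = D.E := by
  apply cj_eq_of
  · intro x hx
    refine ⟨h_mem D l hx.1, ?_, ?_⟩
    · rw [D.h_a l x hx.1, hx.2.1, mul_zero]
    · rw [D.h_f l x hx.1, hx.2.2]
  · intro x hx
    refine ⟨h_inv_mem D l hx.1, ?_, ?_⟩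
    · have h1 := a_h_inv D l hx.1
      rw [hx.2.1] at h1
      exact (mul_eq_zero.mp h1).resolve_left (w_ne l)
    · rw [f_h_inv D l hx.1, hx.2.2]

/-- the partner of a conjugate of `V` is well defined -/
theorem partner {x y : G} (h : cj x D.V = cj y D.V) : cj x D.E = cj y D.E := by
  have h1 : cj (y⁻¹ * x) D.V = D.V := by
    rw [cj_mul, h, ← cj_mul, inv_mul_cancel, cj_one]
  have h2 := D.V_E _ h1
  rw [cj_mul] at h2
  rw [cj_eq_iff, inv_inv] at h2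
  exact h2

end dat

end Cfsg.Agent.OddHalf.D4.U3.Zeta
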