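import Cfsg.Agent.OddHalf.D4.U3.Inv
import Cfsg.Agent.OddHalf.D4.U3.Zeta

/-!
# ODD, D4, row `K = U₃(q)`: no element interchanges `V` with `V_α` and `E` with `V_β`
-/

set_option autoImplicit false
set_option linter.unusedSectionVars false

namespace Cfsg.Agent.OddHalf.D4.U3.SwapTwo

open Subgroup Cfsg.Agent.StdU3.Field Cfsg.Agent.StdU3.PreDef Cfsg.Agent.OddHalf.D4.CommConj
  Cfsg.Agent.OddHalf.D4.Basic Cfsg.Agent.OddHalf.D4.U3.Zeta
open Cfsg.Agent.OddHalf.D4.U3.Defs (Chart Dat)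

universe u v

variable {G : Type u} [Group G] {F : Type v} [Field F] [Fintype F] [CharP F 2] {n : ℕ}

/-! ### The field -/

theorem w_mul (l l' : Fˣ) : w n (l * l') = w n l * w n l' := by
  unfold w
  rw [Units.val_mul, bar_mul, mul_inv]; ring

/-- cubes are values of `w` -/
theorem w_cube (h : Qd F n) (l : Fˣ) : ∃ l', w n l' = (l : F) ^ 3 := by
  let m : Fˣ := Units.mk0 (N n (l : F)) (N_ne_zero l.ne_zero)
  refine ⟨l * m, ?_⟩
  rw [w_mul, w_fixed (l := m) (fixed_N h _)]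
  show w n l * (N n (l : F)) = _
  unfold w
  have h0 : bar n (l : F) ≠ 0 := fun h' => l.ne_zero (bar_eq_zero h')
  rw [N_def]
  field_simp

/-- two of four elements are congruent modulo the values of `w` -/
theorem exists_pair (h : Qd F n) (A : Fin 4 → F) (hA : ∀ i, A i ≠ 0) :
    ∃ i j, i ≠ j ∧ ∃ l : Fˣ, A j = w n l * A i := by
  obtain ⟨g, hg⟩ := IsCyclic.exists_generator (α := Fˣ)
  have h1 : ∀ i, ∃ k : ℤ, g ^ k = Units.mk0 (A i) (hA i) := fun i => hg _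
  choose k hk using h1
  have h2 : ∃ i j, i ≠ j ∧ k i % 3 = k j % 3 := by
    by_contra hcon
    push Not at hcon
    let f : Fin 4 → Fin 3 := fun i => ⟨(k i % 3).toNat, by omega⟩
    obtain ⟨i, j, hij, hf⟩ := Fintype.exists_ne_map_eq_of_card_lt f (by simp)
    apply hcon i j hij
    have h3 := congrArg Fin.val hf
    change (k i % 3).toNat = (k j % 3).toNat at h3
    omega
  obtain ⟨i, j, hij, h3⟩ := h2
  refine ⟨i, j, hij, ?_⟩
  obtain ⟨m, hm⟩ : ∃ m : ℤ, k j = m * 3 + k i := ⟨(k j - k i) / 3, by omega⟩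
  obtain ⟨l, hl⟩ := w_cube h (g ^ m)
  refine ⟨l, ?_⟩
  have e : Units.mk0 (A j) (hA j) = (g ^ m) ^ 3 * Units.mk0 (A i) (hA i) := by
    rw [← hk i, ← hk j, hm, zpow_add, zpow_mul]; rfl
  have e2 := congrArg Units.val e
  rw [Units.val_mul, Units.val_mk0, Units.val_mk0, Units.val_pow_eq_pow_val] at e2
  rw [hl, e2]

/-- for `q = 4` every element is a value of `w` -/
theorem exists_w (h : Qd F 2) (x : Fˣ) : ∃ l : Fˣ, w 2 l = x := by
  refine ⟨x ^ 7, ?_⟩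
  classical
  have h1 : x ^ 15 = 1 := by
    have h2 := pow_card_eq_one (x := x)
    rw [Fintype.card_units, h.hK] at h2
    exact h2
  have h1' : (x : F) ^ 15 = 1 := by
    rw [← Units.val_pow_eq_pow_val, h1, Units.val_one]
  unfold w
  rw [bar_def, Units.val_pow_eq_pow_val]
  rw [mul_inv_eq_iff_eq_mul₀ (pow_ne_zero _ (pow_ne_zero _ x.ne_zero))]
  calc ((x : F) ^ 7) ^ 2 = (x : F) ^ 14 * 1 := by ring
    _ = (x : F) ^ 14 * (x : F) ^ 15 := by rw [h1']
    _ = _ := by ring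

/-- an element of `F_q` with small powers different from one -/
theorem exists_t (h : Qd F n) (h3 : 3 ≤ n) :
    ∃ t : F, bar n t = t ∧ t ≠ 0 ∧ ∀ k, 1 ≤ k → k ≤ 5 → t ^ k ≠ 1 := by
  obtain ⟨g, hg⟩ := exists_generator h
  have h8 : 8 ≤ 2 ^ n := by
    calc 8 = 2 ^ 3 := by norm_num
      _ ≤ 2 ^ n := Nat.pow_le_pow_right (by norm_num) h3
  have hf := card_factor (2 ^ n) (by omega)
  refine ⟨N n (g : F), fixed_N h _, N_ne_zero g.ne_zero, fun k hk hk5 h1 => ?_⟩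
  have h2 : g ^ ((2 ^ n + 1) * k) = 1 := by
    apply Units.val_injective
    rw [Units.val_pow_eq_pow_val, pow_mul, ← N_eq_pow, h1, Units.val_one]
  have h4 := orderOf_dvd_of_pow_eq_one h2
  rw [hg, hf, mul_comm (2 ^ n - 1)] at h4
  have h5 := Nat.dvd_of_mul_dvd_mul_left (by omega) h4
  have h6 := Nat.le_of_dvd hk h5
  omega

/-! ### The ratio -/

theorem ratio (D : Dat G F n) {g g' : G} {A B A' B' : F} {l : Fˣ}
    (h1 : cj g D.V = D.W A) (h2 : cj g D.E = D.W B) (h1' : cj g' D.V = D.W A') (h2' : cj g' D.E = D.W B')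
    (hA : A' = w n l * A) : B' = w n l * B := by
  have e1 : cj (D.h l * g) D.V = cj g' D.V := by rw [cj_mul, h1, cj_h_W, h1', hA]
  have e2 := partner D e1
  rw [cj_mul, h2, cj_h_W, h2'] at e2
  exact (W_inj D.toChart e2).symm

/-! ### The coefficients -/

section

variable (D : Dat G F n) {y : G} {α β : F}

/-- coefficients of `y` on the four lines -/
structure Co (D : Dat G F n) (y : G) (α β : F) (ζ : F → F) where
  z : IsZ D.toChart y ζ
  k : D.kap = 0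
  Phi : ∀ b, bar n b = b → b ∈ D.Phi
  α0 : α ≠ 0
  β0 : β ≠ 0
  h1 : cj y D.V = D.W α
  h2 : cj y (D.W α) = D.V
  h3 : cj y D.E = D.W β
  h4 : cj y (D.W β) = D.E

namespace Co

variable {D} {ζ : F → F} (C : Co D y α β ζ)

include C

theorem ne : α ≠ β := by
  rintro rfl
  have h := C.h1.trans C.h3.symm
  rw [cj_eq_iff, ← cj_mul, inv_mul_cancel, cj_one] at h
  exact V_ne_E D.toChart h

/-- images of the elements of `V` -/
theorem imV {p : G} (hp : p ∈ D.V) : D.a (y * p * y⁻¹) = D.f (y * p * y⁻¹) * α ∧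
    D.c (y * p * y⁻¹) = D.f (y * p * y⁻¹) * N n α := by
  have h := mem_cj_mul (g := y) hp
  rw [C.h1] at h
  exact h.2

theorem imA {p : G} (hp : p ∈ D.W α) : D.a (y * p * y⁻¹) = 0 ∧ D.c (y * p * y⁻¹) = 0 := by
  have h := mem_cj_mul (g := y) hp
  rw [C.h2] at h
  exact h.2

theorem imE {p : G} (hp : p ∈ D.E) : D.a (y * p * y⁻¹) = D.f (y * p * y⁻¹) * β ∧
    D.c (y * p * y⁻¹) = D.f (y * p * y⁻¹) * N n β := by
  have h := mem_cj_mul (g := y) hp
  rw [C.h3] at h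
  exact h.2

theorem imB {p : G} (hp : p ∈ D.W β) : D.a (y * p * y⁻¹) = 0 ∧ D.f (y * p * y⁻¹) = 0 := by
  have h := mem_cj_mul (g := y) hp
  rw [C.h4] at h
  exact h.2

omit C in
theorem trN (h : Qd F n) (x y : F) : Tr n (x * bar n y) = N n (x + y) + N n x + N n y := by
  rw [N_add' h]
  have e : N n x + N n y + Tr n (x * bar n y) + N n x + N n y =
    Tr n (x * bar n y) + (N n x + N n x) + (N n y + N n y) := by ring
  rw [e, add_self, add_self, add_zero, add_zero]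

omit C in
theorem fixf {p : G} (hp : p ∈ D.P) : bar n (D.f p) = D.f p := D.fix_Phi _ (D.f_mem p hp)

/-- (R1) -/
theorem r1 {p e : G} (hp : p ∈ D.V) (he : e ∈ D.E) :
    D.f (y * p * y⁻¹) * D.f (y * e * y⁻¹) * N n (α + β) = ζ (D.c e * D.f p) := by
  have h := C.z.comm hp.1 he.1
  obtain ⟨e1, e2⟩ := C.imV hp
  obtain ⟨e3, e4⟩ := C.imE he
  rw [e1, e2, e3, e4, hp.2.1, hp.2.2, he.2.2] at h
  rw [zero_mul, Tr_zero, zero_mul, zero_add, zero_add] at h
  rw [← h, bar_mul, fixf (C.z.mem he.1)]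
  have e5 : D.f (y * p * y⁻¹) * α * (D.f (y * e * y⁻¹) * bar n β) =
    (D.f (y * p * y⁻¹) * D.f (y * e * y⁻¹)) * (α * bar n β) := by ring
  rw [e5, Tr_mul_fixed (fixed_mul (fixf (C.z.mem hp.1)) (fixf (C.z.mem he.1))), N_add' D.hq]
  ring

/-- (R2) -/
theorem r2 {p q : G} (hp : p ∈ D.V) (hq : q ∈ D.W α) :
    D.f (y * p * y⁻¹) * D.f (y * q * y⁻¹) * N n α = ζ (D.f p * D.f q * N n α) := by
  have h := C.z.comm hp.1 hq.1
  obtain ⟨e1, e2⟩ := C.imV hp
  obtain ⟨e3, e4⟩ := C.imA hq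
  rw [e1, e2, e3, e4, hp.2.1, hp.2.2, hq.2.2, bar_zero, mul_zero, zero_mul, zero_mul, zero_mul, Tr_zero, zero_add,
    add_zero, zero_add, zero_add] at h
  have e5 : D.f p * D.f q * N n α = D.f q * N n α * D.f p := by ring
  rw [e5, ← h]; ring

/-- (R3) -/
theorem r3 {p q : G} (hp : p ∈ D.V) (hq : q ∈ D.W β) :
    D.f (y * p * y⁻¹) * D.c (y * q * y⁻¹) = ζ (D.f p * D.f q * N n β) := by
  have h := C.z.comm hp.1 hq.1
  obtain ⟨e1, e2⟩ := C.imV hp
  obtain ⟨e3, e4⟩ := C.imB hq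
  rw [e1, e2, e3, e4, hp.2.1, hp.2.2, hq.2.2, bar_zero, mul_zero, zero_mul, zero_mul, mul_zero, Tr_zero, zero_add,
    zero_add, zero_add, zero_add] at h
  have e5 : D.f p * D.f q * N n β = D.f q * N n β * D.f p := by ring
  rw [e5, ← h]; ring

/-- (R4) -/
theorem r4 {e q : G} (he : e ∈ D.E) (hq : q ∈ D.W β) :
    D.f (y * e * y⁻¹) * D.c (y * q * y⁻¹) = ζ (D.c e * D.f q) := by
  have h := C.z.comm he.1 hq.1
  obtain ⟨e1, e2⟩ := C.imE he
  obtain ⟨e3, e4⟩ := C.imB hq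
  rw [e1, e2, e3, e4, he.2.1, he.2.2, bar_zero, mul_zero, zero_mul, mul_zero, mul_zero, Tr_zero, zero_add,
    zero_add, zero_add, add_zero] at h
  rw [← h]; ring

/-- (R5) -/
theorem r5 {e q : G} (he : e ∈ D.E) (hq : q ∈ D.W α) :
    D.f (y * e * y⁻¹) * D.f (y * q * y⁻¹) * N n β = ζ (D.c e * D.f q) := by
  have h := C.z.comm he.1 hq.1
  obtain ⟨e1, e2⟩ := C.imE he
  obtain ⟨e3, e4⟩ := C.imA hq
  rw [e1, e2, e3, e4, he.2.1, he.2.2, bar_zero, mul_zero, zero_mul, mul_zero, zero_mul, Tr_zero, zero_add,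
    zero_add, add_zero, add_zero] at h
  rw [← h]; ring

omit C in
theorem exists_V (Φ : ∀ b, bar n b = b → b ∈ D.Phi) {φ : F} (hφ : bar n φ = φ) :
    ∃ x ∈ D.V, D.a x = 0 ∧ D.c x = 0 ∧ D.f x = φ := by
  obtain ⟨x, hx, e1, e2, e3⟩ := D.surj 0 0 φ (bar_zero n) (Φ φ hφ)
  exact ⟨x, ⟨hx, e1, e2⟩, e1, e2, e3⟩

omit C in
theorem exists_W' (Φ : ∀ b, bar n b = b → b ∈ D.Phi) (A : F) {φ : F} (hφ : bar n φ = φ) :
    ∃ x ∈ D.W A, D.a x = φ * A ∧ D.c x = φ * N n A ∧ D.f x = φ := by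
  obtain ⟨x, hx, e1, e2, e3⟩ := D.surj (φ * A) (φ * N n A) φ (fixed_mul hφ (fixed_N D.hq A)) (Φ φ hφ)
  exact ⟨x, ⟨hx, by rw [e1, e3], by rw [e2, e3]⟩, e1, e2, e3⟩

end Co

/-- the constants -/
structure Cs (D : Dat G F n) (y : G) (α β : F) (τ : F → F) (d e p : F) : Prop where
  d0 : d ≠ 0
  e0 : e ≠ 0
  fix : ∀ b, bar n b = b → bar n (τ b) = τ b
  one : τ 1 = 1
  add : ∀ b b', bar n b = b → bar n b' = b' → τ (b + b') = τ b + τ b'
  mul : ∀ b b', bar n b = b → bar n b' = b' → τ (b * b') = τ b * τ b'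
  inj : ∀ b b', bar n b = b → bar n b' = b' → τ b = τ b' → b = b'
  V : ∀ v ∈ D.V, D.f (y * v * y⁻¹) = d * τ (D.f v)
  E : ∀ t ∈ D.E, D.f (y * t * y⁻¹) = e * τ (D.c t)
  A : ∀ q ∈ D.W α, D.f (y * q * y⁻¹) = p * τ (D.f q)
  e1 : d = e * τ (N n β)
  e2 : p * N n β = d * N n (α + β)
  e3 : d * N n α = e * τ (N n α) * N n β

theorem exists_cs {ζ : F → F} (C : Co D y α β ζ) : ∃ τ d e p, Cs D y α β τ d e p := by
  obtain ⟨v, hv, -, -, fv⟩ := Co.exists_V C.Phi (bar_one n)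
  obtain ⟨t, ht, -, ct, -⟩ := exists_E D.toChart (bar_one n)
  obtain ⟨q, hq, -, -, fq⟩ := exists_W D.toChart α
  obtain ⟨q', hq', -, -, fq'⟩ := exists_W D.toChart β
  have ζ1 : ζ 1 ≠ 0 := C.z.ne_zero (bar_one n) one_ne_zero
  have hNα : N n α ≠ 0 := N_ne_zero C.α0
  have hNβ : N n β ≠ 0 := N_ne_zero C.β0
  set d := D.f (y * v * y⁻¹) with hd
  set e := D.f (y * t * y⁻¹) with he
  set p := D.f (y * q * y⁻¹) with hp
  set c := D.c (y * q' * y⁻¹) with hc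
  have k1 : d * e * N n (α + β) = ζ 1 := by
    have h := C.r1 hv ht
    rw [ct, fv, mul_one] at h
    exact h
  have d0 : d ≠ 0 := by
    intro h; rw [h, zero_mul, zero_mul] at k1; exact ζ1 k1.symm
  have e0 : e ≠ 0 := by
    intro h; rw [h, mul_zero, zero_mul] at k1; exact ζ1 k1.symm
  have ν0 : N n (α + β) ≠ 0 := by
    intro h; rw [h, mul_zero] at k1; exact ζ1 k1.symm
  have k4 : e * c = ζ 1 := by
    have h := C.r4 ht hq'
    rw [ct, fq', mul_one] at h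
    exact h
  have k5 : e * p * N n β = ζ 1 := by
    have h := C.r5 ht hq
    rw [ct, fq, mul_one] at h
    exact h
  have p0 : p ≠ 0 := by
    intro h; rw [h, mul_zero, zero_mul] at k5; exact ζ1 k5.symm
  have c0 : c ≠ 0 := by
    intro h; rw [h, mul_zero] at k4; exact ζ1 k4.symm
  have k2 : d * p * N n α = ζ (N n α) := by
    have h := C.r2 hv hq
    rw [fv, fq, mul_one, one_mul] at h
    exact h
  have k3 : d * c = ζ (N n β) := by
    have h := C.r3 hv hq'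
    rw [fv, fq', mul_one, one_mul] at h
    exact h
  have hV : ∀ v' ∈ D.V, D.f (y * v' * y⁻¹) = d * (ζ (D.f v') / ζ 1) := by
    intro v' hv'
    have h := C.r1 hv' ht
    rw [ct, one_mul] at h
    rw [← h, ← k1]
    change _ = d * (D.f (y * v' * y⁻¹) * e * N n (α + β) / (d * e * N n (α + β)))
    field_simp
  have hE : ∀ t' ∈ D.E, D.f (y * t' * y⁻¹) = e * (ζ (D.c t') / ζ 1) := by
    intro t' ht'
    have h := C.r1 hv ht'
    rw [fv, mul_one] at h
    rw [← h, ← k1]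
    change _ = e * (d * D.f (y * t' * y⁻¹) * N n (α + β) / (d * e * N n (α + β)))
    field_simp
  have hA : ∀ q'' ∈ D.W α, D.f (y * q'' * y⁻¹) = p * (ζ (D.f q'') / ζ 1) := by
    intro q'' hq''
    have h := C.r5 ht hq''
    rw [ct, one_mul] at h
    rw [← h, ← k5]
    change _ = p * (e * D.f (y * q'' * y⁻¹) * N n β / (e * p * N n β))
    field_simp
  have hmul : ∀ b b', bar n b = b → bar n b' = b' → ζ (b * b') * ζ 1 = ζ b * ζ b' := by
    intro b b' hb hb'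
    obtain ⟨v', hv', -, -, fv'⟩ := Co.exists_V C.Phi hb
    obtain ⟨t', ht', -, ct', -⟩ := exists_E D.toChart hb'
    have h1 := C.r1 hv' ht'
    have h2 := C.r1 hv' ht
    have h3 := C.r1 hv ht'
    have h4 := C.r1 hv ht
    rw [ct', fv', mul_comm b' b] at h1
    rw [ct, fv', one_mul] at h2
    rw [ct', fv, mul_one] at h3
    rw [ct, fv, mul_one] at h4
    rw [← h1, ← h2, ← h3, ← h4]; ring
  refine ⟨fun b => ζ b / ζ 1, d, e, p, d0, e0, ?_, ?_, ?_, ?_, ?_, hV, hE, hA, ?_, ?_, ?_⟩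
  · intro b hb
    show bar n (ζ b / ζ 1) = ζ b / ζ 1
    rw [div_eq_mul_inv]
    exact fixed_mul (C.z.fix b hb) (fixed_inv (C.z.fix 1 (bar_one n)))
  · exact div_self ζ1
  · intro b b' hb hb'
    show ζ (b + b') / ζ 1 = ζ b / ζ 1 + ζ b' / ζ 1
    rw [C.z.add hb hb', add_div]
  · intro b b' hb hb'
    show ζ (b * b') / ζ 1 = ζ b / ζ 1 * (ζ b' / ζ 1)
    have h := hmul b b' hb hb'
    field_simp
    exact h
  · intro b b' hb hb' h
    have h' : ζ b / ζ 1 = ζ b' / ζ 1 := h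
    rw [div_left_inj' ζ1] at h'
    exact C.z.inj hb hb' h'
  · show d = e * (ζ (N n β) / ζ 1)
    rw [← k3, ← k4]
    field_simp
  · apply mul_left_cancel₀ e0
    calc e * (p * N n β) = e * p * N n β := by ring
      _ = d * e * N n (α + β) := by rw [k5, k1]
      _ = _ := by ring
  · show d * N n α = e * (ζ (N n α) / ζ 1) * N n β
    rw [← k2, ← k5]
    field_simp

/-! ### The images of `V_{xα}` and `V_{xβ}` -/

variable {D} {ζ τ : F → F} {d e p : F}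

theorem mem1 (C : Co D y α β ζ) (K : Cs D y α β τ d e p) {x : F} (hx : bar n x = x) :
    ∃ q ∈ D.W (x * α), D.f q = 1 ∧
      D.a (y * q * y⁻¹) * N n β = d * (1 + τ x) * (α * β) * bar n (τ x * α + β) ∧
      D.f (y * q * y⁻¹) * N n β = d * N n (τ x * α + β) := by
  obtain ⟨q1, hq1, a1, c1, f1⟩ := Co.exists_W' C.Phi α hx
  obtain ⟨q2, hq2, a2, c2, f2⟩ := Co.exists_V C.Phi (fixed_add (bar_one n) hx)
  have hm : bar n ((x + x * x) * N n α) = (x + x * x) * N n α :=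
    fixed_mul (fixed_add hx (fixed_mul hx hx)) (fixed_N D.hq _)
  obtain ⟨q3, hq3, a3, c3, f3⟩ := exists_E D.toChart hm
  have h1 := hq1.1
  have h2 := hq2.1
  have h3 := hq3.1
  have h12 := D.P.mul_mem h1 h2
  have hN : N n (x * α) = x ^ 2 * N n α := by rw [N_mul, N_of_fixed hx]
  have hX : bar n (τ x) = τ x := K.fix x hx
  refine ⟨q1 * q2 * q3, ⟨D.P.mul_mem h12 h3, ?_, ?_⟩, ?_, ?_, ?_⟩
  · rw [D.a_mul _ h12 _ h3, D.a_mul _ h1 _ h2, D.f_mul _ h12 _ h3, D.f_mul _ h1 _ h2, a1, a2, a3, f1, f2, f3]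
    linear_combination (-x * α) * add_self x
  · rw [D.c_mul _ h12 _ h3, D.c_mul _ h1 _ h2, D.f_mul _ h12 _ h3, D.f_mul _ h1 _ h2, c1, c2, c3, f1, f2, f3, hN]
    linear_combination (N n α * (1 - x ^ 2)) * add_self x
  · rw [D.f_mul _ h12 _ h3, D.f_mul _ h1 _ h2, f1, f2, f3]
    linear_combination add_self x
  · rw [C.z.a_mul h12 h3, C.z.a_mul h1 h2, (C.imA hq1).1, (C.imV hq2).1, (C.imE hq3).1, K.V _ hq2, K.E _ hq3, f2, c3,
      K.add _ _ (bar_one n) hx, K.one, K.mul _ _ (fixed_add hx (fixed_mul hx hx)) (fixed_N D.hq _),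
      K.add _ _ hx (fixed_mul hx hx), K.mul _ _ hx hx, bar_add, bar_mul, hX, N_def n β]
    have e3 := K.e3
    generalize τ (N n α) = T at e3 ⊢
    rw [N_def n β, N_def n α] at e3
    linear_combination (-(τ x + τ x * τ x) * β) * e3
  · rw [C.z.f_mul h12 h3, C.z.f_mul h1 h2, K.A _ hq1, K.V _ hq2, K.E _ hq3, f1, f2, c3,
      K.add _ _ (bar_one n) hx, K.one, K.mul _ _ (fixed_add hx (fixed_mul hx hx)) (fixed_N D.hq _),
      K.add _ _ hx (fixed_mul hx hx), K.mul _ _ hx hx]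
    have e3 := K.e3
    have e2 := K.e2
    have e4 : N n (τ x * α + β) = (τ x) ^ 2 * N n α + N n β + τ x * Tr n (α * bar n β) := by
      rw [N_add' D.hq, N_mul, N_of_fixed hX, mul_assoc (τ x), Tr_mul_fixed hX]
    rw [N_add' D.hq] at e2
    rw [e4]
    linear_combination (τ x) * e2 + (-(τ x + τ x * τ x)) * e3 + d * τ x * (N n α + N n β) * add_self (1 : F)

theorem mem2 (C : Co D y α β ζ) (K : Cs D y α β τ d e p) {x : F} (hx : bar n x = x) :
    ∃ q ∈ D.W (x * β), D.a (y * q * y⁻¹) = d * (1 + τ x) * (α + τ x * β) ∧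
      D.f (y * q * y⁻¹) = d * (1 + τ x) ^ 2 := by
  obtain ⟨q1, hq1, a1, c1, f1⟩ := Co.exists_W' C.Phi β hx
  obtain ⟨q2, hq2, a2, c2, f2⟩ := Co.exists_V C.Phi (fixed_add (bar_one n) hx)
  have hm : bar n ((x + x * x) * N n β) = (x + x * x) * N n β :=
    fixed_mul (fixed_add hx (fixed_mul hx hx)) (fixed_N D.hq _)
  obtain ⟨q3, hq3, a3, c3, f3⟩ := exists_E D.toChart hm
  have h1 := hq1.1
  have h2 := hq2.1
  have h3 := hq3.1
  have h12 := D.P.mul_mem h1 h2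
  have hN : N n (x * β) = x ^ 2 * N n β := by rw [N_mul, N_of_fixed hx]
  refine ⟨q1 * q2 * q3, ⟨D.P.mul_mem h12 h3, ?_, ?_⟩, ?_, ?_⟩
  · rw [D.a_mul _ h12 _ h3, D.a_mul _ h1 _ h2, D.f_mul _ h12 _ h3, D.f_mul _ h1 _ h2, a1, a2, a3, f1, f2, f3]
    linear_combination (-x * β) * add_self x
  · rw [D.c_mul _ h12 _ h3, D.c_mul _ h1 _ h2, D.f_mul _ h12 _ h3, D.f_mul _ h1 _ h2, c1, c2, c3, f1, f2, f3, hN]
    linear_combination (N n β * (1 - x ^ 2)) * add_self x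
  · rw [C.z.a_mul h12 h3, C.z.a_mul h1 h2, (C.imB hq1).1, (C.imV hq2).1, (C.imE hq3).1, K.V _ hq2, K.E _ hq3, f2, c3,
      K.add _ _ (bar_one n) hx, K.one, K.mul _ _ (fixed_add hx (fixed_mul hx hx)) (fixed_N D.hq _),
      K.add _ _ hx (fixed_mul hx hx), K.mul _ _ hx hx]
    linear_combination (-(τ x + τ x * τ x) * β) * K.e1
  · rw [C.z.f_mul h12 h3, C.z.f_mul h1 h2, (C.imB hq1).2, K.V _ hq2, K.E _ hq3, f2, c3,
      K.add _ _ (bar_one n) hx, K.one, K.mul _ _ (fixed_add hx (fixed_mul hx hx)) (fixed_N D.hq _),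
      K.add _ _ hx (fixed_mul hx hx), K.mul _ _ hx hx]
    linear_combination (-(τ x + τ x * τ x)) * K.e1

/-- a conjugate of `V` containing an element with `f ≠ 0` -/
theorem eq_W_V {g : G} (hg : cj g D.P = D.P) {u : G} (hu : u ∈ cj g D.V) (hf : D.f u ≠ 0) :
    cj g D.V = D.W (D.a u / D.f u) := by
  have key : ∀ A, u ∈ D.W A → A = D.a u / D.f u := by
    intro A h
    rw [eq_div_iff hf, h.2.1, mul_comm]
  rcases Chart.cj_V (D := D.toChart) hg with h | ⟨-, ⟨A, -, h⟩ | ⟨h, -⟩⟩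
  · rw [h] at hu ⊢
    rw [← D.W_zero] at hu ⊢
    rw [← key 0 hu]
  · rw [h] at hu ⊢
    rw [← key A hu]
  · rw [h] at hu
    exact absurd hu.2.2 hf

theorem eq_W_E (hk : D.kap = 0) {g : G} (hg : cj g D.P = D.P) {u : G} (hu : u ∈ cj g D.E) (hf : D.f u ≠ 0) :
    cj g D.E = D.W (D.a u / D.f u) := by
  have key : ∀ A, u ∈ D.W A → A = D.a u / D.f u := by
    intro A h
    rw [eq_div_iff hf, h.2.1, mul_comm]
  rcases Chart.cj_E (D := D.toChart) hg hk with h | ⟨⟨A, h⟩, -⟩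
  · rw [h] at hu
    exact absurd hu.2.2 hf
  · rw [h] at hu ⊢
    rw [← key A hu]

/-- the element `y h_x y` -/
theorem exists_g (hy : cj y D.P = D.P) (C : Co D y α β ζ) {x : F} (hx : bar n x = x) (x0 : x ≠ 0) :
    ∃ g : G, cj g D.P = D.P ∧ cj g D.V = cj y (D.W (x * α)) ∧ cj g D.E = cj y (D.W (x * β)) := by
  let l : Fˣ := Units.mk0 x x0
  have hl : w n l = x := w_fixed (l := l) hx
  refine ⟨y * D.h l * y, ?_, ?_, ?_⟩
  · exact cj_mul_eq (cj_mul_eq hy (D.h_P l)) hy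
  · rw [cj_mul, cj_mul, C.h1, cj_h_W, hl]
  · rw [cj_mul, cj_mul, C.h3, cj_h_W, hl]

theorem mem_Z_of {u : G} (hu : u ∈ D.P) (ha : D.a u = 0) (hc : D.c u = 0) (hf : D.f u = 0) : u ∈ D.Z :=
  D.ker u hu ha hc hf

/-- `β / α ∉ F_q` -/
theorem not_fixed (hy : cj y D.P = D.P) (C : Co D y α β ζ) (K : Cs D y α β τ d e p) {ρ : F} (hρ : bar n ρ = ρ)
    (h : β = ρ * α) : False := by
  have ρ0 : ρ ≠ 0 := by
    rintro rfl; exact C.β0 (by rw [h, zero_mul])
  have ρ1 : ρ ≠ 1 := by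
    rintro rfl; exact C.ne (by rw [h, one_mul])
  have hNα : N n α ≠ 0 := N_ne_zero C.α0
  have T0 : τ (N n α) ≠ 0 := by
    intro h0
    have h1 : τ 0 = 0 := by
      have h2 := K.add 0 0 (bar_zero n) (bar_zero n)
      rw [add_zero] at h2
      exact left_eq_add.mp h2
    exact hNα (K.inj _ _ (fixed_N D.hq _) (bar_zero n) (h0.trans h1.symm))
  have hτ : τ ρ = ρ := by
    have h1 : N n β = ρ * ρ * N n α := by rw [h, N_mul, N_of_fixed hρ, pow_two]
    have h2 : τ (N n β) = τ ρ * τ ρ * τ (N n α) := by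
      rw [h1, K.mul _ _ (fixed_mul hρ hρ) (fixed_N D.hq _), K.mul _ _ hρ hρ]
    have h3 := K.e3
    rw [K.e1, h2, h1] at h3
    have h4 : τ ρ * τ ρ = ρ * ρ := by
      apply mul_left_cancel₀ (mul_ne_zero K.e0 (mul_ne_zero T0 hNα))
      linear_combination h3
    have h5 : (τ ρ + ρ) * (τ ρ + ρ) = 0 := by
      have h6 : (τ ρ + ρ) * (τ ρ + ρ) = τ ρ * τ ρ + ρ * ρ + (τ ρ * ρ + τ ρ * ρ) := by ring
      rw [h6, add_self, add_zero, h4, add_self]
    exact add_eq_zero.mp (mul_self_eq_zero.mp h5)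
  obtain ⟨g, hg, hgV, hgE⟩ := exists_g hy C hρ ρ0
  obtain ⟨q, hq, fq, -, e2⟩ := mem1 C K hρ
  obtain ⟨q', hq', e3, e4⟩ := mem2 C K hρ
  have hNβ : N n β ≠ 0 := N_ne_zero C.β0
  have f0 : D.f (y * q * y⁻¹) = 0 := by
    have h1 : τ ρ * α + β = 0 := by rw [hτ, h, add_self]
    rw [h1, N_zero, mul_zero] at e2
    exact (mul_eq_zero.mp e2).resolve_right hNβ
  have hu : y * q * y⁻¹ ∈ cj g D.V := by rw [hgV]; exact mem_cj_mul hq
  have hE : cj g D.V = D.E := by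
    have key : ∀ A, y * q * y⁻¹ ∈ D.W A → False := by
      intro A hA
      have h1 : y * q * y⁻¹ ∈ D.Z := mem_Z_of hA.1 (by rw [hA.2.1, f0, zero_mul]) (by rw [hA.2.2, f0, zero_mul]) f0
      have h2 := inv_conj_mem (cj_Z D.toChart hy) h1
      have h3 : y⁻¹ * (y * q * y⁻¹) * y = q := by group
      rw [h3] at h2
      obtain ⟨b, hb, hq2⟩ := h2
      rw [hq2, D.f_z b hb] at fq
      exact zero_ne_one fq
    rcases Chart.cj_V (D := D.toChart) hg with h1 | ⟨-, ⟨A, -, h1⟩ | ⟨h1, -⟩⟩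
    · rw [h1, ← D.W_zero] at hu; exact (key 0 hu).elim
    · rw [h1] at hu; exact (key A hu).elim
    · exact h1
  have hs : 1 + τ ρ ≠ 0 := by
    rw [hτ]; intro h1; exact ρ1 (Cfsg.Agent.StdU3.Field.add_eq_zero.mp h1).symm
  have f1 : D.f (y * q' * y⁻¹) ≠ 0 := by
    rw [e4]; exact mul_ne_zero K.d0 (pow_ne_zero 2 hs)
  have hu' : y * q' * y⁻¹ ∈ cj g D.E := by rw [hgE]; exact mem_cj_mul hq'
  have hE' := eq_W_E C.k hg hu' f1
  have ha : D.a (y * q' * y⁻¹) ≠ 0 := by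
    rw [e3]
    refine mul_ne_zero (mul_ne_zero K.d0 hs) ?_
    rw [hτ, h]
    have h1 : α + ρ * (ρ * α) = α * ((1 + ρ) * (1 + ρ)) := by
      have h2 : α * ((1 + ρ) * (1 + ρ)) = α + ρ * (ρ * α) + (ρ * α + ρ * α) := by ring
      rw [h2, add_self, add_zero]
    rw [h1, ← hτ]
    rw [hτ]
    have hs' : 1 + ρ ≠ 0 := by rwa [hτ] at hs
    exact mul_ne_zero C.α0 (mul_ne_zero hs' hs')
  obtain ⟨l, hl, hl1⟩ := exists_fixed_ne D.hq
  have h1 : cj (D.h l * g) D.V = cj g D.V := by rw [cj_mul, hE, cj_h_E]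
  have h2 := partner D h1
  rw [cj_mul, hE', cj_h_W] at h2
  have h3 := W_inj D.toChart h2
  rw [w_fixed hl] at h3
  have h4 : D.a (y * q' * y⁻¹) / D.f (y * q' * y⁻¹) ≠ 0 := div_ne_zero ha f1
  exact hl1 (mul_right_cancel₀ h4 (h3.trans (one_mul _).symm))

/-- the ratio at `w'` -/
theorem exists_ratio (hy : cj y D.P = D.P) (C : Co D y α β ζ) (K : Cs D y α β τ d e p) {x : F} (hx : bar n x = x)
    (x0 : x ≠ 0) (x1 : x ≠ 1) : ∃ g A, A ≠ 0 ∧ cj g D.V = D.W A ∧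
      cj g D.E = D.W ((α + τ x * β) * (τ x * α + β) / ((1 + τ x) ^ 2 * (α * β)) * A) := by
  obtain ⟨g, hg, hgV, hgE⟩ := exists_g hy C hx x0
  obtain ⟨q, hq, fq, e1, e2⟩ := mem1 C K hx
  obtain ⟨q', hq', e3, e4⟩ := mem2 C K hx
  have hX : bar n (τ x) = τ x := K.fix x hx
  have hs : 1 + τ x ≠ 0 := by
    intro h1
    have h2 := Cfsg.Agent.StdU3.Field.add_eq_zero.mp h1
    rw [← K.one] at h2
    exact x1 (K.inj _ _ (bar_one n) hx h2).symm
  have hne : τ x * α + β ≠ 0 := by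
    intro h1
    exact not_fixed hy C K hX (Cfsg.Agent.StdU3.Field.add_eq_zero.mp h1).symm
  have hNβ : N n β ≠ 0 := N_ne_zero C.β0
  have hb : bar n (τ x * α + β) ≠ 0 := fun h' => hne (bar_eq_zero h')
  have f0 : D.f (y * q * y⁻¹) ≠ 0 := by
    intro h0
    rw [h0, zero_mul] at e2
    exact mul_ne_zero K.d0 (N_ne_zero hne) e2.symm
  have f1 : D.f (y * q' * y⁻¹) ≠ 0 := by
    rw [e4]; exact mul_ne_zero K.d0 (pow_ne_zero 2 hs)
  have h1 := eq_W_V hg (by rw [hgV]; exact mem_cj_mul hq) f0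
  have h2 := eq_W_E C.k hg (by rw [hgE]; exact mem_cj_mul hq') f1
  have hA : D.a (y * q * y⁻¹) / D.f (y * q * y⁻¹) = (1 + τ x) * (α * β) / (τ x * α + β) := by
    rw [div_eq_div_iff f0 hne]
    apply mul_right_cancel₀ hNβ
    calc D.a (y * q * y⁻¹) * (τ x * α + β) * N n β = D.a (y * q * y⁻¹) * N n β * (τ x * α + β) := by ring
      _ = (1 + τ x) * (α * β) * (d * ((τ x * α + β) * bar n (τ x * α + β))) := by rw [e1]; ring
      _ = (1 + τ x) * (α * β) * (d * N n (τ x * α + β)) := by rw [N_def n (τ x * α + β)]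
      _ = (1 + τ x) * (α * β) * D.f (y * q * y⁻¹) * N n β := by rw [← e2]; ring
  have hα := C.α0
  have hβ := C.β0
  have hd := K.d0
  have hB : D.a (y * q' * y⁻¹) / D.f (y * q' * y⁻¹) =
      (α + τ x * β) * (τ x * α + β) / ((1 + τ x) ^ 2 * (α * β)) * ((1 + τ x) * (α * β) / (τ x * α + β)) := by
    rw [e3, e4]
    field_simp
  refine ⟨g, (1 + τ x) * (α * β) / (τ x * α + β), ?_, ?_, ?_⟩
  · exact div_ne_zero (mul_ne_zero hs (mul_ne_zero C.α0 C.β0)) hne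
  · rw [h1, hA]
  · rw [h2, hB]

/-- the ratio function -/
def rt (α β X : F) : F := (α + X * β) * (X * α + β) / ((1 + X) ^ 2 * (α * β))

theorem one_add_ne {X : F} (h : X ≠ 1) : 1 + X ≠ 0 := fun h' =>
  h (Cfsg.Agent.StdU3.Field.add_eq_zero.mp h').symm

theorem rt_ne (hα : α ≠ 0) (hβ : β ≠ 0) (hne : α ≠ β) {X Y : F} (hX : X ≠ 1) (hY : Y ≠ 1) (hXY : X ≠ Y)
    (hXY' : X * Y ≠ 1) : rt α β X ≠ rt α β Y := by
  intro h
  unfold rt at h
  have hX' := one_add_ne hX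
  have hY' := one_add_ne hY
  rw [div_eq_div_iff (mul_ne_zero (pow_ne_zero 2 hX') (mul_ne_zero hα hβ))
    (mul_ne_zero (pow_ne_zero 2 hY') (mul_ne_zero hα hβ))] at h
  have h2 : (2 : F) = 0 := CharTwo.two_eq_zero
  have h1 : (α * β) * ((α + β) ^ 2 * ((X + Y) * (1 + X * Y))) = 0 := by
    linear_combination h + (α * β ^ 3 * X ^ 2 * Y + α * β ^ 3 * Y + α ^ 2 * β ^ 2 * X * 2 +
      α ^ 2 * β ^ 2 * X * Y ^ 2 * 2 + α ^ 3 * β * X ^ 2 * Y + α ^ 3 * β * Y) * h2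
  have h3 : α + β ≠ 0 := fun h' => hne (Cfsg.Agent.StdU3.Field.add_eq_zero.mp h')
  have h4 : X + Y ≠ 0 := fun h' => hXY (Cfsg.Agent.StdU3.Field.add_eq_zero.mp h')
  have h5 : 1 + X * Y ≠ 0 := one_add_ne hXY'
  exact mul_ne_zero (mul_ne_zero hα hβ) (mul_ne_zero (pow_ne_zero 2 h3) (mul_ne_zero h4 h5)) h1

theorem rt_ne' (hα : α ≠ 0) (hβ : β ≠ 0) (hne : α ≠ β) (hρ : ∀ ρ, bar n ρ = ρ → β ≠ ρ * α) {X : F}
    (hb : bar n X = X) (hX : X ≠ 1) (hX0 : X ≠ 0) : rt α β X ≠ β / α := by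
  intro h
  unfold rt at h
  have hX' := one_add_ne hX
  rw [div_eq_div_iff (mul_ne_zero (pow_ne_zero 2 hX') (mul_ne_zero hα hβ)) hα] at h
  have h2 : (2 : F) = 0 := CharTwo.two_eq_zero
  have h1 : α * ((α + β) * (X * α + (1 + X + X ^ 2) * β)) = 0 := by
    linear_combination h + (α * β ^ 2 + α * β ^ 2 * X + α * β ^ 2 * X ^ 2 + α ^ 2 * β * X) * h2
  have h3 : α + β ≠ 0 := fun h' => hne (Cfsg.Agent.StdU3.Field.add_eq_zero.mp h')
  have h4 : X * α = (1 + X + X ^ 2) * β := by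
    have h5 := (mul_eq_zero.mp ((mul_eq_zero.mp h1).resolve_left hα)).resolve_left h3
    exact Cfsg.Agent.StdU3.Field.add_eq_zero.mp h5
  have h6 : 1 + X + X ^ 2 ≠ 0 := by
    intro h0
    rw [h0, zero_mul] at h4
    exact mul_ne_zero hX0 hα h4
  apply hρ (X / (1 + X + X ^ 2))
  · rw [div_eq_mul_inv]
    apply fixed_mul hb
    apply fixed_inv
    rw [pow_two]
    exact fixed_add (fixed_add (bar_one n) hb) (fixed_mul hb hb)
  · rw [div_mul_eq_mul_div, eq_div_iff h6, h4, mul_comm]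

theorem pow_tau (K : Cs D y α β τ d e p) {t : F} (ht : bar n t = t) (k : ℕ) : τ (t ^ k) = τ t ^ k := by
  induction k with
  | zero => rw [pow_zero, pow_zero, K.one]
  | succ k ih => rw [pow_succ, pow_succ, K.mul _ _ (by rw [bar_pow, ht]) ht, ih]

theorem false_of_four (hq : Qd F n) (A R : Fin 4 → F) (g : Fin 4 → G) (hA : ∀ i, A i ≠ 0)
    (hV : ∀ i, cj (g i) D.V = D.W (A i)) (hE : ∀ i, cj (g i) D.E = D.W (R i * A i))
    (hR : ∀ i j, i < j → R i ≠ R j) : False := by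
  obtain ⟨i, j, hij, l, hl⟩ := exists_pair hq A hA
  have h1 := ratio D (hV i) (hE i) (hV j) (hE j) hl
  have h2 : R j = R i := by
    apply mul_right_cancel₀ (hA j)
    rw [h1, hl]; ring
  rcases lt_or_gt_of_ne hij with h | h
  · exact hR i j h h2.symm
  · exact hR j i h h2

end

/-- **PIECE C of `u3e`.** -/
theorem swapTwo (D : Dat G F n) {y : G} (hy : cj y D.P = D.P) {α β : F} (hα : α ≠ 0) (hβ : β ≠ 0)
    (h1 : cj y D.V = D.W α) (h2 : cj y (D.W α) = D.V) (h3 : cj y D.E = D.W β) (h4 : cj y (D.W β) = D.E) :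
    False := by
  have hk : D.kap = 0 := by
    rcases Chart.cj_V (D := D.toChart) hy with h | ⟨h, -⟩
    · rw [h1, ← D.W_zero] at h
      exact absurd (W_inj D.toChart h) hα
    · exact h
  have hPhi : ∀ b, bar n b = b → b ∈ D.Phi := by
    rcases Chart.cj_E (D := D.toChart) hy hk with h | ⟨-, h⟩
    · rw [h3] at h
      exact absurd h (W_ne_E D.toChart β)
    · exact h
  obtain ⟨ζ, hζ⟩ := exists_zeta D.toChart hy
  have C : Co D y α β ζ := ⟨hζ, hk, hPhi, hα, hβ, h1, h2, h3, h4⟩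
  obtain ⟨τ, d, e, p, K⟩ := exists_cs D C
  have hρ : ∀ ρ, bar n ρ = ρ → β ≠ ρ * α := fun ρ hρ h => not_fixed hy C K hρ h
  have hfix : ∀ x, bar n x = x → x ≠ 0 → τ x ≠ 0 := by
    intro x hx hx0 h0
    have h5 : τ 0 = 0 := by
      have h6 := K.add 0 0 (bar_zero n) (bar_zero n)
      rw [add_zero] at h6
      exact left_eq_add.mp h6
    exact hx0 (K.inj _ _ hx (bar_zero n) (h0.trans h5.symm))
  have hfix1 : ∀ x, bar n x = x → x ≠ 1 → τ x ≠ 1 := by
    intro x hx hx1 h0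
    rw [← K.one] at h0
    exact hx1 (K.inj _ _ hx (bar_one n) h0)
  have hβα : β = β / α * α := (div_mul_cancel₀ β hα).symm
  rcases Nat.lt_or_ge 2 n with hn | hn
  · obtain ⟨t, ht, ht0, ht'⟩ := exists_t D.hq hn
    have hf : ∀ k, bar n (t ^ k) = t ^ k := fun k => by rw [bar_pow, ht]
    obtain ⟨g1, A1, hA1, hV1, hE1⟩ := exists_ratio hy C K (hf 1) (pow_ne_zero _ ht0) (ht' 1 (by norm_num) (by norm_num))
    obtain ⟨g2, A2, hA2, hV2, hE2⟩ := exists_ratio hy C K (hf 2) (pow_ne_zero _ ht0) (ht' 2 (by norm_num) (by norm_num))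
    obtain ⟨g3, A3, hA3, hV3, hE3⟩ := exists_ratio hy C K (hf 3) (pow_ne_zero _ ht0) (ht' 3 (by norm_num) (by norm_num))
    have key0 : ∀ k, 1 ≤ k → k ≤ 3 → β / α ≠ rt α β (τ (t ^ k)) := fun k hk hk3 h =>
      rt_ne' hα hβ C.ne hρ (K.fix _ (hf k)) (hfix1 _ (hf k) (ht' k hk (by omega)))
        (hfix _ (hf k) (pow_ne_zero _ ht0)) h.symm
    have key : ∀ i k, 1 ≤ i → 1 ≤ k → i + (i + k) ≤ 5 → rt α β (τ (t ^ i)) ≠ rt α β (τ (t ^ (i + k))) := by
      intro i k hi hk hik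
      apply rt_ne hα hβ C.ne (hfix1 _ (hf i) (ht' i hi (by omega))) (hfix1 _ (hf _) (ht' _ (by omega) (by omega)))
      · intro h
        have h5 := K.inj _ _ (hf i) (hf _) h
        rw [pow_add] at h5
        have h6 : t ^ i * t ^ k = t ^ i * 1 := by rw [← h5, mul_one]
        exact ht' k hk (by omega) (mul_left_cancel₀ (pow_ne_zero _ ht0) h6)
      · rw [← K.mul _ _ (hf i) (hf _), ← pow_add]
        exact hfix1 _ (hf _) (ht' _ (by omega) (by omega))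
    refine false_of_four (D := D) D.hq ![α, A1, A2, A3]
      ![β / α, rt α β (τ (t ^ 1)), rt α β (τ (t ^ 2)), rt α β (τ (t ^ 3))] ![y, g1, g2, g3] ?_ ?_ ?_ ?_
    · intro i
      fin_cases i
      · exact hα
      · exact hA1
      · exact hA2
      · exact hA3
    · intro i
      fin_cases i
      · exact h1
      · exact hV1
      · exact hV2
      · exact hV3
    · intro i
      fin_cases i
      · show cj y D.E = D.W (β / α * α)
        rw [← hβα]; exact h3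
      · exact hE1
      · exact hE2
      · exact hE3
    · intro i j hij
      fin_cases i <;> fin_cases j
      all_goals first
        | exact absurd hij (by decide)
        | exact key0 1 (by norm_num) (by norm_num)
        | exact key0 2 (by norm_num) (by norm_num)
        | exact key0 3 (by norm_num) (by norm_num)
        | exact key 1 1 (by norm_num) (by norm_num) (by norm_num)
        | exact key 1 2 (by norm_num) (by norm_num) (by norm_num)
        | exact key 2 1 (by norm_num) (by norm_num) (by norm_num)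
  · have hn2 : n = 2 := le_antisymm hn D.hq.hn
    subst hn2
    obtain ⟨l, hl, hl1⟩ := exists_fixed_ne D.hq
    obtain ⟨g, A, hA, hgV, hgE⟩ := exists_ratio hy C K hl l.ne_zero hl1
    obtain ⟨m, hm⟩ := exists_w D.hq (Units.mk0 (A / α) (div_ne_zero hA hα))
    have hm' : A = w 2 m * α := by
      rw [hm, Units.val_mk0, div_mul_cancel₀ _ hα]
    have h5 := ratio D h1 h3 hgV hgE hm'
    have h6 := rt_ne' hα hβ C.ne hρ (K.fix _ hl) (hfix1 _ hl hl1) (hfix _ hl l.ne_zero)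
    apply h6
    apply mul_right_cancel₀ hA
    change rt α β (τ l) * A = _ at h5
    rw [h5, hm']
    field_simp

end Cfsg.Agent.OddHalf.D4.U3.SwapTwo
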