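import Cfsg.Agent.OddHalf.D4.U3.ParDefs

/-!
# ODD, D4, row `K = U₃(q)`: PIECE T (T1, E1), the setting and the averaging argument

`TD u d K C M Q n`: `u : Heis σ →* G` (the Sylow 2-subgroup of `K`), `d : Fˣ →* G` (the torus), `C = C(K)`,
`M = N(K)`, `Q` Sylow in `C`.
-/

set_option autoImplicit false
set_option linter.dupNamespace false
set_option linter.unusedSectionVars false

namespace Cfsg.Agent.OddHalf.D4.U3.TBase

open Subgroup Cfsg.Agent.LieRecognition Cfsg.Agent.LieRecognition.HermHeis Cfsg.Agent.StdU3.URel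
  Cfsg.Agent.StdU3.Semi Cfsg.Agent.OddHalf.D4.CommConj Cfsg.Agent.OddHalf.D4.Basic

universe u v

variable {G : Type u} [Group G] {F : Type v} [Field F] [Fintype F] [CharP F 2] {σ : F →+* F}
  [hσ : Fact (∀ x, σ (σ x) = x)] {n : ℕ}

/-- what piece T uses -/
structure TD (u : Heis σ →* G) (d : Fˣ →* G) (K C M Q : Subgroup G) (n : ℕ) : Prop where
  hS : Sg σ n
  inj : Function.Injective u
  d_u : ∀ l x, d l * u x * (d l)⁻¹ = u (act l x)
  uC : ∀ c ∈ C, ∀ x, c * u x = u x * c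
  dC : ∀ c ∈ C, ∀ l, c * d l = d l * c
  uK : ∀ x, u x ∈ K
  dK : ∀ l, d l ∈ K
  K_le : K ≤ M
  C_le : C ≤ M
  K_nor : ∀ m ∈ M, ∀ x ∈ K, m * x * m⁻¹ ∈ K
  C_nor : ∀ m ∈ M, ∀ c ∈ C, m * c * m⁻¹ ∈ C
  KC : ∀ x ∈ K, x ∈ C → x = 1
  syl : IsSyl Q C
  sq : ∀ r ∈ Q, r * r = 1
  ne : ∃ r ∈ Q, r ≠ 1
  /-- an involution of `C` conjugate into `C` by `x`: `x ∈ M` -/
  tight : ∀ x r, r ∈ C → r ≠ 1 → r * r = 1 → x⁻¹ * r * x ∈ C → x ∈ M
  trivS : ∀ x ∈ M, (∀ y, ∃ y' : Heis σ, y'.a = y.a ∧ x * u y * x⁻¹ = u y') → ∃ c ∈ C, ∃ s, x = c * u s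
  ti : ∀ x ∈ M, ∀ y y', y ≠ 1 → x * u y * x⁻¹ = u y' → cj x u.range = u.range
  norB : ∀ x ∈ M, cj x u.range = u.range → ∀ l, ∃ y m, x * d l * x⁻¹ = u y * d m
  pair : ∀ x, x ∉ M → (∀ r ∈ Q, ∀ w ∈ cj x Q, r * w = w * r) → ∃ k ∈ M, ∃ y, y ∉ M ∧ cj y Q = cj x Q ∧
    cj y (cj k u.range) = cj k u.range ∧ ∀ r ∈ Q, ∃ z : Heis σ, z.a = 0 ∧ r * (k * u z * k⁻¹) ∈ cj x Q

/-- the central element with parameter `b` -/
noncomputable def zz (u : Heis σ →* G) (b : F) : G := open Classical in if hb : σ b = b then u (zet b hb) else 1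

section zz

variable {u : Heis σ →* G} {d : Fˣ →* G} {K C M Q : Subgroup G}

theorem zz_pos {b : F} (hb : σ b = b) : zz u b = u (zet b hb) := by
  unfold zz; rw [dif_pos hb]

theorem u_of_a {z : Heis σ} (hz : z.a = 0) : u z = zz u z.b := by
  rw [zz_pos (b_fixed_of_a_eq_zero hz)]
  congr 1
  exact ext_z hz rfl rfl

theorem exists_of_zz {b : F} (hb : σ b = b) : ∃ z : Heis σ, z.a = 0 ∧ z.b = b ∧ u z = zz u b :=
  ⟨zet b hb, rfl, rfl, (zz_pos hb).symm⟩

theorem fix_add {b c : F} (hb : σ b = b) (hc : σ c = c) : σ (b + c) = b + c := by rw [map_add, hb, hc]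
theorem fix_mul {b c : F} (hb : σ b = b) (hc : σ c = c) : σ (b * c) = b * c := by rw [map_mul, hb, hc]
theorem fix_zero : σ 0 = 0 := map_zero σ
theorem fix_one : σ 1 = 1 := map_one σ
theorem fix_inv {b : F} (hb : σ b = b) : σ b⁻¹ = b⁻¹ := by rw [map_inv₀, hb]

theorem zz_zero : zz u 0 = 1 := by
  rw [zz_pos fix_zero, ← map_one u]
  congr 1

theorem zz_add {b c : F} (hb : σ b = b) (hc : σ c = c) : zz u (b + c) = zz u b * zz u c := by
  rw [zz_pos hb, zz_pos hc, zz_pos (fix_add hb hc), ← map_mul]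
  congr 1
  ext
  · simp
  · simp

theorem add_self' (b : F) : b + b = 0 := CharTwo.add_self_eq_zero b

theorem zz_sq {b : F} (hb : σ b = b) : zz u b * zz u b = 1 := by
  rw [← zz_add hb hb, add_self', zz_zero]

theorem zz_inv {b : F} (hb : σ b = b) : (zz u b)⁻¹ = zz u b := inv_eq_of_mul_eq_one_right (zz_sq hb)

theorem zz_comm_u (b : F) (x : Heis σ) : u x * zz u b = zz u b * u x := by
  by_cases hb : σ b = b
  · rw [zz_pos hb, ← map_mul, ← map_mul, comm_of_a_eq_zero (zet_a b hb) x]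
  · unfold zz; rw [dif_neg hb]; simp

theorem zz_comm (b c : F) : zz u c * zz u b = zz u b * zz u c := by
  by_cases hc : σ c = c
  · rw [zz_pos hc, zz_comm_u]
  · have : zz u c = 1 := by unfold zz; rw [dif_neg hc]
    rw [this]; simp

variable (T : TD u d K C M Q n)
include T

theorem TD.uM (x : Heis σ) : u x ∈ M := T.K_le (T.uK x)

theorem TD.dM (l : Fˣ) : d l ∈ M := T.K_le (T.dK l)

theorem TD.disj (x : Heis σ) (h : u x ∈ C) : x = 1 := by
  apply T.inj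
  rw [T.KC _ (T.uK x) h, map_one]

theorem TD.zz_inj {b : F} (hb : σ b = b) (h : zz u b = 1) : b = 0 := by
  rw [zz_pos hb, ← map_one u] at h
  exact congrArg Heis.b (T.inj h)

theorem TD.zz_inj' {b c : F} (hb : σ b = b) (hc : σ c = c) (h : zz u b = zz u c) : b = c := by
  have h1 : zz u (b + c) = 1 := by rw [zz_add hb hc, h, zz_sq hc]
  have h2 := T.zz_inj (fix_add hb hc) h1
  exact CharTwo.add_eq_zero.mp h2

theorem TD.zzM (b : F) : zz u b ∈ M := by
  unfold zz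
  split_ifs
  · exact T.uM _
  · exact one_mem M

theorem TD.zzC {b : F} (hb : σ b = b) (h : zz u b ∈ C) : b = 0 := by
  rw [zz_pos hb] at h
  exact congrArg Heis.b (T.disj _ h)

theorem TD.zz_range (b : F) : zz u b ∈ u.range := by
  unfold zz
  split_ifs
  · exact ⟨_, rfl⟩
  · exact one_mem _

theorem TD.C_zz {c : G} (hc : c ∈ C) (b : F) : c * zz u b = zz u b * c := by
  unfold zz
  split_ifs
  · exact T.uC c hc _
  · simp

theorem TD.Q_zz {c : G} (hc : c ∈ Q) (b : F) : c * zz u b = zz u b * c := T.C_zz (T.syl.le hc) b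

theorem TD.fix_nm (l : Fˣ) : σ (nm σ l) = nm σ l := fixed_nm l

theorem TD.d_zz (l : Fˣ) {b : F} (hb : σ b = b) : d l * zz u b * (d l)⁻¹ = zz u (nm σ l * b) := by
  rw [zz_pos hb, T.d_u, u_of_a]
  · rfl
  · show wt σ l * 0 = 0
    rw [mul_zero]

theorem TD.Q_comm {r s : G} (hr : r ∈ Q) (hs : s ∈ Q) : r * s = s * r := by
  have h1 := T.sq _ (Q.mul_mem hr hs)
  have h2 := T.sq r hr
  have h3 := T.sq s hs
  calc r * s = r * (r * s * (r * s)) * s := by rw [h1, mul_one]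
    _ = (r * r) * s * r * (s * s) := by group
    _ = s * r := by rw [h2, h3]; group

end zz

/-! ### The averaging argument -/

section avg

variable {u : Heis σ →* G} {d : Fˣ →* G} {K C M Q : Subgroup G}

/-- `x` acts on `S`, trivially on `S / Z` and `Z`, with `φ`, and on `Q` with `ψ` -/
structure Pre (u : Heis σ →* G) (Q : Subgroup G) (x : G) (φ : F →+ F) (ψ : G → F) : Prop where
  fixφ : ∀ a, σ (φ a) = φ a
  fixψ : ∀ r ∈ Q, σ (ψ r) = ψ r
  onS : ∀ y, x * u y * x⁻¹ = u y * zz u (φ y.a)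
  actQ : ∀ r ∈ Q, x * r * x⁻¹ = r * zz u (ψ r)

theorem Pre.zz {x : G} {φ : F →+ F} {ψ : G → F} (h : Pre u Q x φ ψ) (b : F) :
    x * TBase.zz u b * x⁻¹ = TBase.zz u b := by
  by_cases hb : σ b = b
  · rw [zz_pos hb, h.onS, zet_a, map_zero, zz_zero, mul_one]
  · have : TBase.zz u b = 1 := by unfold TBase.zz; rw [dif_neg hb]
    rw [this]; group

theorem Pre.one : Pre u Q 1 0 (fun _ => 0) where
  fixφ _ := fix_zero
  fixψ _ _ := fix_zero
  onS y := by
    show 1 * u y * 1⁻¹ = u y * TBase.zz u 0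
    rw [zz_zero]; group
  actQ r _ := by rw [zz_zero]; group

theorem Pre.mul {x x' : G} {φ φ' : F →+ F} {ψ ψ' : G → F} (h : Pre u Q x φ ψ) (h' : Pre u Q x' φ' ψ') :
    Pre u Q (x * x') (φ + φ') (fun r => ψ r + ψ' r) where
  fixφ a := fix_add (h.fixφ a) (h'.fixφ a)
  fixψ r hr := fix_add (h.fixψ r hr) (h'.fixψ r hr)
  onS y := by
    show x * x' * u y * (x * x')⁻¹ = u y * TBase.zz u (φ y.a + φ' y.a)
    rw [zz_add (h.fixφ _) (h'.fixφ _)]
    calc x * x' * u y * (x * x')⁻¹ = x * (x' * u y * x'⁻¹) * x⁻¹ := by group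
      _ = (x * u y * x⁻¹) * (x * TBase.zz u (φ' y.a) * x⁻¹) := by rw [h'.onS]; group
      _ = u y * (TBase.zz u (φ y.a) * TBase.zz u (φ' y.a)) := by rw [h.onS, h.zz]; group
  actQ r hr := by
    rw [zz_add (h.fixψ r hr) (h'.fixψ r hr)]
    calc x * x' * r * (x * x')⁻¹ = x * (x' * r * x'⁻¹) * x⁻¹ := by group
      _ = (x * r * x⁻¹) * (x * TBase.zz u (ψ' r) * x⁻¹) := by rw [h'.actQ r hr]; group
      _ = r * (TBase.zz u (ψ r) * TBase.zz u (ψ' r)) := by rw [h.actQ r hr, h.zz]; group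

/-- `φ` precomposed with a multiplication -/
def cmp (φ : F →+ F) (c : F) : F →+ F := φ.comp (AddMonoidHom.mulLeft c)

theorem cmp_apply (φ : F →+ F) (c a : F) : cmp φ c a = φ (c * a) := rfl

variable (T : TD u d K C M Q n)
include T

theorem TD.dQ {r : G} (hr : r ∈ Q) (l : Fˣ) : d l * r * (d l)⁻¹ = r := by
  rw [← T.dC r (T.syl.le hr) l]; group

theorem Pre.conj {x : G} {φ : F →+ F} {ψ : G → F} (h : Pre u Q x φ ψ) {k : Fˣ} (hk : nm σ k = 1) :
    Pre u Q (d k * x * (d k)⁻¹) (cmp φ (wt σ k)⁻¹) ψ where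
  fixφ a := h.fixφ _
  fixψ := h.fixψ
  onS y := by
    have h1 : (d k)⁻¹ * u y * d k = u (act k⁻¹ y) := by
      have := T.d_u k⁻¹ y
      rw [map_inv, inv_inv] at this
      exact this
    calc d k * x * (d k)⁻¹ * u y * (d k * x * (d k)⁻¹)⁻¹
        = d k * (x * ((d k)⁻¹ * u y * d k) * x⁻¹) * (d k)⁻¹ := by group
      _ = (d k * u (act k⁻¹ y) * (d k)⁻¹) * (d k * TBase.zz u (φ (act k⁻¹ y).a) * (d k)⁻¹) := by
        rw [h1, h.onS]; group
      _ = u y * TBase.zz u (cmp φ (wt σ k)⁻¹ y.a) := by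
        rw [T.d_u, act_act, mul_inv_cancel, act_one, T.d_zz _ (h.fixφ _), hk, one_mul, act_a, wt_inv]
        rfl
  actQ r hr := by
    have h1 : (d k)⁻¹ * r * d k = r := by
      rw [mul_assoc, T.dC r (T.syl.le hr) k]; group
    calc d k * x * (d k)⁻¹ * r * (d k * x * (d k)⁻¹)⁻¹
        = d k * (x * ((d k)⁻¹ * r * d k) * x⁻¹) * (d k)⁻¹ := by group
      _ = (d k * r * (d k)⁻¹) * (d k * TBase.zz u (ψ r) * (d k)⁻¹) := by
        rw [h1, h.actQ r hr]; group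
      _ = r * TBase.zz u (ψ r) := by rw [T.dQ hr, T.d_zz _ (h.fixψ r hr), hk, one_mul]

/-- the product over the powers of a unit of norm one -/
theorem TD.exists_cent {x : G} {φ : F →+ F} {ψ : G → F} (h : Pre u Q x φ ψ) :
    ∃ y, (∀ s, y * u s = u s * y) ∧ ∀ r ∈ Q, y * r * y⁻¹ = r * zz u (ψ r) := by
  obtain ⟨k, hk, hk3, -⟩ := Cfsg.Agent.StdU3.Field.exists_norm_one T.hS.hq
  have hnm : nm σ k = 1 := by unfold nm; rw [T.hS.eq]; exact hk
  have hwt : wt σ k = (k : F) ^ 3 := by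
    unfold wt
    have h5 : (k : F) * σ k = 1 := hnm
    have h4 : σ (k : F) ≠ 0 := sig_ne σ k
    rw [mul_inv_eq_iff_eq_mul₀ h4]
    calc (k : F) ^ 2 = k ^ 2 * (k * σ k) := by rw [h5, mul_one]
      _ = k ^ 3 * σ k := by ring
  have hpow : ∀ i, nm σ (k ^ i) = 1 := by
    intro i
    induction i with
    | zero => rw [pow_zero, nm_one]
    | succ i ih => rw [pow_succ, nm_mul, ih, hnm, one_mul]
  have hwpow : ∀ i, wt σ (k ^ i) = wt σ k ^ i := by
    intro i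
    induction i with
    | zero => rw [pow_zero, pow_zero, wt_one]
    | succ i ih => rw [pow_succ, wt_mul, ih, pow_succ]
  have key : ∀ i : ℕ, ∃ y, Pre u Q y (cmp φ (∑ j ∈ Finset.range i, ((wt σ k)⁻¹) ^ j)) (fun r => (i : F) * ψ r) := by
    intro i
    induction i with
    | zero =>
      refine ⟨1, ?_⟩
      have h1 : cmp φ (∑ j ∈ Finset.range 0, ((wt σ k)⁻¹) ^ j) = 0 := by
        ext a
        rw [cmp_apply, Finset.sum_range_zero, zero_mul, map_zero]; rfl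
      have h2 : (fun r => ((0 : ℕ) : F) * ψ r) = fun _ => 0 := by
        ext r; rw [Nat.cast_zero, zero_mul]
      rw [h1, h2]
      exact Pre.one
    | succ i ih =>
      obtain ⟨y, hy⟩ := ih
      refine ⟨y * (d (k ^ i) * x * (d (k ^ i))⁻¹), ?_⟩
      have h1 := hy.mul (Pre.conj T h (hpow i))
      have h2 : cmp φ (∑ j ∈ Finset.range (i + 1), ((wt σ k)⁻¹) ^ j) =
          cmp φ (∑ j ∈ Finset.range i, ((wt σ k)⁻¹) ^ j) + cmp φ (wt σ (k ^ i))⁻¹ := by
        ext a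
        rw [AddMonoidHom.add_apply, cmp_apply, cmp_apply, cmp_apply, ← map_add, Finset.sum_range_succ,
          add_mul, hwpow, inv_pow]
      have h3 : (fun r => ((i + 1 : ℕ) : F) * ψ r) = fun r => (i : F) * ψ r + ψ r := by
        ext r; rw [Nat.cast_add, Nat.cast_one, add_mul, one_mul]
      rw [h2, h3]
      exact h1
  obtain ⟨y, hy⟩ := key (2 ^ n + 1)
  have hsum : ∑ j ∈ Finset.range (2 ^ n + 1), ((wt σ k)⁻¹) ^ j = 0 := by
    have h1 : (∑ j ∈ Finset.range (2 ^ n + 1), ((wt σ k)⁻¹) ^ j) * ((wt σ k)⁻¹ - 1) = 0 := by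
      rw [geom_sum_mul]
      have h2 : (k : F) ^ (2 ^ n + 1) = 1 := by
        rw [← Cfsg.Agent.StdU3.Field.N_eq_pow]; exact hk
      have h3 : (wt σ k) ^ (2 ^ n + 1) = 1 := by
        rw [hwt, ← pow_mul, mul_comm 3, pow_mul, h2, one_pow]
      rw [inv_pow, h3, inv_one, sub_self]
    rcases mul_eq_zero.mp h1 with h2 | h2
    · exact h2
    · exfalso
      apply hk3
      have h3 : (wt σ k)⁻¹ = 1 := sub_eq_zero.mp h2
      rw [inv_eq_one, hwt] at h3
      exact h3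
  refine ⟨y, ?_, ?_⟩
  · intro s
    have h1 := hy.onS s
    rw [cmp_apply, hsum, zero_mul, map_zero, zz_zero, mul_one] at h1
    rw [mul_inv_eq_iff_eq_mul] at h1
    exact h1
  · intro r hr
    have h1 := hy.actQ r hr
    have h2 : (((2 ^ n + 1 : ℕ) : ℕ) : F) = 1 := by
      have h3 : n ≠ 0 := by have := T.hS.hq.hn; omega
      rw [Nat.cast_add, Nat.cast_pow, Nat.cast_one, Nat.cast_ofNat, CharTwo.two_eq_zero, zero_pow h3, zero_add]
    rw [h2, one_mul] at h1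
    exact h1

end avg

end Cfsg.Agent.OddHalf.D4.U3.TBase
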