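import Cfsg.Agent.OddHalf.D4.U3.TThree
import Cfsg.Agent.OddHalf.D4.U3.TInst
import Cfsg.Agent.OddHalf.D4.U3.MkDefs

/-!
# ODD, D4, row `K = U₃(q)`: the end of PIECE T

`exists_tout`: a commuting pair gives the structure `MkDefs.TOut`.
-/

set_option autoImplicit false
set_option linter.dupNamespace false
set_option linter.unusedSectionVars false

namespace Cfsg.Agent.OddHalf.D4.U3.TEnd

open Subgroup Cfsg.Agent.LieRecognition Cfsg.Agent.LieRecognition.HermHeis Cfsg.Agent.StdU3.URel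
  Cfsg.Agent.StdU3.Semi Cfsg.Agent.OddHalf.D4.CommConj Cfsg.Agent.OddHalf.D4.Basic
  Cfsg.Agent.OddHalf.D4.U3.TBase Cfsg.Agent.OddHalf.D4.U3.TLam Cfsg.Agent.OddHalf.D4.U3.TOne
  Cfsg.Agent.OddHalf.D4.U3.TTwo Cfsg.Agent.OddHalf.D4.U3.TThree Cfsg.Agent.OddHalf.D4.U3.ParDefs

universe u v

variable {G : Type u} [Group G] {F : Type v} [Field F] [Fintype F] [CharP F 2] {σ : F →+* F}
  [hσ : Fact (∀ x, σ (σ x) = x)] {n : ℕ}

section

variable {u : Heis σ →* G} {d : Fˣ →* G} {K C M Q : Subgroup G} (T : TD u d K C M Q n) {g : G} {f : G → F}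
  (H : TG u M Q g f)
include T H

/-- the 2-elements `y` of `C(S)` with `[y, Q] ≤ Z` -/
theorem mem_of [Finite G] {y : G} (hk : ∃ k : ℕ, y ^ 2 ^ k = 1) (hy : ∀ s, y * u s = u s * y)
    (hQ : ∀ r ∈ Q, ∃ b, σ b = b ∧ y * r * y⁻¹ = r * zz u b) : y ∈ T1 T H := by
  obtain ⟨c, hc, h1⟩ := lemC T H hy hQ
  obtain ⟨t, ht, h2⟩ := exists_T1 T H hc
  obtain ⟨h3, h4⟩ := ch_spec T H ht.1
  rw [h2] at h4
  -- `t⁻¹ y` centralizes `Q`
  have hti : ∀ r ∈ Q, t⁻¹ * (r * zz u (c * f r)) * t = r := by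
    intro r hr
    rw [← h4 r hr]; group
  obtain ⟨o, ho, b, hb, h5⟩ := exists_oz T (y := t⁻¹ * y) (fun s => by
      have h6 := Y2.cu (inv_mem ht.1) s
      calc t⁻¹ * y * u s = t⁻¹ * (y * u s) := by group
        _ = t⁻¹ * u s * y := by rw [hy]; group
        _ = u s * (t⁻¹ * y) := by rw [h6]; group)
    (fun r hr => by
      have h6 : t⁻¹ * y * r * (t⁻¹ * y)⁻¹ = r := by
        calc t⁻¹ * y * r * (t⁻¹ * y)⁻¹ = t⁻¹ * (y * r * y⁻¹) * t := by group
          _ = r := by rw [h1 r hr, hti r hr]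
      rwa [mul_inv_eq_iff_eq_mul] at h6)
  have hyt : y * zz u b = t * o := by
    calc y * zz u b = t * (t⁻¹ * y) * zz u b := by group
      _ = t * o * (zz u b * zz u b) := by rw [h5]; group
      _ = t * o := by rw [zz_sq hb, mul_one]
  obtain ⟨β, hβ, h6⟩ := ht.1.2 o ho
  obtain ⟨γ, hγ, h7⟩ := T1_sq T H ht
  have h8 : t * o = o * zz u β * t := by rw [← h6]; group
  have h9 : (y * zz u b) * (y * zz u b) = o * o * (zz u β * zz u γ) := by
    calc (y * zz u b) * (y * zz u b) = (t * o) * (t * o) := by rw [hyt]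
      _ = o * zz u β * (t * t) * o := by nth_rewrite 1 [h8]; group
      _ = o * zz u β * (zz u γ * o) := by rw [h7]; group
      _ = o * zz u β * (o * zz u γ) := by rw [← T.C_zz ho.1 γ]
      _ = o * (zz u β * o) * zz u γ := by group
      _ = o * (o * zz u β) * zz u γ := by rw [← T.C_zz ho.1 β]
      _ = _ := by group
  have h10 : (y * zz u b) ^ 4 = o ^ 4 := by
    have e1 : zz u β * zz u γ = zz u (β + γ) := (zz_add hβ hγ).symm
    have e2 : Commute (o * o) (zz u (β + γ)) := by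
      have := T.C_zz ho.1 (β + γ)
      exact Commute.mul_left this this
    calc (y * zz u b) ^ 4 = ((y * zz u b) * (y * zz u b)) ^ 2 := by rw [← pow_two, ← pow_mul]
      _ = (o * o * zz u (β + γ)) ^ 2 := by rw [h9, e1]
      _ = (o * o) ^ 2 := by rw [e2.mul_pow, pow_two (zz u (β + γ)), zz_sq (fix_add hβ hγ), mul_one]
      _ = o ^ 4 := by rw [← pow_two, ← pow_mul]
  obtain ⟨k, hk⟩ := hk
  have h11 : (y * zz u b) ^ 2 ^ (k + 1) = 1 := by
    have e1 : Commute y (zz u b) := comm_zz_of hy b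
    rw [e1.mul_pow, pow_succ, pow_mul, hk, one_pow, one_mul, mul_comm, pow_mul, pow_two, zz_sq hb, one_pow]
  have h12 : o ∈ Q := by
    apply ho.mem_Q T (k := k + 3)
    calc o ^ 2 ^ (k + 3) = (o ^ 4) ^ 2 ^ (k + 1) := by rw [← pow_mul]; congr 1; ring
      _ = ((y * zz u b) ^ 2 ^ (k + 1)) ^ 4 := by rw [← h10, ← pow_mul, ← pow_mul, mul_comm]
      _ = 1 := by rw [h11, one_pow]
  have h13 : y = t * o * zz u b := by
    rw [← hyt, mul_assoc, zz_sq hb, mul_one]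
  rw [h13]
  exact mul_mem (mul_mem ht (Q_T1 T H h12)) (zz_T1 T H b)

theorem f_mul {r r' : G} (hr : r ∈ Q) (hr' : r' ∈ Q) : f (r * r') = f r + f r' := by
  have h1 := H.f_fix r hr
  have h2 := H.f_fix r' hr'
  have h3 := H.f_fix (r * r') (mul_mem hr hr')
  have h4 := mul_mem (H.graph r hr) (H.graph r' hr')
  have h5 := H.graph (r * r') (mul_mem hr hr')
  have h6 : zz u (f (r * r') + (f r + f r')) ∈ cj g Q := by
    have e1 : r * zz u (f r) * (r' * zz u (f r')) = r * r' * zz u (f r + f r') := by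
      rw [zz_add h1 h2]
      calc r * zz u (f r) * (r' * zz u (f r')) = r * (zz u (f r) * r') * zz u (f r') := by group
        _ = _ := by rw [← T.Q_zz hr']; group
    rw [e1] at h4
    have h7 := mul_mem (inv_mem h5) h4
    have e2 : (r * r' * zz u (f (r * r')))⁻¹ * (r * r' * zz u (f r + f r')) =
        zz u (f (r * r') + (f r + f r')) := by
      rw [zz_add h3 (fix_add h1 h2), mul_inv_rev, zz_inv h3]
      group
    rwa [e2] at h7
  have h7 : g⁻¹ * zz u (f (r * r') + (f r + f r')) * g = 1 := by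
    have h8 := mem_cj.mp h6
    have h9 : zz u (f (r * r') + (f r + f r')) ∈ cj g u.range := by
      rw [H.range]; exact T.zz_range _
    obtain ⟨x, hx⟩ := mem_cj.mp h9
    apply T.KC _ _ (T.syl.le h8)
    rw [← hx]
    exact T.uK x
  have h8 : zz u (f (r * r') + (f r + f r')) = 1 := by
    calc zz u (f (r * r') + (f r + f r')) = g * (g⁻¹ * zz u (f (r * r') + (f r + f r')) * g) * g⁻¹ := by group
      _ = 1 := by rw [h7]; group
  exact CharTwo.add_eq_zero.mp (T.zz_inj (fix_add h3 (fix_add h1 h2)) h8)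

end

/-- **PIECE T.** -/
theorem exists_tout [Finite G] {K Q : Subgroup G} (X : Uni K σ n)
    (hdig : ∀ (Y : Uni K σ n) (g : G), g ∉ normalizer (K : Set G) →
      Y.p.S ≤ centralizer ((cj g K : Subgroup G) : Set G) → cj g Y.p.S ≤ centralizer (K : Set G) → False)
    (hQ : IsSyl Q (centralizer (K : Set G))) {x : G} (hx : x ∉ normalizer (K : Set G))
    (hc : ∀ r ∈ Q, ∀ w ∈ cj x Q, r * w = w * r) :
    ∃ X' : Uni K σ n, ∃ t : MkDefs.TOut X'.p, t.Q = Q := by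
  obtain ⟨k, hk, y, hy, -, hS, hyQ, -, hgr, -⟩ := CommonTD.pair_common_of X hdig hQ hx hc
  set X' : Uni K σ n := Fr.uinn X ⟨k, hk⟩ with hX'
  have hXS : X'.p.S = cj k X.p.S := Fr.inn_S X.p ⟨k, hk⟩
  have hXZ : X'.p.Z = cj k X.p.Z := Fr.inn_Z X.p ⟨k, hk⟩
  have T := TInst.td_of X' hdig hQ hx hc
  have hzz : ∀ b, MkDefs.zz X'.p b = zz X'.p.u b := fun b => rfl
  have hbar : ∀ b : F, Cfsg.Agent.StdU3.Field.bar n b = b ↔ σ b = b := fun b => by rw [X'.p.hS.eq]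
  have hmZ : ∀ z, z ∈ X'.p.Z ↔ ∃ b, σ b = b ∧ z = zz X'.p.u b := by
    intro z
    rw [Par.mem_Z]
    constructor
    · rintro ⟨z', h1, rfl⟩
      exact ⟨z'.b, b_fixed_of_a_eq_zero h1, u_of_a h1⟩
    · rintro ⟨b, hb, rfl⟩
      exact ⟨zet b hb, rfl, zz_pos hb⟩
  have hf : ∀ r ∈ Q, ∃ b, σ b = b ∧ r * zz X'.p.u b ∈ cj y Q := by
    intro r hr
    obtain ⟨z, hz, h1⟩ := hgr r hr
    rw [← hXZ, hmZ] at hz
    obtain ⟨b, hb, rfl⟩ := hz
    exact ⟨b, hb, by rw [hyQ]; exact h1⟩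
  choose! f hf1 hf2 using hf
  have H : TG X'.p.u (normalizer (K : Set G)) Q y f := by
    refine ⟨hy, ?_, hf1, hf2⟩
    show cj y X'.p.S = X'.p.S
    rw [hXS, hS]
  obtain ⟨l, hl, hl1⟩ := Cfsg.Agent.StdU3.Field.exists_fixed_ne T.hS.hq
  have hne : nm σ l + 1 ≠ 0 := by
    intro h
    apply hl1
    rw [← T.hS.eq] at hl
    rw [nm_of_fixed σ hl] at h
    have h3 : ((l : F) + 1) ^ 2 = 0 := by
      rw [CharTwo.add_sq, one_pow]; exact h
    exact CharTwo.add_eq_zero.mp (pow_eq_zero_iff (two_ne_zero) |>.mp h3)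
  obtain ⟨kap, hkap, hsq⟩ := exists_kap T H hne
  obtain ⟨r₀, hr₀, hr₀1⟩ := T.ne
  have hρ := f_ne T H hr₀ hr₀1
  have hρf := H.f_fix r₀ hr₀
  have hdec : ∀ w ∈ T1 T H, ∃ e ∈ E1 T H l, ∃ r ∈ Q, w = e * r := fun w hw => T1_dec T H hne hw
  refine ⟨X', {
    Q := Q
    E := E1 T H l
    c := fun e => f r₀ * ch X'.p.u Q f e
    f := fun r => (f r₀)⁻¹ * f r
    kap := kap * (f r₀)⁻¹
    sylQ := hQ
    Q_sq := T.sq
    Z_le := ?_
    E_S := ?_
    E_comm := fun e he e' he' => E1_comm T H hne he he'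
    c_mul := ?_
    c_fix := ?_
    c_surj := ?_
    c_ker := ?_
    c_Z := ?_
    f_mul := ?_
    f_fix := ?_
    f_inj := ?_
    f_one := ⟨r₀, hr₀, inv_mul_cancel₀ hρ⟩
    kap_fix := (hbar _).mpr (fix_mul hkap (fix_inv hρf))
    conj := ?_
    sq := ?_
    d_E := ?_
    d_comm := ?_
    mem := ?mem
    memb := ?memb }, rfl⟩
  · intro z hz
    obtain ⟨b, hb, rfl⟩ := (hmZ z).mp hz
    exact zz_E1 T H l b
  · rintro e he s ⟨s', rfl⟩
    exact (E1_le T H l he).1.1 s'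
  · intro e he e' he'
    show f r₀ * ch X'.p.u Q f (e * e') = f r₀ * ch X'.p.u Q f e + f r₀ * ch X'.p.u Q f e'
    rw [ch_mul T H (E1_le T H l he).1 (E1_le T H l he').1, mul_add]
  · intro e he
    exact (hbar _).mpr (fix_mul hρf (ch_spec T H (E1_le T H l he).1).1)
  · intro b hb
    have hb' := (hbar b).mp hb
    obtain ⟨e, he, h1⟩ := E1_surj T H hne (c := (f r₀)⁻¹ * b) (fix_mul (fix_inv hρf) hb')
    refine ⟨e, he, ?_⟩
    show f r₀ * ch X'.p.u Q f e = b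
    rw [h1, ← mul_assoc, mul_inv_cancel₀ hρ, one_mul]
  · intro e he h
    exact (hmZ e).mpr (E1_ker T H hne he ((mul_eq_zero.mp h).resolve_left hρ))
  · intro z hz
    obtain ⟨b, hb, rfl⟩ := (hmZ z).mp hz
    show f r₀ * ch X'.p.u Q f (zz X'.p.u b) = 0
    rw [ch_zz T H, mul_zero]
  · intro r hr r' hr'
    show (f r₀)⁻¹ * f (r * r') = (f r₀)⁻¹ * f r + (f r₀)⁻¹ * f r'
    rw [f_mul T H hr hr', mul_add]
  · intro r hr
    exact (hbar _).mpr (fix_mul (fix_inv hρf) (H.f_fix r hr))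
  · intro r hr h
    by_contra h1
    rcases mul_eq_zero.mp h with h2 | h2
    · exact hρ (inv_eq_zero.mp h2)
    · exact f_ne T H hr h1 h2
  · intro e he r hr
    rw [hzz]
    show e * r * e⁻¹ = r * zz X'.p.u (f r₀ * ch X'.p.u Q f e * ((f r₀)⁻¹ * f r))
    rw [(ch_spec T H (E1_le T H l he).1).2 r hr]
    congr 2
    field_simp
  · intro e he
    rw [hzz]
    show e * e = zz X'.p.u (kap * (f r₀)⁻¹ * (f r₀ * ch X'.p.u Q f e))
    rw [hsq e he]
    congr 1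
    field_simp
  · intro m e he
    refine ⟨d_E1 T H l m he, ?_⟩
    show f r₀ * ch X'.p.u Q f (X'.p.d m * e * (X'.p.d m)⁻¹) = _ * (f r₀ * ch X'.p.u Q f e)
    rw [ch_d T H m (E1_le T H l he).1]
    unfold nm
    rw [Cfsg.Agent.StdU3.Field.N_def, X'.p.hS.eq]
    ring
  · intro m hm e he
    apply d_comm T H _ (E1_le T H l he)
    unfold nm
    rw [X'.p.hS.eq]
    exact hm
  case mem =>
    intro w hk hw hwQ
    apply hdec
    apply mem_of T H hk (fun s => hw _ ⟨s, rfl⟩)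
    intro r hr
    obtain ⟨z, hz, h1⟩ := hwQ r hr
    obtain ⟨b, hb, rfl⟩ := (hmZ z).mp hz
    exact ⟨b, hb, h1⟩
  case memb =>
    intro w hw
    obtain ⟨c, hc, h⟩ := memb T H (x := w) (by
      rintro _ ⟨r, hr, rfl⟩
      obtain ⟨r', hr', z, hz, h1⟩ := hw r hr
      obtain ⟨b, hb, rfl⟩ := (hmZ z).mp hz
      exact ⟨r', hr', b, hb, h1⟩)
    refine ⟨c * f r₀, (hbar _).mpr (fix_mul hc hρf), ?_⟩
    intro r hr
    rw [hzz]
    have h1 : c * f r₀ * ((f r₀)⁻¹ * f r) = c * f r := by field_simp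
    rw [h1]
    exact h r hr

end Cfsg.Agent.OddHalf.D4.U3.TEnd
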