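import Cfsg.Agent.OddHalf.D4.U3.TBase

/-!
# ODD, D4, row `K = U₃(q)`: PIECE T, (T1), (memb)
-/

set_option autoImplicit false
set_option linter.dupNamespace false
set_option linter.unusedSectionVars false

namespace Cfsg.Agent.OddHalf.D4.U3.TLam

open Subgroup Cfsg.Agent.LieRecognition Cfsg.Agent.LieRecognition.HermHeis Cfsg.Agent.StdU3.URel
  Cfsg.Agent.StdU3.Semi Cfsg.Agent.OddHalf.D4.CommConj Cfsg.Agent.OddHalf.D4.Basic
  Cfsg.Agent.OddHalf.D4.U3.TBase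

universe u v

variable {G : Type u} [Group G] {F : Type v} [Field F] [Fintype F] [CharP F 2] {σ : F →+* F}
  [hσ : Fact (∀ x, σ (σ x) = x)] {n : ℕ} {u : Heis σ →* G} {d : Fˣ →* G} {K C M Q : Subgroup G}
  (T : TD u d K C M Q n)

include T

theorem exists_phi {x : G} (h : ∀ y, ∃ y' : Heis σ, x * u y * x⁻¹ = u y' ∧ y'.a = y.a)
    (hz : ∀ z : Heis σ, z.a = 0 → x * u z * x⁻¹ = u z) :
    ∃ φ : F →+ F, (∀ a, σ (φ a) = φ a) ∧ ∀ y, x * u y * x⁻¹ = u y * zz u (φ y.a) := by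
  classical
  have h1 : ∀ y, ∃ b, σ b = b ∧ x * u y * x⁻¹ = u y * zz u b := by
    intro y
    obtain ⟨y', hy', ha⟩ := h y
    have hw : (y⁻¹ * y').a = 0 := by
      rw [mul_a, inv_a, ha]; exact CharTwo.add_self_eq_zero _
    refine ⟨(y⁻¹ * y').b, b_fixed_of_a_eq_zero hw, ?_⟩
    rw [← u_of_a hw, hy', ← map_mul, mul_inv_cancel_left]
  choose Φ hfix hΦ using h1
  have hadd : ∀ y y', Φ (y * y') = Φ y + Φ y' := by
    intro y y'
    apply T.zz_inj' (hfix _) (fix_add (hfix _) (hfix _))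
    rw [zz_add (hfix _) (hfix _)]
    have e1 := hΦ (y * y')
    have e2 : x * u (y * y') * x⁻¹ = u (y * y') * (zz u (Φ y) * zz u (Φ y')) := by
      calc x * u (y * y') * x⁻¹ = (x * u y * x⁻¹) * (x * u y' * x⁻¹) := by rw [map_mul]; group
        _ = u y * (zz u (Φ y) * u y') * zz u (Φ y') := by rw [hΦ, hΦ]; group
        _ = u y * (u y' * zz u (Φ y)) * zz u (Φ y') := by rw [zz_comm_u]
        _ = _ := by rw [map_mul]; group
    exact mul_left_cancel (e1.symm.trans e2)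
  have hzero : ∀ z : Heis σ, z.a = 0 → Φ z = 0 := by
    intro z hz0
    apply T.zz_inj (hfix _)
    have e1 := hΦ z
    rw [hz z hz0] at e1
    exact (left_eq_mul.mp e1)
  have hdep : ∀ y y' : Heis σ, y.a = y'.a → Φ y = Φ y' := by
    intro y y' hyy
    have hw : (y⁻¹ * y').a = 0 := by
      rw [mul_a, inv_a, hyy]; exact CharTwo.add_self_eq_zero _
    have e1 := hadd y (y⁻¹ * y')
    rw [mul_inv_cancel_left, hzero _ hw, add_zero] at e1
    exact e1.symm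
  choose sec hsec using exists_a T.hS
  refine ⟨{ toFun := fun a => Φ (sec a), map_zero' := hzero _ (hsec 0), map_add' := ?_ }, fun a => hfix _, ?_⟩
  · intro a b
    show Φ (sec (a + b)) = Φ (sec a) + Φ (sec b)
    rw [← hadd]
    apply hdep
    rw [hsec, mul_a, hsec, hsec]
  · intro y
    show x * u y * x⁻¹ = u y * zz u (Φ (sec y.a))
    rw [hdep (sec y.a) y (hsec _), hΦ]

theorem sig_tau (τ : F ≃+* F) (x : F) : σ (τ x) = τ (σ x) := by
  rw [T.hS.eq, T.hS.eq, Cfsg.Agent.StdU3.Field.bar_def, Cfsg.Agent.StdU3.Field.bar_def, map_pow]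

theorem sig_tau_symm (τ : F ≃+* F) (x : F) : σ (τ.symm x) = τ.symm (σ x) := sig_tau T τ.symm x

/-- the action of an element normalizing `S` -/
theorem exists_sl {g : G} (hg : cj g u.range = u.range) : ∃ c : F, c ≠ 0 ∧ ∃ τ : F ≃+* F,
    (∀ x, ∃ y : Heis σ, g * u x * g⁻¹ = u y ∧ y.a = c * τ x.a) ∧
    ∀ b, σ b = b → g * zz u b * g⁻¹ = zz u ((c * σ c) * τ b) := by
  have H : PW u (⊥ : Subgroup G) := by
    refine ⟨T.inj, ?_, ?_, ?_⟩
    · intro r hr x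
      rw [mem_bot] at hr
      rw [hr]; simp
    · intro r hr
      rw [mem_bot] at hr
      rw [hr]; simp
    · intro x hx
      rw [mem_bot] at hx
      exact T.inj (by rw [hx, map_one])
  have hN : Nm u (⊥ : Subgroup G) g := by
    intro x
    have h1 : g * u x * g⁻¹ ∈ u.range := by
      have := mem_cj_mul (g := g) (X := u.range) ⟨x, rfl⟩
      rwa [hg] at this
    obtain ⟨y, hy⟩ := h1
    exact ⟨y, 1, one_mem _, by rw [one_mul]; exact hy.symm⟩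
  obtain ⟨c, hc, τ, h1, h2⟩ := Nm.exists_SL T.hS H hN
  refine ⟨c, hc, τ, ?_, ?_⟩
  · intro x
    obtain ⟨y, r, hr, h3, h4⟩ := h1 x
    rw [mem_bot] at hr
    rw [hr, one_mul] at h3
    exact ⟨y, h3, h4⟩
  · intro b hb
    obtain ⟨z', h3, h4, h5⟩ := h2 (zet b hb) rfl
    rw [zz_pos hb, h5, u_of_a h3, h4]
    rfl

/-- **(T1)** -/
theorem lemB {g : G} (hg : cj g u.range = u.range) {ψ : G → F}
    (hψ : ∀ r ∈ Q, σ (ψ r) = ψ r ∧ r * zz u (ψ r) ∈ cj g Q) :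
    ∃ l : F, σ l = l ∧ l ≠ 0 ∧ ∃ y, (∀ s, y * u s = u s * y) ∧ ∀ r ∈ Q, y * r * y⁻¹ = r * zz u (l * ψ r) := by
  obtain ⟨c, hc, τ, hs, hz⟩ := exists_sl T hg
  have hcc : σ (c * σ c) = c * σ c := by rw [map_mul, HermHeis.sig, mul_comm]
  have hcn : c * σ c ≠ 0 := mul_ne_zero hc (fun h => hc ((map_eq_zero σ).mp h))
  obtain ⟨l₁, hl₁, hl₁1⟩ := Cfsg.Agent.StdU3.Field.exists_fixed_ne T.hS.hq
  rw [← T.hS.eq] at hl₁
  have hτne : τ (l₁ : F) ≠ 0 := fun h => l₁.ne_zero ((map_eq_zero τ).mp h)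
  set l₂ : Fˣ := Units.mk0 (τ (l₁ : F)) hτne with hl₂def
  have hl₂v : (l₂ : F) = τ (l₁ : F) := rfl
  have hl₂ : σ (l₂ : F) = l₂ := by rw [hl₂v, sig_tau T, hl₁]
  have hl₂1 : (l₂ : F) ≠ 1 := by
    rw [hl₂v]
    intro h
    exact hl₁1 (by rw [← map_one τ] at h; exact τ.injective h)
  -- preimages of central elements
  have hpre : ∀ b, σ b = b → ∃ b₁, σ b₁ = b₁ ∧ (c * σ c) * τ b₁ = b := by
    intro b hb
    refine ⟨τ.symm (b * (c * σ c)⁻¹), ?_, ?_⟩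
    · rw [sig_tau_symm T, fix_mul hb (fix_inv hcc)]
    · rw [RingEquiv.apply_symm_apply, mul_comm b, ← mul_assoc, mul_inv_cancel₀ hcn, one_mul]
  set x := g * d l₁ * g⁻¹ * (d l₂)⁻¹ with hx
  have hconj : ∀ w : G, x * w * x⁻¹ = g * (d l₁ * (g⁻¹ * ((d l₂)⁻¹ * w * d l₂) * g) * (d l₁)⁻¹) * g⁻¹ := by
    intro w; rw [hx]; group
  have hd2 : ∀ y, (d l₂)⁻¹ * u y * d l₂ = u (act l₂⁻¹ y) := by
    intro y
    have := T.d_u l₂⁻¹ y
    rw [map_inv, inv_inv] at this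
    exact this
  have h1 : ∀ y, ∃ y' : Heis σ, x * u y * x⁻¹ = u y' ∧ y'.a = y.a := by
    intro y
    obtain ⟨x₁, hx₁⟩ : ∃ x₁, u x₁ = g⁻¹ * u (act l₂⁻¹ y) * g := by
      have h2 : u (act l₂⁻¹ y) ∈ cj g u.range := by rw [hg]; exact ⟨_, rfl⟩
      exact mem_cj.mp h2
    obtain ⟨y₁, hy₁, hy₁a⟩ := hs x₁
    have h3 : y₁ = act l₂⁻¹ y := by
      apply T.inj
      rw [← hy₁, hx₁]; group
    obtain ⟨y', hy', hy'a⟩ := hs (act l₁ x₁)
    refine ⟨y', ?_, ?_⟩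
    · rw [hconj, hd2, ← hx₁, T.d_u, hy']
    · rw [h3, act_a, wt_inv, wt_of_fixed σ hl₂] at hy₁a
      rw [hy'a, act_a, wt_of_fixed σ hl₁, map_mul, ← hl₂v]
      calc c * ((l₂ : F) * τ x₁.a) = l₂ * (c * τ x₁.a) := by ring
        _ = l₂ * ((l₂ : F)⁻¹ * y.a) := by rw [← hy₁a]
        _ = y.a := by rw [← mul_assoc, mul_inv_cancel₀ l₂.ne_zero, one_mul]
  have hn2 : nm σ l₂ = (l₂ : F) ^ 2 := nm_of_fixed σ hl₂
  have hn1 : nm σ l₁ = (l₁ : F) ^ 2 := nm_of_fixed σ hl₁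
  have hzpart : ∀ b, σ b = b → g * (d l₁ * (g⁻¹ * zz u b * g) * (d l₁)⁻¹) * g⁻¹ = zz u ((l₂ : F) ^ 2 * b) := by
    intro b hb
    obtain ⟨b₁, hb₁, hbb⟩ := hpre b hb
    have h2 : g⁻¹ * zz u b * g = zz u b₁ := by
      rw [← hbb, ← hz b₁ hb₁]; group
    rw [h2, T.d_zz _ hb₁, hn1, hz _ (fix_mul (by rw [map_pow, hl₁]) hb₁), map_mul, map_pow, ← hl₂v, ← hbb]
    congr 1
    ring
  have h2 : ∀ z : Heis σ, z.a = 0 → x * u z * x⁻¹ = u z := by
    intro z hz0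
    have hb := b_fixed_of_a_eq_zero hz0
    have hd2z : (d l₂)⁻¹ * zz u z.b * d l₂ = zz u (((l₂ : F) ^ 2)⁻¹ * z.b) := by
      have h3 := hd2 z
      rw [u_of_a hz0] at h3
      rw [h3, u_of_a (by rw [act_a, hz0, mul_zero]), act_b]
      congr 2
      have h4 : nm σ l₂⁻¹ * nm σ l₂ = 1 := by rw [← nm_mul, inv_mul_cancel, nm_one]
      rw [← hn2]
      exact eq_inv_of_mul_eq_one_left h4
    have hl2n : (l₂ : F) ^ 2 ≠ 0 := pow_ne_zero _ l₂.ne_zero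
    have hf : σ (((l₂ : F) ^ 2)⁻¹ * z.b) = ((l₂ : F) ^ 2)⁻¹ * z.b :=
      fix_mul (fix_inv (by rw [map_pow, hl₂])) hb
    rw [u_of_a hz0, hconj, hd2z, hzpart _ hf, ← mul_assoc, mul_inv_cancel₀ hl2n, one_mul]
  obtain ⟨φ, hφ, hφx⟩ := exists_phi T h1 h2
  have hlam : σ (1 + (l₂ : F) ^ 2) = 1 + (l₂ : F) ^ 2 := by rw [map_add, map_one, map_pow, hl₂]
  have hpreX : Pre u Q x φ (fun r => (1 + (l₂ : F) ^ 2) * ψ r) := by
    refine ⟨hφ, fun r hr => fix_mul hlam (hψ r hr).1, hφx, ?_⟩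
    intro r hr
    obtain ⟨hf, hr1⟩ := hψ r hr
    rw [mem_cj] at hr1
    set r₁ := g⁻¹ * (r * zz u (ψ r)) * g with hr₁
    have e1 : (d l₂)⁻¹ * r * d l₂ = r := by
      rw [mul_assoc, T.dC r (T.syl.le hr) l₂]; group
    have e2 : g⁻¹ * r * g = r₁ * (g⁻¹ * zz u (ψ r) * g) := by
      rw [hr₁]
      calc g⁻¹ * r * g = g⁻¹ * (r * 1) * g := by group
        _ = g⁻¹ * (r * (zz u (ψ r) * zz u (ψ r))) * g := by rw [zz_sq hf]
        _ = _ := by group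
    have e3 : d l₁ * r₁ * (d l₁)⁻¹ = r₁ := T.dQ hr1 l₁
    calc x * r * x⁻¹ = g * (d l₁ * (r₁ * (g⁻¹ * zz u (ψ r) * g)) * (d l₁)⁻¹) * g⁻¹ := by
          rw [hconj, e1, e2]
      _ = g * (d l₁ * r₁ * (d l₁)⁻¹) * g⁻¹ *
          (g * (d l₁ * (g⁻¹ * zz u (ψ r) * g) * (d l₁)⁻¹) * g⁻¹) := by group
      _ = r * zz u (ψ r) * zz u ((l₂ : F) ^ 2 * ψ r) := by rw [e3, hzpart _ hf, hr₁]; group
      _ = r * zz u ((1 + (l₂ : F) ^ 2) * ψ r) := by
        rw [mul_assoc, ← zz_add hf (fix_mul (by rw [map_pow, hl₂]) hf)]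
        congr 2
        ring
  obtain ⟨y, hy1, hy2⟩ := T.exists_cent hpreX
  refine ⟨1 + (l₂ : F) ^ 2, hlam, ?_, y, hy1, hy2⟩
  intro h
  apply hl₂1
  have h3 : ((l₂ : F) + 1) ^ 2 = 0 := by
    rw [CharTwo.add_sq, one_pow, add_comm]; exact h
  have h4 := pow_eq_zero_iff (two_ne_zero) |>.mp h3
  exact CharTwo.add_eq_zero.mp h4

/-- (key) -/
theorem keyA {y : G} (hQ : ∀ r ∈ Q, ∃ b, σ b = b ∧ y * r * y⁻¹ = r * zz u b) {r₀ : G} (hr₀ : r₀ ∈ Q)
    (h1 : r₀ ≠ 1) (hc : y * r₀ = r₀ * y) : y ∈ M ∧ ∀ r ∈ Q, y * r = r * y := by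
  have hyM : y ∈ M := by
    apply T.tight y r₀ (T.syl.le hr₀) h1 (T.sq r₀ hr₀)
    have : y⁻¹ * r₀ * y = r₀ := by rw [mul_assoc, ← hc]; group
    rw [this]
    exact T.syl.le hr₀
  refine ⟨hyM, fun r hr => ?_⟩
  obtain ⟨b, hb, h⟩ := hQ r hr
  have h2 := T.C_nor y hyM r (T.syl.le hr)
  rw [h] at h2
  have h3 : zz u b ∈ C := by
    have := C.mul_mem (C.inv_mem (T.syl.le hr)) h2
    rwa [inv_mul_cancel_left] at this
  have h4 := T.zzC hb h3
  rw [h4, zz_zero, mul_one, mul_inv_eq_iff_eq_mul] at h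
  exact h

/-- the conjugating element and the graph -/
structure TG (u : Heis σ →* G) (M Q : Subgroup G) (g : G) (f : G → F) : Prop where
  notM : g ∉ M
  range : cj g u.range = u.range
  f_fix : ∀ r ∈ Q, σ (f r) = f r
  graph : ∀ r ∈ Q, r * zz u (f r) ∈ cj g Q

section TG

variable {g : G} {f : G → F} (H : TG u M Q g f)
include H

theorem f_ne {r : G} (hr : r ∈ Q) (h1 : r ≠ 1) : f r ≠ 0 := by
  intro h
  have h2 := H.graph r hr
  rw [h, zz_zero, mul_one, mem_cj] at h2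
  exact H.notM (T.tight g r (T.syl.le hr) h1 (T.sq r hr) (T.syl.le h2))

/-- every `c` occurs -/
theorem exists_of_c {c : F} (hc : σ c = c) :
    ∃ y, (∀ s, y * u s = u s * y) ∧ ∀ r ∈ Q, y * r * y⁻¹ = r * zz u (c * f r) := by
  obtain ⟨l, hl, hl0, y, hy1, hy2⟩ := lemB T H.range (ψ := f) (fun r hr => ⟨H.f_fix r hr, H.graph r hr⟩)
  by_cases hc0 : c = 0
  · refine ⟨1, fun s => by simp, fun r hr => ?_⟩
    rw [hc0, zero_mul, zz_zero]; group
  obtain ⟨m, hm⟩ := Cfsg.Agent.StdU3.Field.exists_norm T.hS.hq (b := c * l⁻¹)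
    (by rw [← T.hS.eq]; exact fix_mul hc (fix_inv hl))
  have hm0 : m ≠ 0 := by
    rintro rfl
    rw [Cfsg.Agent.StdU3.Field.N_zero] at hm
    exact (mul_ne_zero hc0 (inv_ne_zero hl0)) hm.symm
  set k : Fˣ := Units.mk0 m hm0 with hk
  have hnm : nm σ k = c * l⁻¹ := by
    unfold nm
    rw [hk, Units.val_mk0, T.hS.eq]
    exact hm
  refine ⟨d k * y * (d k)⁻¹, ?_, ?_⟩
  · intro s
    have h1 : (d k)⁻¹ * u s * d k = u (act k⁻¹ s) := by
      have := T.d_u k⁻¹ s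
      rw [map_inv, inv_inv] at this
      exact this
    have h2 := hy1 (act k⁻¹ s)
    calc d k * y * (d k)⁻¹ * u s = d k * (y * ((d k)⁻¹ * u s * d k)) * (d k)⁻¹ := by group
      _ = d k * (((d k)⁻¹ * u s * d k) * y) * (d k)⁻¹ := by rw [h1, h2]
      _ = u s * (d k * y * (d k)⁻¹) := by group
  · intro r hr
    have h1 : (d k)⁻¹ * r * d k = r := by
      rw [mul_assoc, T.dC r (T.syl.le hr) k]; group
    calc d k * y * (d k)⁻¹ * r * (d k * y * (d k)⁻¹)⁻¹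
        = d k * (y * ((d k)⁻¹ * r * d k) * y⁻¹) * (d k)⁻¹ := by group
      _ = (d k * r * (d k)⁻¹) * (d k * zz u (l * f r) * (d k)⁻¹) := by rw [h1, hy2 r hr]; group
      _ = r * zz u (c * f r) := by
        rw [T.dQ hr, T.d_zz _ (fix_mul hl (H.f_fix r hr)), hnm]
        congr 2
        field_simp

/-- only multiples of `f` occur -/
theorem lemC {y : G} (hy : ∀ s, y * u s = u s * y) (hQ : ∀ r ∈ Q, ∃ b, σ b = b ∧ y * r * y⁻¹ = r * zz u b) :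
    ∃ c, σ c = c ∧ ∀ r ∈ Q, y * r * y⁻¹ = r * zz u (c * f r) := by
  obtain ⟨r₀, hr₀, hr₀1⟩ := T.ne
  obtain ⟨b₀, hb₀, hyb⟩ := hQ r₀ hr₀
  have hf0 := f_ne T H hr₀ hr₀1
  have hff := H.f_fix r₀ hr₀
  have hc : σ (b₀ * (f r₀)⁻¹) = b₀ * (f r₀)⁻¹ := fix_mul hb₀ (fix_inv hff)
  obtain ⟨w, hw1, hw2⟩ := exists_of_c T H hc
  refine ⟨b₀ * (f r₀)⁻¹, hc, ?_⟩
  have hwz : ∀ b, w * zz u b = zz u b * w := by
    intro b
    by_cases hb : σ b = b
    · rw [zz_pos hb]; exact hw1 _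
    · have : zz u b = 1 := by unfold zz; rw [dif_neg hb]
      rw [this]; simp
  have hyz : ∀ b, y * zz u b = zz u b * y := by
    intro b
    by_cases hb : σ b = b
    · rw [zz_pos hb]; exact hy _
    · have : zz u b = 1 := by unfold zz; rw [dif_neg hb]
      rw [this]; simp
  -- `w y` fixes `r₀`
  have hwy : ∀ r ∈ Q, ∀ b, σ b = b → y * r * y⁻¹ = r * zz u b →
      w * y * r * (w * y)⁻¹ = r * zz u (b₀ * (f r₀)⁻¹ * f r + b) := by
    intro r hr b hb hyr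
    rw [zz_add (fix_mul hc (H.f_fix r hr)) hb]
    calc w * y * r * (w * y)⁻¹ = w * (y * r * y⁻¹) * w⁻¹ := by group
      _ = (w * r * w⁻¹) * (w * zz u b * w⁻¹) := by rw [hyr]; group
      _ = r * (zz u (b₀ * (f r₀)⁻¹ * f r) * zz u b) := by rw [hw2 r hr, hwz]; group
  have h0 : (w * y) * r₀ = r₀ * (w * y) := by
    have h1 := hwy r₀ hr₀ b₀ hb₀ hyb
    rw [inv_mul_cancel_right₀ hf0, add_self', zz_zero, mul_one, mul_inv_eq_iff_eq_mul] at h1
    exact h1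
  obtain ⟨-, hall⟩ := keyA T (y := w * y) (fun r hr => by
    obtain ⟨b, hb, h⟩ := hQ r hr
    exact ⟨_, fix_add (fix_mul hc (H.f_fix r hr)) hb, hwy r hr b hb h⟩) hr₀ hr₀1 h0
  intro r hr
  obtain ⟨b, hb, h⟩ := hQ r hr
  have h1 := hwy r hr b hb h
  have h2 : w * y * r * (w * y)⁻¹ = r := by rw [hall r hr]; group
  rw [h2] at h1
  have h3 := T.zz_inj (fix_add (fix_mul hc (H.f_fix r hr)) hb) (left_eq_mul.mp h1)
  rw [h, CharTwo.add_eq_zero.mp h3]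

/-- **(memb)** -/
theorem memb [Finite G] {x : G} (hx : ∀ w ∈ cj x Q, ∃ r ∈ Q, ∃ b, σ b = b ∧ w = r * zz u b) :
    ∃ c, σ c = c ∧ ∀ r ∈ Q, r * zz u (c * f r) ∈ cj x Q := by
  by_cases hxM : x ∈ M
  · refine ⟨0, fix_zero, ?_⟩
    have h1 : cj x Q ≤ Q := by
      intro w hw
      obtain ⟨r, hr, b, hb, hwr⟩ := hx w hw
      have h2 : w ∈ C := by
        obtain ⟨r', hr', rfl⟩ := hw
        exact T.C_nor x hxM r' (T.syl.le hr')
      have h3 : zz u b ∈ C := by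
        have := C.mul_mem (C.inv_mem (T.syl.le hr)) h2
        rwa [hwr, inv_mul_cancel_left] at this
      rw [hwr, T.zzC hb h3, zz_zero, mul_one]
      exact hr
    have h2 : cj x Q = Q := eq_of_le_of_card_ge h1 (by rw [card_cj])
    intro r hr
    rw [zero_mul, zz_zero, mul_one, h2]
    exact hr
  · obtain ⟨k, hk, y, hyM, hyQ, hyk, hgr⟩ := T.pair x hxM (by
      intro r hr w hw
      obtain ⟨r', hr', b, hb, rfl⟩ := hx w hw
      calc r * (r' * zz u b) = (r * r') * zz u b := by group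
        _ = r' * (r * zz u b) := by rw [T.Q_comm hr hr']; group
        _ = r' * zz u b * r := by rw [T.Q_zz hr]; group)
    -- the `z`-part is central in `S`
    have hzz : ∀ r ∈ Q, ∃ b, σ b = b ∧ r * zz u b ∈ cj x Q ∧ ∃ z : Heis σ, z.a = 0 ∧ k * u z * k⁻¹ = zz u b := by
      intro r hr
      obtain ⟨z, hz, hrz⟩ := hgr r hr
      obtain ⟨r', hr', b, hb, hrb⟩ := hx _ hrz
      have h1 : k * u z * k⁻¹ * (zz u b)⁻¹ = r⁻¹ * r' := by
        calc k * u z * k⁻¹ * (zz u b)⁻¹ = r⁻¹ * (r * (k * u z * k⁻¹)) * (zz u b)⁻¹ := by group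
          _ = r⁻¹ * r' := by rw [hrb]; group
      have h2 : k * u z * k⁻¹ * (zz u b)⁻¹ = 1 := by
        apply T.KC
        · apply K.mul_mem (T.K_nor k hk _ (T.uK z))
          apply K.inv_mem
          rw [zz_pos hb]; exact T.uK _
        · rw [h1]
          exact C.mul_mem (C.inv_mem (T.syl.le hr)) (T.syl.le hr')
      have h3 := mul_inv_eq_one.mp h2
      exact ⟨b, hb, by rw [← h3]; exact hrz, z, hz, h3⟩
    have hkS : cj k u.range = u.range := by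
      obtain ⟨r₀, hr₀, hr₀1⟩ := T.ne
      obtain ⟨b, hb, hb1, z, hz, hkz⟩ := hzz r₀ hr₀
      have hz1 : z ≠ 1 := by
        rintro rfl
        have h1 : zz u b = 1 := by rw [← hkz, map_one]; group
        rw [h1, mul_one, mem_cj] at hb1
        exact hxM (T.tight x r₀ (T.syl.le hr₀) hr₀1 (T.sq r₀ hr₀) (T.syl.le hb1))
      exact T.ti k hk z (zet b hb) hz1 (by rw [hkz, zz_pos hb])
    rw [hkS] at hyk
    choose! ψ hψ1 hψ2 _ using hzz
    obtain ⟨l, hl, hl0, w, hw1, hw2⟩ := lemB T hyk (ψ := ψ) (fun r hr => ⟨hψ1 r hr, by rw [hyQ]; exact hψ2 r hr⟩)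
    obtain ⟨c, hc, hcw⟩ := lemC T H hw1 (fun r hr => ⟨_, fix_mul hl (hψ1 r hr), hw2 r hr⟩)
    refine ⟨l⁻¹ * c, fix_mul (fix_inv hl) hc, ?_⟩
    intro r hr
    have h1 : l * ψ r = c * f r := by
      apply T.zz_inj' (fix_mul hl (hψ1 r hr)) (fix_mul hc (H.f_fix r hr))
      have := (hw2 r hr).symm.trans (hcw r hr)
      exact mul_left_cancel this
    have h2 : l⁻¹ * c * f r = ψ r := by
      rw [mul_assoc, ← h1, ← mul_assoc, inv_mul_cancel₀ hl0, one_mul]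
    rw [h2]
    exact hψ2 r hr

end TG

end Cfsg.Agent.OddHalf.D4.U3.TLam
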