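import Cfsg.Agent.OddHalf.D4.U3.TLam

/-!
# ODD, D4, row `K = U₃(q)`: PIECE T, (T2): the group `Y₂` and its Sylow 2-subgroup `T₁`
-/

set_option autoImplicit false
set_option linter.dupNamespace false
set_option linter.unusedSectionVars false

namespace Cfsg.Agent.OddHalf.D4.U3.TOne

open Subgroup Cfsg.Agent.LieRecognition Cfsg.Agent.LieRecognition.HermHeis Cfsg.Agent.StdU3.URel
  Cfsg.Agent.StdU3.Semi Cfsg.Agent.OddHalf.D4.CommConj Cfsg.Agent.OddHalf.D4.Basic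
  Cfsg.Agent.OddHalf.D4.U3.TBase Cfsg.Agent.OddHalf.D4.U3.TLam

universe u v

variable {G : Type u} [Group G] {F : Type v} [Field F] [Fintype F] [CharP F 2] {σ : F →+* F}
  [hσ : Fact (∀ x, σ (σ x) = x)] {n : ℕ} {u : Heis σ →* G} {d : Fˣ →* G} {K C M Q : Subgroup G}

/-! ### general facts -/

theorem zz_of_not {b : F} (hb : σ b ≠ b) : zz u b = 1 := by unfold zz; rw [dif_neg hb]

/-- a `zz` is one of a fixed element -/
theorem exists_fix (u : Heis σ →* G) (b : F) : ∃ b', σ b' = b' ∧ zz u b = zz u b' := by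
  by_cases hb : σ b = b
  · exact ⟨b, hb, rfl⟩
  · exact ⟨0, fix_zero, by rw [zz_of_not hb, zz_zero]⟩

theorem comm_zz_of {y : G} (hy : ∀ s, y * u s = u s * y) (b : F) : y * zz u b = zz u b * y := by
  by_cases hb : σ b = b
  · rw [zz_pos hb]; exact hy _
  · rw [zz_of_not hb]; simp

variable (T : TD u d K C M Q n)

include T in
/-- a central element of `S` -/
theorem a_zero {s : Heis σ} (h : ∀ y, u s * u y = u y * u s) : s.a = 0 := by
  have h1 : ∀ y, s * y = y * s := by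
    intro y
    apply T.inj
    rw [map_mul, map_mul, h]
  obtain ⟨e, he⟩ := Cfsg.Agent.StdU3.Field.exists_Tr_one T.hS.hq
  obtain ⟨y, hy⟩ := exists_a T.hS 1
  obtain ⟨y', hy'⟩ := exists_a T.hS e
  have h2 := (commute_iff _ _).mp (h1 y)
  have h3 := (commute_iff _ _).mp (h1 y')
  rw [hy, map_one, mul_one, one_mul] at h2
  rw [hy', ← h2] at h3
  rw [Cfsg.Agent.StdU3.Field.Tr_def, ← T.hS.eq] at he
  calc s.a = s.a * (e + σ e) := by rw [he, mul_one]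
    _ = s.a * e + s.a * σ e := by ring
    _ = 0 := by rw [h3, mul_comm e]; exact CharTwo.add_self_eq_zero _

/-- `o` lies in `N₀ = C_C(Q)` -/
def InN (C Q : Subgroup G) (o : G) : Prop := o ∈ C ∧ ∀ r ∈ Q, o * r = r * o

theorem InN.mul {o o' : G} (h : InN C Q o) (h' : InN C Q o') : InN C Q (o * o') :=
  ⟨C.mul_mem h.1 h'.1, fun r hr => by rw [mul_assoc, h'.2 r hr, ← mul_assoc, h.2 r hr, mul_assoc]⟩

theorem InN.inv {o : G} (h : InN C Q o) : InN C Q o⁻¹ :=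
  ⟨C.inv_mem h.1, fun r hr => by
    have := h.2 r hr
    calc o⁻¹ * r = o⁻¹ * (r * o) * o⁻¹ := by group
      _ = o⁻¹ * (o * r) * o⁻¹ := by rw [this]
      _ = r * o⁻¹ := by group⟩

theorem InN.pow {o : G} (h : InN C Q o) (k : ℕ) : InN C Q (o ^ k) := by
  induction k with
  | zero => rw [pow_zero]; exact ⟨one_mem C, fun r _ => by simp⟩
  | succ k ih => rw [pow_succ]; exact ih.mul h

include T in
theorem InN.of_Q {r : G} (hr : r ∈ Q) : InN C Q r := ⟨T.syl.le hr, fun _ hs => T.Q_comm hr hs⟩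

theorem two_zpowers {o : G} {k : ℕ} (hk : o ^ 2 ^ k = 1) : IsPGroup 2 ↥(zpowers o) := by
  rintro ⟨x, hx⟩
  obtain ⟨i, rfl⟩ := mem_zpowers_iff.mp hx
  refine ⟨k, ?_⟩
  ext
  show (o ^ i) ^ 2 ^ k = 1
  rw [← zpow_natCast, ← zpow_mul, mul_comm, zpow_mul, zpow_natCast, hk, one_zpow]

theorem cj_eq_of_le [Finite G] {x : G} {X : Subgroup G} (h : ∀ w ∈ X, x * w * x⁻¹ ∈ X) : cj x X = X := by
  apply eq_of_le_of_card_ge
  · rintro _ ⟨w, hw, rfl⟩
    exact h w hw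
  · rw [card_cj]

include T in
/-- a 2-element of `C` normalizing `Q` lies in `Q` -/
theorem mem_Q_of_norm [Finite G] {o : G} (ho : o ∈ C) (hn : cj o Q = Q) {k : ℕ} (hk : o ^ 2 ^ k = 1) : o ∈ Q := by
  have h2 : IsPGroup 2 ↥(Q ⊔ zpowers o) := by
    apply T.syl.two.to_sup_of_normal_left' (two_zpowers hk)
    rw [zpowers_le]
    exact mem_normalizer_of_cj_eq hn
  apply T.syl.max _ h2 le_sup_left _ (mem_sup_right (mem_zpowers o))
  exact sup_le T.syl.le ((zpowers_le).mpr ho)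

include T in
/-- a 2-element of `N₀` lies in `Q` -/
theorem InN.mem_Q [Finite G] {o : G} (h : InN C Q o) {k : ℕ} (hk : o ^ 2 ^ k = 1) : o ∈ Q := by
  apply mem_Q_of_norm T h.1 _ hk
  apply cj_eq_of_le
  intro r hr
  rw [h.2 r hr, mul_inv_cancel_right]
  exact hr

/-! ### the group `Y₂` -/

/-- `Y₂`: the elements centralizing `S` and acting on `N₀` by `o ↦ o z` -/
def Y2 (u : Heis σ →* G) (C Q : Subgroup G) : Subgroup G where
  carrier := {w | (∀ s, w * u s = u s * w) ∧ ∀ o, InN C Q o → ∃ b, σ b = b ∧ w * o * w⁻¹ = o * zz u b}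
  one_mem' := ⟨fun s => by simp, fun o _ => ⟨0, fix_zero, by rw [zz_zero]; group⟩⟩
  mul_mem' := by
    rintro x y ⟨hx1, hx2⟩ ⟨hy1, hy2⟩
    refine ⟨fun s => by rw [mul_assoc, hy1, ← mul_assoc, hx1, mul_assoc], ?_⟩
    intro o ho
    obtain ⟨b, hb, h⟩ := hy2 o ho
    obtain ⟨b', hb', h'⟩ := hx2 o ho
    refine ⟨b' + b, fix_add hb' hb, ?_⟩
    have h3 := comm_zz_of hx1 b
    calc x * y * o * (x * y)⁻¹ = x * (y * o * y⁻¹) * x⁻¹ := by group
      _ = (x * o * x⁻¹) * (x * zz u b * x⁻¹) := by rw [h]; group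
      _ = o * zz u b' * zz u b := by rw [h', h3]; group
      _ = o * zz u (b' + b) := by rw [zz_add hb' hb]; group
  inv_mem' := by
    rintro x ⟨hx1, hx2⟩
    have hx3 : ∀ s, x⁻¹ * u s = u s * x⁻¹ := fun s => by
      calc x⁻¹ * u s = x⁻¹ * (u s * x) * x⁻¹ := by group
        _ = u s * x⁻¹ := by rw [← hx1]; group
    refine ⟨hx3, ?_⟩
    intro o ho
    obtain ⟨b, hb, h⟩ := hx2 o ho
    refine ⟨b, hb, ?_⟩
    have h3 := comm_zz_of hx3 b
    have h4 : o = x⁻¹ * o * x * zz u b := by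
      calc o = x⁻¹ * (x * o * x⁻¹) * x := by group
        _ = x⁻¹ * o * (zz u b * x) := by rw [h]; group
        _ = x⁻¹ * o * (x * zz u b) := by rw [← comm_zz_of hx1 b]
        _ = _ := by group
    calc x⁻¹ * o * x⁻¹⁻¹ = x⁻¹ * o * x * (zz u b * zz u b) := by rw [zz_sq hb]; group
      _ = x⁻¹ * o * x * zz u b * zz u b := by group
      _ = o * zz u b := by rw [← h4]

theorem Y2.cu {w : G} (h : w ∈ Y2 u C Q) (s : Heis σ) : w * u s = u s * w := h.1 s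

theorem Y2.N {w : G} (h : w ∈ Y2 u C Q) {o : G} (ho : InN C Q o) : ∃ b, σ b = b ∧ w * o * w⁻¹ = o * zz u b :=
  h.2 o ho

theorem Y2.zz {w : G} (h : w ∈ Y2 u C Q) (b : F) : w * TBase.zz u b = TBase.zz u b * w :=
  comm_zz_of h.1 b

include T

theorem Y2.onQ {w : G} (h : w ∈ Y2 u C Q) : ∀ r ∈ Q, ∃ b, σ b = b ∧ w * r * w⁻¹ = r * TBase.zz u b :=
  fun _ hr => h.2 _ (InN.of_Q T hr)

theorem zz_Y2 (b : F) : TBase.zz u b ∈ Y2 u C Q := by
  refine ⟨fun s => (zz_comm_u b s).symm, fun o ho => ⟨0, fix_zero, ?_⟩⟩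
  rw [zz_zero, mul_one, ← T.C_zz ho.1 b]
  group

theorem Q_Y2 {r : G} (hr : r ∈ Q) : r ∈ Y2 u C Q := by
  refine ⟨fun s => T.uC r (T.syl.le hr) s, fun o ho => ⟨0, fix_zero, ?_⟩⟩
  rw [zz_zero, mul_one, ← ho.2 r hr]
  group

/-- the torus normalizes `Y₂` -/
theorem d_Y2 (l : Fˣ) {w : G} (hw : w ∈ Y2 u C Q) : d l * w * (d l)⁻¹ ∈ Y2 u C Q := by
  refine ⟨fun s => ?_, fun o ho => ?_⟩
  · have h1 : (d l)⁻¹ * u s * d l = u (act l⁻¹ s) := by
      have := T.d_u l⁻¹ s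
      rw [map_inv, inv_inv] at this
      exact this
    have h2 := hw.1 (act l⁻¹ s)
    calc d l * w * (d l)⁻¹ * u s = d l * (w * ((d l)⁻¹ * u s * d l)) * (d l)⁻¹ := by group
      _ = d l * (((d l)⁻¹ * u s * d l) * w) * (d l)⁻¹ := by rw [h1, h2]
      _ = u s * (d l * w * (d l)⁻¹) := by group
  · obtain ⟨b, hb, h⟩ := hw.2 o ho
    have h1 : (d l)⁻¹ * o * d l = o := by
      rw [mul_assoc, T.dC o ho.1 l]; group
    refine ⟨nm σ l * b, fix_mul (T.fix_nm l) hb, ?_⟩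
    calc d l * w * (d l)⁻¹ * o * (d l * w * (d l)⁻¹)⁻¹
        = d l * (w * ((d l)⁻¹ * o * d l) * w⁻¹) * (d l)⁻¹ := by group
      _ = (d l * o * (d l)⁻¹) * (d l * TBase.zz u b * (d l)⁻¹) := by rw [h1, h]; group
      _ = o * TBase.zz u (nm σ l * b) := by
        rw [T.d_zz _ hb]
        congr 1
        rw [← T.dC o ho.1 l]; group

/-- an element centralizing `S` and `Q` is `o z` with `o ∈ N₀` -/
theorem exists_oz {y : G} (hy : ∀ s, y * u s = u s * y) (hQ : ∀ r ∈ Q, y * r = r * y) :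
    ∃ o, InN C Q o ∧ ∃ b, σ b = b ∧ y = o * TBase.zz u b := by
  obtain ⟨r₀, hr₀, hr₀1⟩ := T.ne
  obtain ⟨hyM, -⟩ := keyA T (y := y) (fun r hr => ⟨0, fix_zero, by rw [zz_zero, hQ r hr]; group⟩) hr₀ hr₀1
    (hQ r₀ hr₀)
  obtain ⟨c, hc, s, rfl⟩ := T.trivS y hyM (fun s => ⟨s, rfl, by rw [hy]; group⟩)
  have hs : s.a = 0 := by
    apply a_zero T
    intro y
    have h1 := hy y
    have h2 := T.uC c hc y
    have h3 : c * (u s * u y) = c * (u y * u s) := by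
      calc c * (u s * u y) = c * u s * u y := by group
        _ = u y * c * u s := by rw [h1]; group
        _ = c * (u y * u s) := by rw [← h2]; group
    exact mul_left_cancel h3
  refine ⟨c, ⟨hc, ?_⟩, s.b, b_fixed_of_a_eq_zero hs, by rw [u_of_a hs]⟩
  intro r hr
  have h1 := hQ r hr
  have h2 := T.uC r (T.syl.le hr) s
  have h3 : c * r * u s = r * c * u s := by
    calc c * r * u s = c * (r * u s) := by group
      _ = c * u s * r := by rw [h2]; group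
      _ = r * c * u s := by rw [h1]; group
  exact mul_right_cancel h3

/-- the kernel of the action of `Y₂` on `Q` -/
theorem Y2.ker {w : G} (h : w ∈ Y2 u C Q) (hQ : ∀ r ∈ Q, w * r = r * w) :
    ∃ o, InN C Q o ∧ (∀ o', InN C Q o' → o * o' = o' * o) ∧ ∃ b, σ b = b ∧ w = o * TBase.zz u b := by
  obtain ⟨o, ho, b, hb, rfl⟩ := exists_oz T h.1 hQ
  refine ⟨o, ho, ?_, b, hb, rfl⟩
  intro o' ho'
  obtain ⟨b', hb', h'⟩ := h.2 o' ho'
  have h1 : o * TBase.zz u b * o' * (o * TBase.zz u b)⁻¹ = o * o' * o⁻¹ := by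
    calc o * TBase.zz u b * o' * (o * TBase.zz u b)⁻¹ = o * (TBase.zz u b * o') * (TBase.zz u b)⁻¹ * o⁻¹ := by group
      _ = o * (o' * TBase.zz u b) * (TBase.zz u b)⁻¹ * o⁻¹ := by rw [T.C_zz ho'.1]
      _ = _ := by group
  rw [h1] at h'
  have h2 : TBase.zz u b' ∈ C := by
    have : TBase.zz u b' = o'⁻¹ * (o * o' * o⁻¹) := by rw [h']; group
    rw [this]
    exact C.mul_mem (C.inv_mem ho'.1) (C.mul_mem (C.mul_mem ho.1 ho'.1) (C.inv_mem ho.1))
  rw [T.zzC hb' h2, zz_zero, mul_one, mul_inv_eq_iff_eq_mul] at h'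
  exact h'

/-- odd elements of `N₀` commute with `Y₂` -/
theorem Y2.odd {w : G} (h : w ∈ Y2 u C Q) {o : G} (ho : InN C Q o) {m : ℕ} (hm : Odd m) (hom : o ^ m = 1) :
    w * o = o * w := by
  obtain ⟨b, hb, h'⟩ := h.2 o ho
  have h1 : Commute o (TBase.zz u b) := T.C_zz ho.1 b
  have h2 : (w * o * w⁻¹) ^ m = 1 := by rw [conj_pow, hom]; group
  rw [h', h1.mul_pow, hom, one_mul] at h2
  obtain ⟨j, rfl⟩ := hm
  rw [pow_succ, pow_mul, pow_two, zz_sq hb, one_pow, one_mul] at h2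
  rw [h2, mul_one, mul_inv_eq_iff_eq_mul] at h'
  exact h'

/-! ### the character `ch` -/

omit T in
open Classical in
/-- the `c` with `w r w⁻¹ = r z(c f(r))` -/
noncomputable def ch (u : Heis σ →* G) (Q : Subgroup G) (f : G → F) (w : G) : F :=
  if h : ∃ c, σ c = c ∧ ∀ r ∈ Q, w * r * w⁻¹ = r * TBase.zz u (c * f r) then h.choose else 0

variable {g : G} {f : G → F} (H : TG u M Q g f)
include H

theorem ch_eq {w : G} {c : F} (hc : σ c = c) (h : ∀ r ∈ Q, w * r * w⁻¹ = r * TBase.zz u (c * f r)) :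
    ch u Q f w = c := by
  have h1 : ∃ c, σ c = c ∧ ∀ r ∈ Q, w * r * w⁻¹ = r * TBase.zz u (c * f r) := ⟨c, hc, h⟩
  unfold ch
  rw [dif_pos h1]
  obtain ⟨h2, h3⟩ := h1.choose_spec
  obtain ⟨r₀, hr₀, hr₀1⟩ := T.ne
  have hf := f_ne T H hr₀ hr₀1
  have h4 := mul_left_cancel ((h3 r₀ hr₀).symm.trans (h r₀ hr₀))
  have h5 := T.zz_inj' (fix_mul h2 (H.f_fix r₀ hr₀)) (fix_mul hc (H.f_fix r₀ hr₀)) h4
  exact mul_right_cancel₀ hf h5

theorem ch_spec {w : G} (hw : w ∈ Y2 u C Q) : σ (ch u Q f w) = ch u Q f w ∧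
    ∀ r ∈ Q, w * r * w⁻¹ = r * TBase.zz u (ch u Q f w * f r) := by
  obtain ⟨c, hc, h⟩ := lemC T H hw.1 (Y2.onQ T hw)
  rw [ch_eq T H hc h]
  exact ⟨hc, h⟩

theorem ch_mul {w w' : G} (hw : w ∈ Y2 u C Q) (hw' : w' ∈ Y2 u C Q) :
    ch u Q f (w * w') = ch u Q f w + ch u Q f w' := by
  obtain ⟨h1, h2⟩ := ch_spec T H hw
  obtain ⟨h3, h4⟩ := ch_spec T H hw'
  apply ch_eq T H (fix_add h1 h3)
  intro r hr
  rw [add_mul, zz_add (fix_mul h1 (H.f_fix r hr)) (fix_mul h3 (H.f_fix r hr))]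
  calc w * w' * r * (w * w')⁻¹ = w * (w' * r * w'⁻¹) * w⁻¹ := by group
    _ = (w * r * w⁻¹) * (w * TBase.zz u (ch u Q f w' * f r) * w⁻¹) := by rw [h4 r hr]; group
    _ = _ := by rw [h2 r hr, Y2.zz hw]; group

theorem ch_of_comm {w : G} (h : ∀ r ∈ Q, w * r = r * w) : ch u Q f w = 0 := by
  apply ch_eq T H fix_zero
  intro r hr
  rw [zero_mul, zz_zero, h r hr]; group

theorem comm_of_ch {w : G} (hw : w ∈ Y2 u C Q) (h : ch u Q f w = 0) : ∀ r ∈ Q, w * r = r * w := by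
  intro r hr
  have h1 := (ch_spec T H hw).2 r hr
  rw [h, zero_mul, zz_zero, mul_one, mul_inv_eq_iff_eq_mul] at h1
  exact h1

theorem ch_inv {w : G} (hw : w ∈ Y2 u C Q) : ch u Q f w⁻¹ = ch u Q f w := by
  have h1 := ch_mul T H hw ((Y2 u C Q).inv_mem hw)
  rw [mul_inv_cancel, ch_of_comm T H (fun r _ => by simp)] at h1
  exact (CharTwo.add_eq_zero.mp h1.symm).symm

theorem ch_pow {w : G} (hw : w ∈ Y2 u C Q) (k : ℕ) : ch u Q f (w ^ k) = (k : F) * ch u Q f w := by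
  induction k with
  | zero => rw [pow_zero, ch_of_comm T H (fun r _ => by simp), Nat.cast_zero, zero_mul]
  | succ k ih =>
    rw [pow_succ, ch_mul T H ((Y2 u C Q).pow_mem hw k) hw, ih, Nat.cast_add, Nat.cast_one, add_mul, one_mul]

theorem ch_d (l : Fˣ) {w : G} (hw : w ∈ Y2 u C Q) : ch u Q f (d l * w * (d l)⁻¹) = nm σ l * ch u Q f w := by
  obtain ⟨h1, h2⟩ := ch_spec T H hw
  apply ch_eq T H (fix_mul (T.fix_nm l) h1)
  intro r hr
  have h3 : (d l)⁻¹ * r * d l = r := by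
    rw [mul_assoc, T.dC r (T.syl.le hr) l]; group
  calc d l * w * (d l)⁻¹ * r * (d l * w * (d l)⁻¹)⁻¹
      = d l * (w * ((d l)⁻¹ * r * d l) * w⁻¹) * (d l)⁻¹ := by group
    _ = (d l * r * (d l)⁻¹) * (d l * TBase.zz u (ch u Q f w * f r) * (d l)⁻¹) := by rw [h3, h2 r hr]; group
    _ = r * TBase.zz u (nm σ l * ch u Q f w * f r) := by
      rw [T.dQ hr, T.d_zz _ (fix_mul h1 (H.f_fix r hr)), mul_assoc]

/-- `Y₂` acts as all of `F_q` -/
theorem exists_Y2 {c : F} (hc : σ c = c) : ∃ w ∈ Y2 u C Q, ch u Q f w = c := by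
  obtain ⟨l, hl, hl1⟩ := Cfsg.Agent.StdU3.Field.exists_fixed_ne T.hS.hq
  rw [← T.hS.eq] at hl
  have hnm : nm σ l = (l : F) ^ 2 := nm_of_fixed σ hl
  have hnf := T.fix_nm l
  have hne : 1 + nm σ l ≠ 0 := by
    intro h
    apply hl1
    rw [hnm] at h
    have h3 : ((l : F) + 1) ^ 2 = 0 := by
      rw [CharTwo.add_sq, one_pow, add_comm]; exact h
    exact CharTwo.add_eq_zero.mp (pow_eq_zero_iff (two_ne_zero) |>.mp h3)
  have hfx : σ (1 + nm σ l) = 1 + nm σ l := by rw [map_add, map_one, hnf]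
  have hc1 : σ ((1 + nm σ l)⁻¹ * c) = (1 + nm σ l)⁻¹ * c := fix_mul (fix_inv hfx) hc
  obtain ⟨y, hy1, hy2⟩ := exists_of_c T H hc1
  have hyi1 : ∀ s, y⁻¹ * u s = u s * y⁻¹ := fun s => by
    calc y⁻¹ * u s = y⁻¹ * (u s * y) * y⁻¹ := by group
      _ = u s * y⁻¹ := by rw [← hy1]; group
  have hyi2 : ∀ r ∈ Q, y⁻¹ * r * y = r * TBase.zz u ((1 + nm σ l)⁻¹ * c * f r) := by
    intro r hr
    have hff := fix_mul hc1 (H.f_fix r hr)
    have h3 := comm_zz_of hy1 ((1 + nm σ l)⁻¹ * c * f r)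
    have h4 : r = y⁻¹ * r * y * TBase.zz u ((1 + nm σ l)⁻¹ * c * f r) := by
      calc r = y⁻¹ * (y * r * y⁻¹) * y := by group
        _ = y⁻¹ * r * (TBase.zz u ((1 + nm σ l)⁻¹ * c * f r) * y) := by rw [hy2 r hr]; group
        _ = _ := by rw [← h3]; group
    calc y⁻¹ * r * y = y⁻¹ * r * y * (TBase.zz u ((1 + nm σ l)⁻¹ * c * f r) *
          TBase.zz u ((1 + nm σ l)⁻¹ * c * f r)) := by rw [zz_sq hff, mul_one]
      _ = (y⁻¹ * r * y * TBase.zz u ((1 + nm σ l)⁻¹ * c * f r)) * TBase.zz u ((1 + nm σ l)⁻¹ * c * f r) := by group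
      _ = _ := by rw [← h4]
  -- `y⁻¹ o y`
  have hyo : ∀ o, InN C Q o → ∃ o', InN C Q o' ∧ ∃ b, σ b = b ∧ y⁻¹ * o * y = o' * TBase.zz u b := by
    intro o ho
    apply exists_oz T
    · intro s
      calc y⁻¹ * o * y * u s = y⁻¹ * o * (y * u s) := by group
        _ = y⁻¹ * (o * u s) * y := by rw [hy1]; group
        _ = (y⁻¹ * u s) * o * y := by rw [T.uC o ho.1]; group
        _ = u s * (y⁻¹ * o * y) := by rw [hyi1]; group
    · intro r hr
      have h1 : y * r * y⁻¹ * o = o * (y * r * y⁻¹) := by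
        rw [hy2 r hr]
        calc r * TBase.zz u ((1 + nm σ l)⁻¹ * c * f r) * o = r * (TBase.zz u ((1 + nm σ l)⁻¹ * c * f r) * o) := by
              group
          _ = r * o * TBase.zz u ((1 + nm σ l)⁻¹ * c * f r) := by rw [← T.C_zz ho.1]; group
          _ = _ := by rw [← ho.2 r hr]; group
      calc y⁻¹ * o * y * r = y⁻¹ * (o * (y * r * y⁻¹)) * y := by group
        _ = y⁻¹ * (y * r * y⁻¹ * o) * y := by rw [h1]
        _ = r * (y⁻¹ * o * y) := by group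
  -- the commutator
  have key : ∀ o o' b, InN C Q o → InN C Q o' → σ b = b → y⁻¹ * o * y = o' * TBase.zz u b →
      (d l * y * (d l)⁻¹ * y⁻¹) * o * (d l * y * (d l)⁻¹ * y⁻¹)⁻¹ = o * TBase.zz u ((1 + nm σ l) * b) := by
    intro o o' b ho ho' hb h
    have hdo : ∀ x, InN C Q x → (d l)⁻¹ * x * d l = x := fun x hx => by
      rw [mul_assoc, T.dC x hx.1 l]; group
    have hdz : (d l)⁻¹ * TBase.zz u b * d l = TBase.zz u ((nm σ l)⁻¹ * b) := by
      have h1 := T.d_zz l⁻¹ hb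
      rw [map_inv, inv_inv] at h1
      rw [h1]
      congr 2
      exact eq_inv_of_mul_eq_one_left (by rw [← nm_mul, inv_mul_cancel, nm_one])
    have hyo' : y * o' * y⁻¹ = o * TBase.zz u b := by
      have h3 := comm_zz_of hy1 b
      calc y * o' * y⁻¹ = y * (o' * (TBase.zz u b * TBase.zz u b)) * y⁻¹ := by rw [zz_sq hb, mul_one]
        _ = y * (y⁻¹ * o * y) * TBase.zz u b * y⁻¹ := by rw [h]; group
        _ = o * (y * TBase.zz u b) * y⁻¹ := by group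
        _ = o * TBase.zz u b := by rw [h3]; group
    have hb' : σ ((nm σ l)⁻¹ * b) = (nm σ l)⁻¹ * b := fix_mul (fix_inv hnf) hb
    have hyz := comm_zz_of hy1 ((nm σ l)⁻¹ * b)
    have hn0 : nm σ l ≠ 0 := by
      rw [hnm]; exact pow_ne_zero _ l.ne_zero
    calc (d l * y * (d l)⁻¹ * y⁻¹) * o * (d l * y * (d l)⁻¹ * y⁻¹)⁻¹
        = d l * (y * ((d l)⁻¹ * (y⁻¹ * o * y) * d l) * y⁻¹) * (d l)⁻¹ := by group
      _ = d l * (y * (((d l)⁻¹ * o' * d l) * ((d l)⁻¹ * TBase.zz u b * d l)) * y⁻¹) * (d l)⁻¹ := by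
        rw [h]; group
      _ = d l * ((y * o' * y⁻¹) * (y * TBase.zz u ((nm σ l)⁻¹ * b) * y⁻¹)) * (d l)⁻¹ := by
        rw [hdo o' ho', hdz]; group
      _ = d l * (o * TBase.zz u b * TBase.zz u ((nm σ l)⁻¹ * b)) * (d l)⁻¹ := by rw [hyo', hyz]; group
      _ = (d l * o * (d l)⁻¹) * (d l * TBase.zz u b * (d l)⁻¹) * (d l * TBase.zz u ((nm σ l)⁻¹ * b) * (d l)⁻¹) := by
        group
      _ = o * TBase.zz u (nm σ l * b) * TBase.zz u b := by
        rw [T.d_zz _ hb, T.d_zz _ hb', ← mul_assoc (nm σ l), mul_inv_cancel₀ hn0, one_mul]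
        congr 2
        rw [← T.dC o ho.1 l]; group
      _ = o * TBase.zz u ((1 + nm σ l) * b) := by
        rw [mul_assoc, ← zz_add (fix_mul hnf hb) hb]
        congr 2
        ring
  refine ⟨d l * y * (d l)⁻¹ * y⁻¹, ⟨?_, ?_⟩, ?_⟩
  · intro s
    have h1 : (d l)⁻¹ * u s * d l = u (act l⁻¹ s) := by
      have := T.d_u l⁻¹ s
      rw [map_inv, inv_inv] at this
      exact this
    have h2 := hy1 (act l⁻¹ s)
    calc d l * y * (d l)⁻¹ * y⁻¹ * u s = d l * y * (d l)⁻¹ * (y⁻¹ * u s) := by group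
      _ = d l * (y * ((d l)⁻¹ * u s * d l)) * (d l)⁻¹ * y⁻¹ := by rw [hyi1]; group
      _ = d l * (((d l)⁻¹ * u s * d l) * y) * (d l)⁻¹ * y⁻¹ := by rw [h1, h2]
      _ = u s * (d l * y * (d l)⁻¹ * y⁻¹) := by group
  · intro o ho
    obtain ⟨o', ho', b, hb, h⟩ := hyo o ho
    exact ⟨_, fix_mul hfx hb, key o o' b ho ho' hb h⟩
  · apply ch_eq T H hc
    intro r hr
    rw [key r r _ (InN.of_Q T hr) (InN.of_Q T hr) (fix_mul hc1 (H.f_fix r hr)) (hyi2 r hr)]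
    congr 2
    rw [← mul_assoc, ← mul_assoc, mul_inv_cancel₀ hne, one_mul]

end Cfsg.Agent.OddHalf.D4.U3.TOne
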