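import Cfsg.Agent.OddHalf.D4.U3.TTwo

/-!
# ODD, D4, row `K = U₃(q)`: PIECE T, `E₁`
-/

set_option autoImplicit false
set_option linter.dupNamespace false
set_option linter.unusedSectionVars false

namespace Cfsg.Agent.OddHalf.D4.U3.TThree

open Subgroup Cfsg.Agent.LieRecognition Cfsg.Agent.LieRecognition.HermHeis Cfsg.Agent.StdU3.URel
  Cfsg.Agent.StdU3.Semi Cfsg.Agent.OddHalf.D4.CommConj Cfsg.Agent.OddHalf.D4.Basic
  Cfsg.Agent.OddHalf.D4.U3.TBase Cfsg.Agent.OddHalf.D4.U3.TLam Cfsg.Agent.OddHalf.D4.U3.TOne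
  Cfsg.Agent.OddHalf.D4.U3.TTwo

universe u v

variable {G : Type u} [Group G] {F : Type v} [Field F] [Fintype F] [CharP F 2] {σ : F →+* F}
  [hσ : Fact (∀ x, σ (σ x) = x)] {n : ℕ} {u : Heis σ →* G} {d : Fˣ →* G} {K C M Q : Subgroup G}

section

variable (T : TD u d K C M Q n) {g : G} {f : G → F} (H : TG u M Q g f)
include T H

theorem ch_zz (b : F) : ch u Q f (zz u b) = 0 :=
  ch_of_comm T H (fun _ hr => (T.Q_zz hr b).symm)

theorem T1_zz [Finite G] {t : G} (ht : t ∈ T1 T H) (b : F) : t * zz u b = zz u b * t := Y2.zz ht.1 b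

/-- the commutator `[d l, t]` -/
theorem cd_T1 [Finite G] (l : Fˣ) {t : G} (ht : t ∈ T1 T H) : d l * t * (d l)⁻¹ * t⁻¹ ∈ T1 T H :=
  mul_mem (d_T1 T H l ht) (inv_mem ht)

theorem ch_cd [Finite G] (l : Fˣ) {t : G} (ht : t ∈ T1 T H) :
    ch u Q f (d l * t * (d l)⁻¹ * t⁻¹) = (nm σ l + 1) * ch u Q f t := by
  rw [ch_mul T H (d_T1 T H l ht).1 (inv_mem ht).1, ch_inv T H ht.1, ch_d T H l ht.1, add_mul, one_mul]

theorem cd_mul [Finite G] (l : Fˣ) {t t' : G} (ht : t ∈ T1 T H) (ht' : t' ∈ T1 T H) :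
    ∃ b, σ b = b ∧ (d l * t * (d l)⁻¹ * t⁻¹) * (d l * t' * (d l)⁻¹ * t'⁻¹) =
      d l * (t * t') * (d l)⁻¹ * (t * t')⁻¹ * zz u b := by
  obtain ⟨b, hb, h⟩ := T1_comm T H ht (cd_T1 T H l ht')
  refine ⟨b, hb, ?_⟩
  have h1 : d l * (t * t') * (d l)⁻¹ * (t * t')⁻¹ =
      (d l * t * (d l)⁻¹ * t⁻¹) * (t * (d l * t' * (d l)⁻¹ * t'⁻¹)) * t⁻¹ := by group
  have h2 := T1_zz T H (inv_mem ht) b
  rw [h1, h]
  calc (d l * t * (d l)⁻¹ * t⁻¹) * (d l * t' * (d l)⁻¹ * t'⁻¹)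
      = (d l * t * (d l)⁻¹ * t⁻¹) * (d l * t' * (d l)⁻¹ * t'⁻¹) * (zz u b * zz u b) := by rw [zz_sq hb, mul_one]
    _ = (d l * t * (d l)⁻¹ * t⁻¹) * (d l * t' * (d l)⁻¹ * t'⁻¹ * t) * (t⁻¹ * zz u b) * zz u b := by group
    _ = (d l * t * (d l)⁻¹ * t⁻¹) * (d l * t' * (d l)⁻¹ * t'⁻¹ * t) * (zz u b * t⁻¹) * zz u b := by rw [h2]
    _ = _ := by group

theorem inv_eq_zz [Finite G] {t : G} (ht : t ∈ T1 T H) : ∃ b, σ b = b ∧ t⁻¹ = t * zz u b := by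
  obtain ⟨b, hb, h⟩ := T1_sq T H ht
  refine ⟨b, hb, ?_⟩
  calc t⁻¹ = t⁻¹ * (t * t * (t * t)⁻¹) := by group
    _ = t * (zz u b)⁻¹ := by rw [h]; nth_rewrite 1 [← h]; group
    _ = t * zz u b := by rw [zz_inv hb]

/-- `E₁ = [h₀, T₁] Z` -/
def E1 [Finite G] (l : Fˣ) : Subgroup G where
  carrier := {e | ∃ t ∈ T1 T H, ∃ b, σ b = b ∧ e = d l * t * (d l)⁻¹ * t⁻¹ * zz u b}
  one_mem' := ⟨1, one_mem _, 0, fix_zero, by rw [zz_zero]; group⟩
  mul_mem' := by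
    rintro _ _ ⟨t, ht, b, hb, rfl⟩ ⟨t', ht', b', hb', rfl⟩
    obtain ⟨b'', hb'', h⟩ := cd_mul T H l ht ht'
    refine ⟨t * t', mul_mem ht ht', b'' + (b + b'), fix_add hb'' (fix_add hb hb'), ?_⟩
    rw [zz_add hb'' (fix_add hb hb'), zz_add hb hb']
    have h1 := T1_zz T H (cd_T1 T H l ht') b
    calc d l * t * (d l)⁻¹ * t⁻¹ * zz u b * (d l * t' * (d l)⁻¹ * t'⁻¹ * zz u b')
        = d l * t * (d l)⁻¹ * t⁻¹ * (zz u b * (d l * t' * (d l)⁻¹ * t'⁻¹)) * zz u b' := by group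
      _ = ((d l * t * (d l)⁻¹ * t⁻¹) * (d l * t' * (d l)⁻¹ * t'⁻¹)) * (zz u b * zz u b') := by rw [← h1]; group
      _ = _ := by rw [h, mul_assoc]
  inv_mem' := by
    rintro _ ⟨t, ht, b, hb, rfl⟩
    obtain ⟨b', hb', h⟩ := inv_eq_zz T H (cd_T1 T H l ht)
    refine ⟨t, ht, b' + b, fix_add hb' hb, ?_⟩
    have h1 := T1_zz T H (cd_T1 T H l ht) b
    rw [zz_add hb' hb, mul_inv_rev, h, zz_inv hb, ← mul_assoc, ← h1, mul_assoc, zz_comm b' b]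

theorem mem_E1 [Finite G] {l : Fˣ} {e : G} :
    e ∈ E1 T H l ↔ ∃ t ∈ T1 T H, ∃ b, σ b = b ∧ e = d l * t * (d l)⁻¹ * t⁻¹ * zz u b := Iff.rfl

theorem zz_E1 [Finite G] (l : Fˣ) (b : F) : zz u b ∈ E1 T H l := by
  obtain ⟨b', hb', h⟩ := exists_fix u b
  exact ⟨1, one_mem _, b', hb', by rw [h]; group⟩

theorem cd_E1 [Finite G] (l : Fˣ) {t : G} (ht : t ∈ T1 T H) : d l * t * (d l)⁻¹ * t⁻¹ ∈ E1 T H l :=
  ⟨t, ht, 0, fix_zero, by rw [zz_zero, mul_one]⟩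

theorem E1_le [Finite G] (l : Fˣ) : E1 T H l ≤ T1 T H := by
  rintro _ ⟨t, ht, b, hb, rfl⟩
  exact mul_mem (cd_T1 T H l ht) (zz_T1 T H b)

theorem E1_surj [Finite G] {l : Fˣ} (hl : nm σ l + 1 ≠ 0) {c : F} (hc : σ c = c) :
    ∃ e ∈ E1 T H l, ch u Q f e = c := by
  have h1 : σ ((nm σ l + 1)⁻¹ * c) = (nm σ l + 1)⁻¹ * c :=
    fix_mul (fix_inv (by rw [map_add, T.fix_nm, map_one])) hc
  obtain ⟨t, ht, h⟩ := exists_T1 T H h1
  refine ⟨_, cd_E1 T H l ht, ?_⟩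
  rw [ch_cd T H l ht, h, ← mul_assoc, mul_inv_cancel₀ hl, one_mul]

theorem E1_ker [Finite G] {l : Fˣ} (hl : nm σ l + 1 ≠ 0) {e : G} (he : e ∈ E1 T H l) (h : ch u Q f e = 0) :
    ∃ b, σ b = b ∧ e = zz u b := by
  obtain ⟨t, ht, b, hb, rfl⟩ := he
  rw [ch_mul T H (cd_T1 T H l ht).1 (zz_T1 T H b).1, ch_zz T H, add_zero, ch_cd T H l ht] at h
  obtain ⟨r, hr, b', hb', rfl⟩ := T1_ker T H ht ((mul_eq_zero.mp h).resolve_left hl)
  refine ⟨nm σ l * b' + b' + b, fix_add (fix_add (fix_mul (T.fix_nm l) hb') hb') hb, ?_⟩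
  rw [zz_add (fix_add (fix_mul (T.fix_nm l) hb') hb') hb, zz_add (fix_mul (T.fix_nm l) hb') hb']
  calc d l * (r * zz u b') * (d l)⁻¹ * (r * zz u b')⁻¹ * zz u b
      = (d l * r * (d l)⁻¹) * (d l * zz u b' * (d l)⁻¹) * (zz u b')⁻¹ * r⁻¹ * zz u b := by group
    _ = r * (zz u (nm σ l * b') * zz u b') * r⁻¹ * zz u b := by
      rw [T.dQ hr, T.d_zz _ hb', zz_inv hb']; group
    _ = zz u (nm σ l * b') * zz u b' * zz u b := by
      rw [← zz_add (fix_mul (T.fix_nm l) hb') hb', T.Q_zz hr]; group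

theorem T1_dec [Finite G] {l : Fˣ} (hl : nm σ l + 1 ≠ 0) {t : G} (ht : t ∈ T1 T H) :
    ∃ e ∈ E1 T H l, ∃ r ∈ Q, t = e * r := by
  obtain ⟨e, he, h⟩ := E1_surj T H hl (ch_spec T H ht.1).1
  have he' := E1_le T H l he
  have h1 : ch u Q f (e⁻¹ * t) = 0 := by
    rw [ch_mul T H (inv_mem he').1 ht.1, ch_inv T H he'.1, h]; exact CharTwo.add_self_eq_zero _
  obtain ⟨r, hr, b, hb, h2⟩ := T1_ker T H (mul_mem (inv_mem he') ht) h1
  refine ⟨e * zz u b, mul_mem he (zz_E1 T H l b), r, hr, ?_⟩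
  calc t = e * (e⁻¹ * t) := by group
    _ = e * (r * zz u b) := by rw [h2]
    _ = e * zz u b * r := by rw [T.Q_zz hr]; group

theorem d_E1 [Finite G] (l l' : Fˣ) {e : G} (he : e ∈ E1 T H l) : d l' * e * (d l')⁻¹ ∈ E1 T H l := by
  obtain ⟨t, ht, b, hb, rfl⟩ := he
  refine ⟨d l' * t * (d l')⁻¹, d_T1 T H l' ht, nm σ l' * b, fix_mul (T.fix_nm l') hb, ?_⟩
  have h1 : d l' * d l = d l * d l' := by rw [← map_mul, ← map_mul, mul_comm]
  have h2 : (d l)⁻¹ * (d l')⁻¹ = (d l')⁻¹ * (d l)⁻¹ := by rw [← mul_inv_rev, ← mul_inv_rev, h1]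
  rw [← T.d_zz _ hb]
  calc d l' * (d l * t * (d l)⁻¹ * t⁻¹ * zz u b) * (d l')⁻¹
      = (d l' * d l) * t * ((d l)⁻¹ * (d l')⁻¹) * (d l' * t⁻¹ * (d l')⁻¹) * (d l' * zz u b * (d l')⁻¹) := by group
    _ = _ := by rw [h1, h2]; group

/-- the squares in `E₁` -/
theorem exists_kap [Finite G] {l : Fˣ} (hl : nm σ l + 1 ≠ 0) :
    ∃ kap, σ kap = kap ∧ ∀ e ∈ E1 T H l, e * e = zz u (kap * ch u Q f e) := by
  obtain ⟨e₁, he₁, h1⟩ := E1_surj T H hl (c := 1) fix_one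
  obtain ⟨kap, hk, h2⟩ := T1_sq T H (E1_le T H l he₁)
  refine ⟨kap, hk, ?_⟩
  intro e he
  have he' := E1_le T H l he
  have hc := (ch_spec T H he'.1).1
  by_cases h0 : ch u Q f e = 0
  · obtain ⟨b, hb, rfl⟩ := E1_ker T H hl he h0
    rw [h0, mul_zero, zz_zero, zz_sq hb]
  · obtain ⟨m, hm⟩ := Cfsg.Agent.StdU3.Field.exists_norm T.hS.hq (b := ch u Q f e) (by rw [← T.hS.eq, hc])
    have hm0 : m ≠ 0 := by
      rintro rfl
      rw [Cfsg.Agent.StdU3.Field.N_zero] at hm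
      exact h0 hm.symm
    set k : Fˣ := Units.mk0 m hm0 with hkdef
    have hnm : nm σ k = ch u Q f e := by
      unfold nm
      rw [hkdef, Units.val_mk0, T.hS.eq]
      exact hm
    have h3 : ch u Q f (e * (d k * e₁ * (d k)⁻¹)) = 0 := by
      rw [ch_mul T H he'.1 (d_T1 T H k (E1_le T H l he₁)).1, ch_d T H k (E1_le T H l he₁).1, h1, mul_one, hnm]
      exact CharTwo.add_self_eq_zero _
    obtain ⟨b, hb, h4⟩ := E1_ker T H hl (mul_mem he (d_E1 T H l k he₁)) h3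
    have h5 : e = zz u b * (d k * e₁ * (d k)⁻¹)⁻¹ := by rw [← h4]; group
    have h6 : (d k * e₁ * (d k)⁻¹) * (d k * e₁ * (d k)⁻¹) = zz u (nm σ k * kap) := by
      rw [← T.d_zz _ hk, ← h2]; group
    have h7 := T1_zz T H (inv_mem (d_T1 T H k (E1_le T H l he₁))) b
    calc e * e = zz u b * ((d k * e₁ * (d k)⁻¹)⁻¹ * zz u b) * (d k * e₁ * (d k)⁻¹)⁻¹ := by
          nth_rewrite 1 [h5]; nth_rewrite 1 [h5]; group
      _ = (zz u b * zz u b) * ((d k * e₁ * (d k)⁻¹) * (d k * e₁ * (d k)⁻¹))⁻¹ := by rw [h7]; group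
      _ = zz u (kap * ch u Q f e) := by
        rw [zz_sq hb, one_mul, h6, zz_inv (fix_mul (T.fix_nm k) hk), hnm, mul_comm]

theorem E1_comm [Finite G] {l : Fˣ} (hl : nm σ l + 1 ≠ 0) {e e' : G} (he : e ∈ E1 T H l) (he' : e' ∈ E1 T H l) :
    e * e' = e' * e := by
  obtain ⟨kap, hk, h⟩ := exists_kap T H hl
  have h1 := (E1_le T H l he).1
  have h2 := (E1_le T H l he').1
  have c1 := (ch_spec T H h1).1
  have c2 := (ch_spec T H h2).1
  have h3 := h (e * e') (mul_mem he he')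
  rw [ch_mul T H h1 h2, mul_add, zz_add (fix_mul hk c1) (fix_mul hk c2), ← h e he, ← h e' he'] at h3
  have h4 : e * (e' * e) * e' = e * (e * e') * e' := by
    calc e * (e' * e) * e' = e * e' * (e * e') := by group
      _ = e * e * (e' * e') := h3
      _ = _ := by group
  exact (mul_left_cancel (mul_right_cancel h4)).symm

/-- `H₀` centralizes `T₁` -/
theorem d_comm [Finite G] {k : Fˣ} (hk : nm σ k = 1) {t : G} (ht : t ∈ T1 T H) : d k * t = t * d k := by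
  -- first for squares
  have key : ∀ k : Fˣ, nm σ k = 1 → d (k * k) * t * (d (k * k))⁻¹ = t := by
    intro k hk
    have h1 : ch u Q f (d k * t * (d k)⁻¹ * t⁻¹) = 0 := by
      rw [ch_cd T H k ht, hk, one_add_one_eq_two, CharTwo.two_eq_zero, zero_mul]
    obtain ⟨r, hr, b, hb, h2⟩ := T1_ker T H (cd_T1 T H k ht) h1
    have h3 : d k * t * (d k)⁻¹ = r * zz u b * t := by rw [← h2]; group
    have h4 : d k * (r * zz u b) * (d k)⁻¹ = r * zz u b := by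
      calc d k * (r * zz u b) * (d k)⁻¹ = (d k * r * (d k)⁻¹) * (d k * zz u b * (d k)⁻¹) := by group
        _ = r * zz u b := by rw [T.dQ hr, T.d_zz _ hb, hk, one_mul]
    have h5 : (r * zz u b) * (r * zz u b) = 1 := by
      calc (r * zz u b) * (r * zz u b) = r * (zz u b * r) * zz u b := by group
        _ = (r * r) * (zz u b * zz u b) := by rw [← T.Q_zz hr]; group
        _ = 1 := by rw [T.sq r hr, zz_sq hb, mul_one]
    calc d (k * k) * t * (d (k * k))⁻¹ = d k * (d k * t * (d k)⁻¹) * (d k)⁻¹ := by rw [map_mul]; group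
      _ = d k * (r * zz u b * t) * (d k)⁻¹ := by rw [h3]
      _ = (d k * (r * zz u b) * (d k)⁻¹) * (d k * t * (d k)⁻¹) := by group
      _ = (r * zz u b) * (r * zz u b) * t := by rw [h4, h3]; group
      _ = t := by rw [h5, one_mul]
  -- every `k` is a square
  obtain ⟨j, hj⟩ : ∃ j : ℕ, k = k ^ j * k ^ j := by
    obtain ⟨i, hi⟩ : ∃ i, Fintype.card F = i + i := by
      obtain ⟨m, rfl⟩ : ∃ m, n = m + 1 := ⟨n - 1, by have := T.hS.hq.hn; omega⟩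
      refine ⟨2 ^ (m + 1) * 2 ^ m, ?_⟩
      rw [T.hS.hq.hK, pow_two]
      nth_rewrite 2 [pow_succ]
      ring
    refine ⟨i, ?_⟩
    apply Units.ext
    rw [← pow_add, ← hi, Units.val_pow_eq_pow_val, FiniteField.pow_card]
  have hkj : nm σ (k ^ j) = 1 := by
    clear hj
    induction j with
    | zero => rw [pow_zero, nm_one]
    | succ i ih => rw [pow_succ, nm_mul, ih, hk, one_mul]
  have h2 := key (k ^ j) hkj
  rw [← hj, mul_inv_eq_iff_eq_mul] at h2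
  exact h2

end

end Cfsg.Agent.OddHalf.D4.U3.TThree
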