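import Cfsg.Agent.OddHalf.D4.U3.TOne

/-!
# ODD, D4, row `K = U₃(q)`: PIECE T, `T₁` and `E₁`
-/

set_option autoImplicit false
set_option linter.dupNamespace false
set_option linter.unusedSectionVars false

namespace Cfsg.Agent.OddHalf.D4.U3.TTwo

open Subgroup Cfsg.Agent.LieRecognition Cfsg.Agent.LieRecognition.HermHeis Cfsg.Agent.StdU3.URel
  Cfsg.Agent.StdU3.Semi Cfsg.Agent.OddHalf.D4.CommConj Cfsg.Agent.OddHalf.D4.Basic
  Cfsg.Agent.OddHalf.D4.U3.TBase Cfsg.Agent.OddHalf.D4.U3.TLam Cfsg.Agent.OddHalf.D4.U3.TOne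

universe u v

/-- in a finite nilpotent group products of 2-elements are 2-elements -/
theorem two_mul_of_nilpotent {X : Type*} [Group X] [Finite X] (h : Group.IsNilpotent X) {x y : X}
    (hx : ∃ k : ℕ, x ^ 2 ^ k = 1) (hy : ∃ k : ℕ, y ^ 2 ^ k = 1) : ∃ k : ℕ, (x * y) ^ 2 ^ k = 1 := by
  have : Fact (Nat.Prime 2) := ⟨Nat.prime_two⟩
  obtain ⟨k, hk⟩ := hx
  obtain ⟨j, hj⟩ := hy
  obtain ⟨P, hP⟩ := (two_zpowers hk).exists_le_sylow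
  obtain ⟨P', hP'⟩ := (two_zpowers hj).exists_le_sylow
  have hn : (P : Subgroup X).Normal := (Group.isNilpotent_of_finite_tfae.out 0 3 rfl rfl).mp h 2 inferInstance P
  have hu := Sylow.unique_of_normal P hn
  have hPP : P' = P := Subsingleton.elim _ _
  have h1 : x ∈ (P : Subgroup X) := hP (mem_zpowers x)
  have h2 : y ∈ (P : Subgroup X) := by rw [← hPP]; exact hP' (mem_zpowers y)
  obtain ⟨i, hi⟩ := P.2 ⟨x * y, mul_mem h1 h2⟩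
  exact ⟨i, congrArg Subtype.val hi⟩

variable {G : Type u} [Group G] {F : Type v} [Field F] [Fintype F] [CharP F 2] {σ : F →+* F}
  [hσ : Fact (∀ x, σ (σ x) = x)] {n : ℕ} {u : Heis σ →* G} {d : Fˣ →* G} {K C M Q : Subgroup G}

/-- a 2-power times an odd number -/
theorem exists_odd_pow [Finite G] (x : G) : ∃ a m : ℕ, Odd m ∧ (x ^ m) ^ 2 ^ a = 1 := by
  obtain ⟨a, m, hm, h⟩ := Nat.exists_eq_two_pow_mul_odd (n := orderOf x) (orderOf_pos x).ne'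
  refine ⟨a, m, hm, ?_⟩
  rw [← pow_mul, mul_comm, ← h, pow_orderOf_eq_one]

variable (T : TD u d K C M Q n) {g : G} {f : G → F} (H : TG u M Q g f)
include T H

theorem pow_four [Finite G] {w : G} (hw : w ∈ Y2 u C Q) {y : G} (hy : y ∈ Y2 u C Q) : w ^ 4 * y = y * w ^ 4 := by
  have h1 : ch u Q f (w ^ 2) = 0 := by
    rw [ch_pow T H hw, Nat.cast_ofNat, CharTwo.two_eq_zero, zero_mul]
  have h2 : w ^ 2 ∈ Y2 u C Q := (Y2 u C Q).pow_mem hw 2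
  obtain ⟨o, ho, -, b, hb, h3⟩ := Y2.ker T h2 (comm_of_ch T H h2 h1)
  have h4 : Commute o (zz u b) := T.C_zz ho.1 b
  have h5 : w ^ 4 = o ^ 2 := by
    calc w ^ 4 = (w ^ 2) ^ 2 := by rw [← pow_mul]
      _ = o ^ 2 := by rw [h3, h4.mul_pow, pow_two (zz u b), zz_sq hb, mul_one]
  obtain ⟨a, m, hm, h6⟩ := exists_odd_pow o
  have h7 := T.sq _ ((ho.pow m).mem_Q T h6)
  rw [h5]
  symm
  apply Y2.odd T hy (ho.pow 2) hm
  rw [← pow_mul, mul_comm, pow_mul, pow_two]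
  exact h7

theorem nilp [Finite G] : Group.IsNilpotent ↥(Y2 u C Q) := by
  have : Fact (Nat.Prime 2) := ⟨Nat.prime_two⟩
  apply Group.of_quotient_center_nilpotent
  apply IsPGroup.isNilpotent (p := 2)
  intro x
  obtain ⟨w, rfl⟩ := QuotientGroup.mk_surjective x
  refine ⟨2, ?_⟩
  rw [← QuotientGroup.mk_pow, QuotientGroup.eq_one_iff, Subgroup.mem_center_iff]
  intro y
  apply Subtype.ext
  exact (pow_four T H w.2 y.2).symm

/-- `T₁`, the Sylow 2-subgroup of `Y₂` -/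
def T1 [Finite G] : Subgroup G where
  carrier := {w | w ∈ Y2 u C Q ∧ ∃ k : ℕ, w ^ 2 ^ k = 1}
  one_mem' := ⟨one_mem _, 0, one_pow _⟩
  mul_mem' := by
    rintro x y ⟨hx, i, hi⟩ ⟨hy, j, hj⟩
    refine ⟨mul_mem hx hy, ?_⟩
    obtain ⟨k, hk⟩ := two_mul_of_nilpotent (nilp T H) (x := ⟨x, hx⟩) (y := ⟨y, hy⟩) ⟨i, Subtype.ext hi⟩
      ⟨j, Subtype.ext hj⟩
    exact ⟨k, congrArg Subtype.val hk⟩
  inv_mem' := by
    rintro x ⟨hx, i, hi⟩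
    exact ⟨inv_mem hx, i, by rw [inv_pow, hi, inv_one]⟩

theorem mem_T1 [Finite G] {w : G} : w ∈ T1 T H ↔ w ∈ Y2 u C Q ∧ ∃ k : ℕ, w ^ 2 ^ k = 1 := Iff.rfl

theorem T1_le [Finite G] : T1 T H ≤ Y2 u C Q := fun _ h => h.1

theorem T1_two [Finite G] : IsPGroup 2 ↥(T1 T H) := fun x => by
  obtain ⟨-, k, hk⟩ := x.2
  exact ⟨k, Subtype.ext hk⟩

theorem zz_T1 [Finite G] (b : F) : zz u b ∈ T1 T H := by
  obtain ⟨b', hb', h⟩ := exists_fix u b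
  rw [h]
  exact ⟨zz_Y2 T b', 1, by rw [pow_one, pow_two, zz_sq hb']⟩

theorem Q_T1 [Finite G] {r : G} (hr : r ∈ Q) : r ∈ T1 T H :=
  ⟨Q_Y2 T hr, 1, by rw [pow_one, pow_two, T.sq r hr]⟩

theorem conj_T1 [Finite G] {x : G} (hx : ∀ w ∈ Y2 u C Q, x * w * x⁻¹ ∈ Y2 u C Q) {w : G} (hw : w ∈ T1 T H) :
    x * w * x⁻¹ ∈ T1 T H := by
  obtain ⟨h1, k, hk⟩ := hw
  exact ⟨hx w h1, k, by rw [conj_pow, hk]; group⟩

theorem d_T1 [Finite G] (l : Fˣ) {w : G} (hw : w ∈ T1 T H) : d l * w * (d l)⁻¹ ∈ T1 T H :=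
  conj_T1 T H (fun _ h => d_Y2 T l h) hw

/-- `T₁` acts as all of `F_q` -/
theorem exists_T1 [Finite G] {c : F} (hc : σ c = c) : ∃ t ∈ T1 T H, ch u Q f t = c := by
  obtain ⟨w, hw, h⟩ := exists_Y2 T H hc
  obtain ⟨a, m, hm, h1⟩ := exists_odd_pow w
  refine ⟨w ^ m, ⟨pow_mem hw m, a, h1⟩, ?_⟩
  obtain ⟨j, rfl⟩ := hm
  rw [ch_pow T H hw, h, Nat.cast_add, Nat.cast_mul, Nat.cast_ofNat, CharTwo.two_eq_zero, zero_mul, zero_add,
    Nat.cast_one, one_mul]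

/-- the kernel of `ch` on `T₁` is `V = Q Z` -/
theorem T1_ker [Finite G] {t : G} (ht : t ∈ T1 T H) (h : ch u Q f t = 0) :
    ∃ r ∈ Q, ∃ b, σ b = b ∧ t = r * zz u b := by
  obtain ⟨o, ho, -, b, hb, rfl⟩ := Y2.ker T ht.1 (comm_of_ch T H ht.1 h)
  have h4 : Commute o (zz u b) := T.C_zz ho.1 b
  obtain ⟨k, hk⟩ := ht.2
  refine ⟨o, ?_, b, hb, rfl⟩
  apply ho.mem_Q T (k := k + 1)
  rw [h4.mul_pow] at hk
  have h5 : zz u b ^ 2 ^ k * zz u b ^ 2 ^ k = 1 := by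
    rw [← pow_two, ← pow_mul, mul_comm, pow_mul, pow_two, zz_sq hb, one_pow]
  calc o ^ 2 ^ (k + 1) = o ^ 2 ^ k * o ^ 2 ^ k := by rw [pow_succ, pow_mul, pow_two]
    _ = o ^ 2 ^ k * o ^ 2 ^ k * (zz u b ^ 2 ^ k * zz u b ^ 2 ^ k) := by rw [h5, mul_one]
    _ = (o ^ 2 ^ k * zz u b ^ 2 ^ k) * (o ^ 2 ^ k * zz u b ^ 2 ^ k) := by
      have h6 := (h4.pow_pow (2 ^ k) (2 ^ k)).eq
      generalize o ^ 2 ^ k = x at h6 ⊢
      generalize zz u b ^ 2 ^ k = y at h6 ⊢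
      calc x * x * (y * y) = x * (x * y) * y := by group
        _ = x * (y * x) * y := by rw [h6]
        _ = _ := by group
    _ = 1 := by rw [hk, mul_one]

/-- squares in `T₁` -/
theorem T1_sq [Finite G] {t : G} (ht : t ∈ T1 T H) : ∃ b, σ b = b ∧ t * t = zz u b := by
  have h1 : ch u Q f (t * t) = 0 := by rw [ch_mul T H ht.1 ht.1]; exact CharTwo.add_self_eq_zero _
  obtain ⟨r, hr, b, hb, h2⟩ := T1_ker T H (mul_mem ht ht) h1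
  by_cases hr1 : r = 1
  · exact ⟨b, hb, by rw [h2, hr1, one_mul]⟩
  · -- `t` commutes with `r`
    have h3 : t * r = r * t := by
      have h4 := Y2.zz ht.1 b
      have h5 : r = t * t * zz u b := by rw [h2, mul_assoc, zz_sq hb, mul_one]
      rw [h5]
      calc t * (t * t * zz u b) = t * t * (t * zz u b) := by group
        _ = t * t * zz u b * t := by rw [h4]; group
    obtain ⟨-, h4⟩ := keyA T (Y2.onQ T ht.1) hr hr1 h3
    obtain ⟨r', hr', b', hb', rfl⟩ := T1_ker T H ht (ch_of_comm T H h4)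
    refine ⟨0, fix_zero, ?_⟩
    rw [zz_zero]
    calc r' * zz u b' * (r' * zz u b') = r' * (zz u b' * r') * zz u b' := by group
      _ = (r' * r') * (zz u b' * zz u b') := by rw [← T.Q_zz hr']; group
      _ = 1 := by rw [T.sq r' hr', zz_sq hb', mul_one]

/-- commutators in `T₁` -/
theorem T1_comm [Finite G] {s t : G} (hs : s ∈ T1 T H) (ht : t ∈ T1 T H) :
    ∃ b, σ b = b ∧ s * t = t * s * zz u b := by
  obtain ⟨b₁, hb₁, h1⟩ := T1_sq T H hs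
  obtain ⟨b₂, hb₂, h2⟩ := T1_sq T H ht
  obtain ⟨b₃, hb₃, h3⟩ := T1_sq T H (mul_mem hs ht)
  refine ⟨b₁ + b₂ + b₃, fix_add (fix_add hb₁ hb₂) hb₃, ?_⟩
  rw [zz_add (fix_add hb₁ hb₂) hb₃, zz_add hb₁ hb₂]
  have e1 : s = s⁻¹ * zz u b₁ := by rw [← h1]; group
  have e2 : t = t⁻¹ * zz u b₂ := by rw [← h2]; group
  have c1 := Y2.zz ((Y2 u C Q).inv_mem hs.1) b₂
  have c2 := fun b => Y2.zz ((Y2 u C Q).inv_mem ht.1) b
  -- `t s = t⁻¹ s⁻¹ z z`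
  have h4 : t * s = t⁻¹ * s⁻¹ * (zz u b₁ * zz u b₂) := by
    calc t * s = (t⁻¹ * zz u b₂) * (s⁻¹ * zz u b₁) := by rw [← e1, ← e2]
      _ = t⁻¹ * (zz u b₂ * s⁻¹) * zz u b₁ := by group
      _ = t⁻¹ * s⁻¹ * (zz u b₂ * zz u b₁) := by rw [← c1]; group
      _ = _ := by rw [zz_comm b₁ b₂]
  rw [h4]
  calc s * t = (t⁻¹ * s⁻¹) * (s * t * (s * t)) := by group
    _ = (t⁻¹ * s⁻¹) * zz u b₃ := by rw [h3]
    _ = t⁻¹ * s⁻¹ * ((zz u b₁ * zz u b₁) * (zz u b₂ * zz u b₂)) * zz u b₃ := by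
      rw [zz_sq hb₁, zz_sq hb₂, mul_one, mul_one]
    _ = t⁻¹ * s⁻¹ * (zz u b₁ * zz u b₂) * (zz u b₁ * zz u b₂ * zz u b₃) := by
      calc t⁻¹ * s⁻¹ * ((zz u b₁ * zz u b₁) * (zz u b₂ * zz u b₂)) * zz u b₃
          = t⁻¹ * s⁻¹ * (zz u b₁ * (zz u b₁ * zz u b₂) * zz u b₂) * zz u b₃ := by group
        _ = t⁻¹ * s⁻¹ * (zz u b₁ * (zz u b₂ * zz u b₁) * zz u b₂) * zz u b₃ := by rw [zz_comm b₂ b₁]
        _ = _ := by group

end Cfsg.Agent.OddHalf.D4.U3.TTwo
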