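import Cfsg.Agent.OddHalf.D4.U3.Defs

/-!
# ODD, D4, row `K = U₃(q)`: elementary facts on the chart (used by PIECE J)
-/

set_option autoImplicit false

namespace Cfsg.Agent.OddHalf.D4.U3.Tools

open Subgroup Cfsg.Agent.StdU3.Field Cfsg.Agent.StdU3.PreDef Cfsg.Agent.OddHalf.D4.CommConj
  Cfsg.Agent.OddHalf.D4.Basic Cfsg.Agent.OddHalf.D4.U3.Defs

universe u v

variable {G : Type u} [Group G] {F : Type v} [Field F] [Fintype F] [CharP F 2] {n : ℕ}

section Chart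

variable (D : Chart G F n)

theorem Z_le : D.Z ≤ D.P := by
  rintro x ⟨b, hb, rfl⟩
  exact D.z_mem b hb

theorem z_mem_Z {b : F} (hb : bar n b = b) : D.z b ∈ D.Z := ⟨b, hb, rfl⟩

/-- `z b` is central in `P` -/
theorem z_comm {x : G} (hx : x ∈ D.P) {b : F} (hb : bar n b = b) : x * D.z b = D.z b * x := by
  rw [D.comm x hx _ (D.z_mem b hb), D.a_z b hb, D.c_z b hb, D.f_z b hb]
  have h1 : Tr n (D.a x * bar n 0) + (D.c x * 0 + 0 * D.f x) = 0 := by
    rw [bar_zero, mul_zero, Tr_zero, mul_zero, zero_mul, add_zero, add_zero]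
  rw [h1, D.z_zero, one_mul]

theorem z_sq {b : F} (hb : bar n b = b) : D.z b * D.z b = 1 := by
  rw [← D.z_add b b hb hb, Cfsg.Agent.StdU3.Field.add_self, D.z_zero]

theorem Z_sq {x : G} (hx : x ∈ D.Z) : x * x = 1 := by
  obtain ⟨b, hb, rfl⟩ := hx
  exact z_sq D hb

theorem Z_central {x y : G} (hx : x ∈ D.P) (hy : y ∈ D.Z) : x * y = y * x := by
  obtain ⟨b, hb, rfl⟩ := hy
  exact z_comm D hx hb

/-- injectivity of `z` -/
theorem z_inj' {b b' : F} (hb : bar n b = b) (hb' : bar n b' = b') (h : D.z b = D.z b') : b = b' := by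
  have h1 : D.z (b + b') = 1 := by
    rw [D.z_add b b' hb hb', h, z_sq D hb']
  exact Cfsg.Agent.StdU3.Field.add_eq_zero.mp (D.z_inj _ (fixed_add hb hb') h1)

theorem fixed_form {x y : G} (hx : x ∈ D.P) (hy : y ∈ D.P) :
    bar n (Tr n (D.a x * bar n (D.a y)) + (D.c x * D.f y + D.c y * D.f x)) =
      Tr n (D.a x * bar n (D.a y)) + (D.c x * D.f y + D.c y * D.f x) := by
  have h1 := D.fix_c x hx
  have h2 := D.fix_c y hy
  have h3 := D.fix_Phi _ (D.f_mem x hx)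
  have h4 := D.fix_Phi _ (D.f_mem y hy)
  exact fixed_add (fixed_Tr D.hq _) (fixed_add (fixed_mul h1 h4) (fixed_mul h2 h3))

theorem comm_mem {x y : G} (hx : x ∈ D.P) (hy : y ∈ D.P) : x * y * x⁻¹ * y⁻¹ ∈ D.Z := by
  refine ⟨_, fixed_form D hx hy, ?_⟩
  rw [D.comm x hx y hy]
  group

theorem fixed_sq {x : G} (hx : x ∈ D.P) :
    bar n (N n (D.a x) + D.kap * D.c x + D.c x * D.f x) = N n (D.a x) + D.kap * D.c x + D.c x * D.f x := by
  have h1 := D.fix_c x hx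
  have h3 := D.fix_Phi _ (D.f_mem x hx)
  exact fixed_add (fixed_add (fixed_N D.hq _) (fixed_mul D.fix_kap h1)) (fixed_mul h1 h3)

theorem sq_mem {x : G} (hx : x ∈ D.P) : x * x ∈ D.Z := ⟨_, fixed_sq D hx, D.sq x hx⟩

/-- every `z b` is a commutator -/
theorem exists_comm {b : F} (hb : bar n b = b) : ∃ x ∈ D.P, ∃ y ∈ D.P, x * y * x⁻¹ * y⁻¹ = D.z b := by
  obtain ⟨x, hx, hxa, hxc, hxf⟩ := D.surj 1 0 0 (bar_zero n) (zero_mem _)
  obtain ⟨e, he⟩ := exists_Tr_eq D.hq one_ne_zero hb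
  obtain ⟨y, hy, hya, hyc, hyf⟩ := D.surj e 0 0 (bar_zero n) (zero_mem _)
  refine ⟨x, hx, y, hy, ?_⟩
  rw [D.comm x hx y hy, hxa, hya, hxc, hyc]
  have h1 : Tr n (1 * bar n e) + (0 * D.f y + 0 * D.f x) = b := by
    rw [he, zero_mul, zero_mul, add_zero, add_zero]
  rw [h1]
  group

/-- an element normalizing `P` normalizes `Z` -/
theorem conj_Z {x : G} (hx : cj x D.P = D.P) {y : G} (hy : y ∈ D.Z) : x * y * x⁻¹ ∈ D.Z := by
  obtain ⟨b, hb, rfl⟩ := hy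
  obtain ⟨p, hp, q, hq, hpq⟩ := exists_comm D hb
  rw [← hpq]
  have h1 : x * p * x⁻¹ ∈ D.P := by
    have := mem_cj_mul (g := x) hp
    rwa [hx] at this
  have h2 : x * q * x⁻¹ ∈ D.P := by
    have := mem_cj_mul (g := x) hq
    rwa [hx] at this
  have h3 := comm_mem D h1 h2
  have h4 : x * (p * q * p⁻¹ * q⁻¹) * x⁻¹ =
      x * p * x⁻¹ * (x * q * x⁻¹) * (x * p * x⁻¹)⁻¹ * (x * q * x⁻¹)⁻¹ := by group
  rw [h4]
  exact h3

theorem cj_inv {x : G} {X : Subgroup G} (hx : cj x X = X) : cj x⁻¹ X = X := by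
  conv_lhs => rw [← hx]
  rw [← cj_mul, inv_mul_cancel]
  ext y
  rw [mem_cj]
  simp

theorem conj_Z' {x : G} (hx : cj x D.P = D.P) {y : G} (hy : x * y * x⁻¹ ∈ D.Z) : y ∈ D.Z := by
  have h1 := conj_Z D (cj_inv hx) hy
  have h2 : x⁻¹ * (x * y * x⁻¹) * x⁻¹⁻¹ = y := by group
  rwa [h2] at h1

/-- order of `Z` -/
theorem mem_Z_of_coord {x : G} (hx : x ∈ D.P) (ha : D.a x = 0) (hc : D.c x = 0) (hf : D.f x = 0) :
    x ∈ D.Z := by
  obtain ⟨b, hb, h⟩ := D.ker x hx ha hc hf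
  exact ⟨b, hb, h⟩

theorem coord_of_Z {x : G} (hx : x ∈ D.Z) : D.a x = 0 ∧ D.c x = 0 ∧ D.f x = 0 := by
  obtain ⟨b, hb, rfl⟩ := hx
  exact ⟨D.a_z b hb, D.c_z b hb, D.f_z b hb⟩

/-- there are at least four fixed elements -/
theorem exists_fixed (D : Chart G F n) : ∃ l : F, bar n l = l ∧ l ≠ 0 ∧ l ≠ 1 := by
  obtain ⟨l, hl, hl1⟩ := exists_fixed_ne D.hq
  exact ⟨l, hl, l.ne_zero, hl1⟩

theorem four_le_card [Finite G] (D : Chart G F n) : 4 ≤ Nat.card D.Z := by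
  classical
  obtain ⟨l, hl, hl0, hl1⟩ := exists_fixed D
  have h1 : bar n (1 : F) = 1 := bar_one n
  let s : Fin 4 → D.Z := ![⟨D.z 0, z_mem_Z D (bar_zero n)⟩, ⟨D.z 1, z_mem_Z D h1⟩,
    ⟨D.z l, z_mem_Z D hl⟩, ⟨D.z (1 + l), z_mem_Z D (fixed_add h1 hl)⟩]
  have hinj : Function.Injective s := by
    have h01 : (0 : F) ≠ 1 := zero_ne_one
    have h2 : (1 + l : F) ≠ 0 := fun h => hl1 (Cfsg.Agent.StdU3.Field.add_eq_zero.mp h).symm
    have h3 : (1 + l : F) ≠ 1 := fun h => hl0 (by simpa using h)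
    have h4 : (1 + l : F) ≠ l := fun h => one_ne_zero (α := F) (by simpa using h)
    have hz := bar_zero (K := F) n
    have h5 := fixed_add h1 hl
    intro i j hij
    fin_cases i <;> fin_cases j <;> first | rfl | (exfalso; have h := congrArg Subtype.val hij; simp [s] at h; first
      | exact h01 (z_inj' D hz h1 h)
      | exact h01.symm (z_inj' D h1 hz h)
      | exact hl0 (z_inj' D hl hz h)
      | exact hl0.symm (z_inj' D hz hl h)
      | exact hl1 (z_inj' D hl h1 h)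
      | exact hl1.symm (z_inj' D h1 hl h)
      | exact h2 (z_inj' D h5 hz h)
      | exact h2.symm (z_inj' D hz h5 h)
      | exact h3 (z_inj' D h5 h1 h)
      | exact h3.symm (z_inj' D h1 h5 h)
      | exact h4 (z_inj' D h5 hl h)
      | exact h4.symm (z_inj' D hl h5 h))
  have := Nat.card_le_card_of_injective s hinj
  simpa using this

end Chart

end Cfsg.Agent.OddHalf.D4.U3.Tools
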