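import Cfsg.Agent.OddHalf.D4.U3.Zeta

/-!
# ODD, D4, row `K = U₃(q)`: the conjugates of `V` under `N(P)` are `V` and possibly `E` (PIECE D of #14847)

Stated over the hypotheses `Inp` (= pieces A, B, C).
-/

set_option autoImplicit false
set_option linter.unusedSectionVars false

namespace Cfsg.Agent.OddHalf.D4.U3.TransCore

open Subgroup Cfsg.Agent.StdU3.Field Cfsg.Agent.StdU3.PreDef Cfsg.Agent.OddHalf.D4.CommConj
  Cfsg.Agent.OddHalf.D4.Basic Cfsg.Agent.OddHalf.D4.U3.Defs Cfsg.Agent.OddHalf.D4.U3.Zeta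

universe u v

variable {G : Type u} [Group G] {F : Type v} [Field F] [Fintype F] [CharP F 2] {n : ℕ}

/-! ### The field -/

theorem w_mul (l l' : Fˣ) : w n (l * l') = w n l * w n l' := by
  unfold w
  rw [Units.val_mul, bar_mul, mul_inv, mul_pow]; ring

theorem w_one : w n (1 : Fˣ) = 1 := by
  unfold w
  rw [Units.val_one, bar_one, inv_one, one_pow, one_mul]

theorem w_inv (l : Fˣ) : w n l⁻¹ = (w n l)⁻¹ := by
  apply eq_inv_of_mul_eq_one_left
  rw [← w_mul, inv_mul_cancel, w_one]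

theorem bar_w (l : Fˣ) : ∃ l' : Fˣ, w n l' = bar n (w n l) := by
  refine ⟨Units.mk0 (bar n (l : F)) fun h0 => l.ne_zero (bar_eq_zero h0), ?_⟩
  unfold w
  rw [Units.val_mk0, bar_mul, bar_pow, bar_inv]

theorem map_w (τ : F ≃+* F) (l : Fˣ) : ∃ l' : Fˣ, w n l' = τ (w n l) := by
  refine ⟨Units.mk0 (τ (l : F)) fun h0 => l.ne_zero ((map_eq_zero τ).mp h0), ?_⟩
  unfold w
  rw [Units.val_mk0, map_mul, map_pow, map_inv₀, bar_def, bar_def, map_pow]

theorem bar_map (τ : F ≃+* F) (x : F) : bar n (τ x) = τ (bar n x) := by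
  rw [bar_def, bar_def, map_pow]

theorem N_map (τ : F ≃+* F) (x : F) : τ (N n x) = τ x * τ (bar n x) := by
  rw [N_def, map_mul]

/-- elements `u`, `1 + u` of `W` with `u² + u + 1 ≠ 0` -/
theorem exists_u (h : Qd F n) : ∃ l l' : Fˣ, w n l' = 1 + w n l ∧ w n l ^ 2 + w n l + 1 ≠ 0 := by
  have h3 : ∀ u : F, u ^ 2 + u + 1 = 0 → u ^ 3 = 1 := by
    intro u hu
    have h1 : u ^ 3 + 1 = 0 := by linear_combination (u + 1) * hu - (u ^ 2 + u) * (CharTwo.two_eq_zero (R := F))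
    exact Cfsg.Agent.StdU3.Field.add_eq_zero.mp h1
  rcases Nat.lt_or_ge 2 n with hn | hn
  · -- `q ≥ 8`
    obtain ⟨g, hg⟩ := exists_generator h
    have h8 : 8 ≤ 2 ^ n := by
      calc 8 = 2 ^ 3 := by norm_num
        _ ≤ 2 ^ n := Nat.pow_le_pow_right (by norm_num) hn
    have hf := card_factor (2 ^ n) (by omega)
    set l : Fˣ := g ^ (2 ^ n + 1) with hl
    have hfix : bar n (l : F) = l := by
      rw [hl, Units.val_pow_eq_pow_val, ← N_eq_pow, fixed_N h]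
    have hl3 : l ^ 3 ≠ 1 := by
      rw [hl, ← pow_mul]
      intro h1
      have h2 := orderOf_dvd_of_pow_eq_one h1
      rw [hg, hf, mul_comm] at h2
      have h4 := Nat.dvd_of_mul_dvd_mul_left (by omega) h2
      have h5 := Nat.le_of_dvd (by norm_num) h4
      omega
    have hl3' : (l : F) ^ 3 ≠ 1 := by
      intro h1
      apply hl3
      apply Units.val_injective
      rw [Units.val_pow_eq_pow_val, h1, Units.val_one]
    have h1 : (1 : F) + l ≠ 0 := by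
      intro h1
      apply hl3'
      rw [← Cfsg.Agent.StdU3.Field.add_eq_zero.mp h1, one_pow]
    refine ⟨l, Units.mk0 _ h1, ?_, ?_⟩
    · rw [w_fixed hfix, w_fixed (by rw [Units.val_mk0]; exact fixed_add (bar_one n) hfix), Units.val_mk0]
    · rw [w_fixed hfix]
      exact fun h2 => hl3' (h3 _ h2)
  · -- `q = 4`
    have hn2 : n = 2 := le_antisymm hn h.hn
    subst hn2
    have hw : ∀ v : F, v ≠ 0 → ∃ l : Fˣ, w 2 l = v := by
      intro v hv
      have h16 : v ^ 16 = v := by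
        have := FiniteField.pow_card v
        rwa [h.hK] at this
      have h15 : v ^ 15 = 1 := by
        apply mul_right_cancel₀ hv
        rw [one_mul, ← pow_succ, h16]
      refine ⟨Units.mk0 (v ^ 7) (pow_ne_zero 7 hv), ?_⟩
      unfold w
      rw [Units.val_mk0, bar_def, ← pow_mul, ← pow_mul]
      apply mul_right_cancel₀ (b := v ^ 28) (pow_ne_zero 28 hv)
      rw [show 7 * 2 ^ 2 = 28 from rfl, inv_mul_cancel_right₀ (pow_ne_zero 28 hv)]
      have e1 : v ^ (7 * 2) = v ^ 14 := rfl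
      have e2 : v * v ^ 28 = v ^ 15 * v ^ 14 := by ring
      rw [e1, e2, h15, one_mul]
    obtain ⟨e, he⟩ := exists_Tr_one h
    have hb : bar 2 e ≠ e := by
      intro h1
      rw [Tr_def, h1, add_self] at he
      exact zero_ne_one he
    have h0 : e ≠ 0 := by
      rintro rfl
      exact hb (bar_zero 2)
    have h1 : 1 + e ≠ 0 := by
      intro h1
      apply hb
      rw [← Cfsg.Agent.StdU3.Field.add_eq_zero.mp h1, bar_one]
    obtain ⟨l, hl⟩ := hw e h0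
    obtain ⟨l', hl'⟩ := hw (1 + e) h1
    refine ⟨l, l', by rw [hl, hl'], ?_⟩
    rw [hl]
    intro h2
    apply hb
    rw [bar_def, show (2 : ℕ) ^ 2 = 3 + 1 from rfl, pow_succ, h3 e h2, one_mul]

theorem field_false (h : Qd F n) (τ : F ≃+* F) (hw : ∀ l : Fˣ, w n l * τ (bar n (w n l)) = 1) : False := by
  obtain ⟨l, l', h1, h2⟩ := exists_u h
  have e1 := hw l
  have e2 := hw l'
  rw [h1, bar_add, bar_one, map_add, map_one] at e2
  have h0 := w_ne (n := n) l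
  apply h2
  linear_combination w n l * e2 - (1 + w n l) * e1

/-! ### The hypotheses -/

/-- what pieces A, B, C give -/
structure Inp (D : Dat G F n) : Prop where
  cV : ∀ x, cj x D.P = D.P → cj x D.V = D.V ∨ (D.kap = 0 ∧
    ((∃ A, A ≠ 0 ∧ cj x D.V = D.W A) ∨ (cj x D.V = D.E ∧ ∀ b, bar n b = b → b ∈ D.Phi)))
  cE : ∀ x, cj x D.P = D.P → D.kap = 0 →
    cj x D.E = D.E ∨ ((∃ A, cj x D.E = D.W A) ∧ ∀ b, bar n b = b → b ∈ D.Phi)
  one : ∀ y α, cj y D.P = D.P → α ≠ 0 → cj y D.V = D.W α → cj y (D.W α) = D.V → cj y D.E = D.E → False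
  two : ∀ y α β, cj y D.P = D.P → α ≠ 0 → β ≠ 0 → cj y D.V = D.W α → cj y (D.W α) = D.V →
    cj y D.E = D.W β → cj y (D.W β) = D.E → False

variable {D : Dat G F n} (I : Inp D)

include I

/-- (D1) -/
theorem swap {t : G} (ht : cj t D.P = D.P) (h1 : cj t D.V ≠ D.V) (h2 : cj t (cj t D.V) = D.V) :
    D.kap = 0 ∧ (∀ b, bar n b = b → b ∈ D.Phi) ∧ cj t D.V = D.E ∧ cj t D.E = D.V := by
  have hE2 : cj t (cj t D.E) = D.E := by
    rw [← cj_mul] at h2 ⊢
    exact D.V_E _ h2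
  obtain ⟨hk, ⟨α, hα, h3⟩ | ⟨h3, h4⟩⟩ := (I.cV t ht).resolve_left h1
  · exfalso
    rw [h3] at h2
    rcases I.cE t ht hk with h4 | ⟨⟨β, h4⟩, -⟩
    · exact I.one t α ht hα h3 h2 h4
    · have hβ : β ≠ 0 := by
        rintro rfl
        rw [D.W_zero] at h4
        rw [h4, h3] at hE2
        exact W_ne_E D.toChart α hE2
      rw [h4] at hE2
      exact I.two t α β ht hα hβ h3 h2 h4 hE2
  · refine ⟨hk, h4, h3, ?_⟩
    rw [← h3, h2]

/-- `t` fixes all conjugates of `V` -/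
def Fixes (D : Dat G F n) (t : G) : Prop := ∀ x, cj x D.P = D.P → cj t (cj x D.V) = cj x D.V

omit I in
theorem Fixes.one : Fixes D 1 := fun _ _ => cj_one _

omit I in
theorem cj_pow {y : G} {X : Subgroup G} (h : cj y X = X) (k : ℕ) : cj (y ^ k) X = X := by
  induction k with
  | zero => rw [pow_zero, cj_one]
  | succ k ih => rw [pow_succ, cj_mul, h, ih]

omit I in
/-- (D2) -/
theorem exists_t {y : G} (hy : cj y D.P = D.P) (h2 : ∃ k, y ^ 2 ^ k = 1) (hV : cj y D.V ≠ D.V) :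
    ∃ t, cj t D.P = D.P ∧ cj t D.V ≠ D.V ∧ Fixes D (t * t) := by
  classical
  have hex : ∃ k, Fixes D (y ^ 2 ^ k) := by
    obtain ⟨k, hk⟩ := h2
    exact ⟨k, by rw [hk]; exact Fixes.one⟩
  have h0 : ¬ Fixes D (y ^ 2 ^ 0) := by
    intro h
    have := h 1 (cj_one _)
    rw [pow_zero, pow_one, cj_one] at this
    exact hV this
  obtain ⟨k, hk⟩ : ∃ k, Nat.find hex = k + 1 := by
    apply Nat.exists_eq_succ_of_ne_zero
    intro h
    exact h0 (h ▸ Nat.find_spec hex)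
  have h3 : Fixes D (y ^ 2 ^ (k + 1)) := hk ▸ Nat.find_spec hex
  have h4 : ¬ Fixes D (y ^ 2 ^ k) := Nat.find_min hex (by omega)
  unfold Fixes at h4
  push Not at h4
  obtain ⟨x, hx, h5⟩ := h4
  have hyk := cj_pow (k := 2 ^ k) hy
  have hx' := cj_inv_eq hx
  refine ⟨x⁻¹ * y ^ 2 ^ k * x, cj_mul_eq (cj_mul_eq hx' hyk) hx, ?_, ?_⟩
  · intro h6
    apply h5
    rw [cj_mul, cj_mul] at h6
    have h7 := congrArg (cj x) h6
    rwa [← cj_mul x x⁻¹, mul_inv_cancel, cj_one] at h7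
  · intro v hv
    have e : x⁻¹ * y ^ 2 ^ k * x * (x⁻¹ * y ^ 2 ^ k * x) = x⁻¹ * y ^ 2 ^ (k + 1) * x := by
      rw [pow_succ, mul_comm (2 ^ k) 2, pow_mul, ← pow_mul, mul_comm 2, pow_mul, pow_two]
      group
    rw [e, cj_mul, cj_mul]
    have h6 := h3 (x * v) (cj_mul_eq hx hv)
    rw [cj_mul x v] at h6
    rw [h6, ← cj_mul x⁻¹, inv_mul_cancel, cj_one]

omit I

/-! ### `N(T₁) ≤ N(S)` -/

theorem mem_S_iff {s : G} : s ∈ D.S ↔ s ∈ D.P ∧ ∀ p ∈ D.T1, s * p = p * s := by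
  constructor
  · rintro ⟨hs, hc, hf⟩
    refine ⟨hs, fun p hp => ?_⟩
    have h1 := D.comm s hs p hp.1
    rw [hp.2, hc, hf, bar_zero, mul_zero, zero_mul, mul_zero, add_zero, add_zero, Tr_zero, D.z_zero, one_mul] at h1
    exact h1
  · rintro ⟨hs, h⟩
    have key : ∀ p ∈ D.T1, D.c s * D.f p + D.c p * D.f s = 0 := by
      intro p hp
      have h1 := D.comm s hs p hp.1
      rw [← h p hp] at h1
      have h2 := mul_eq_right.mp h1.symm
      rw [hp.2, bar_zero, mul_zero, Tr_zero, zero_add] at h2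
      exact D.z_inj _ (fixed_add (fixed_mul (D.fix_c s hs) (D.fix_Phi _ (D.f_mem p hp.1)))
        (fixed_mul (D.fix_c p hp.1) (D.fix_Phi _ (D.f_mem s hs)))) h2
    refine ⟨hs, ?_, ?_⟩
    · obtain ⟨p, hp, e1, e2, e3⟩ := D.surj 0 0 1 (bar_zero n) D.one_mem
      have h1 := key p ⟨hp, e1⟩
      rwa [e2, e3, mul_one, zero_mul, add_zero] at h1
    · obtain ⟨p, hp, e1, e2, e3⟩ := D.surj 0 1 0 (bar_one n) D.Phi.zero_mem
      have h1 := key p ⟨hp, e1⟩
      rwa [e2, e3, mul_zero, one_mul, zero_add] at h1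

theorem T1_eq : D.T1 = D.V ⊔ D.E := by
  apply le_antisymm
  · intro p hp
    obtain ⟨v, hv, e1, e2, e3⟩ := D.surj 0 0 (D.f p) (bar_zero n) (D.f_mem p hp.1)
    have hv' := D.P.inv_mem hv
    have h1 : v⁻¹ * p ∈ D.E := by
      refine ⟨D.P.mul_mem hv' hp.1, ?_, ?_⟩
      · rw [D.a_mul _ hv' _ hp.1, D.a_inv hv, e1, hp.2, add_zero]
      · rw [D.f_mul _ hv' _ hp.1, D.f_inv hv, e3, add_self]
    have h2 : v ∈ D.V := ⟨hv, e1, e2⟩
    have h3 := mul_mem_sup h2 h1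
    rwa [mul_inv_cancel_left] at h3
  · apply sup_le
    · exact fun x hx => ⟨hx.1, hx.2.1⟩
    · exact fun x hx => ⟨hx.1, hx.2.1⟩

theorem cj_sup (x : G) (X Y : Subgroup G) : cj x (X ⊔ Y) = cj x X ⊔ cj x Y := Subgroup.map_sup _ _ _

theorem S_of_T1 {x : G} (hx : cj x D.P = D.P) (h1 : cj x D.T1 = D.T1) : cj x D.S = D.S := by
  have key : ∀ y : G, cj y D.P = D.P → cj y D.T1 = D.T1 → ∀ s ∈ D.S, y * s * y⁻¹ ∈ D.S := by
    intro y hy hy1 s hs
    rw [mem_S_iff] at hs ⊢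
    refine ⟨conj_mem hy hs.1, fun p hp => ?_⟩
    have h2 := hs.2 _ (inv_conj_mem hy1 hp)
    calc y * s * y⁻¹ * p = y * (s * (y⁻¹ * p * y)) * y⁻¹ := by group
      _ = y * (y⁻¹ * p * y * s) * y⁻¹ := by rw [h2]
      _ = p * (y * s * y⁻¹) := by group
  apply cj_eq_of (key x hx h1)
  intro p hp
  have h2 := key x⁻¹ (cj_inv_eq hx) (cj_inv_eq h1) p hp
  rwa [inv_inv] at h2

theorem T1_of_swap {x : G} (h1 : cj x D.V = D.E) (h2 : cj x D.E = D.V) : cj x D.T1 = D.T1 := by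
  rw [T1_eq, cj_sup, h1, h2, sup_comm]

theorem T1_of_fix {x : G} (h1 : cj x D.V = D.V) (h2 : cj x D.E = D.E) : cj x D.T1 = D.T1 := by
  rw [T1_eq, cj_sup, h1, h2]

/-! ### Coordinates of an element that swaps `V` and `E` -/

/-- `x` acts on `P / Z` as `(a, c, f) ↦ (c₀ τ(a), θ τ(f), N(c₀) τ(c) / θ)` -/
structure Sw (D : Dat G F n) (x : G) (c₀ : F) (τ : F ≃+* F) (θ : F) : Prop where
  c0 : c₀ ≠ 0
  th : θ ≠ 0
  fix : bar n θ = θ
  z : ∀ b, bar n b = b → x * D.z b * x⁻¹ = D.z (N n c₀ * τ b)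
  a : ∀ p ∈ D.P, D.a (x * p * x⁻¹) = c₀ * τ (D.a p)
  c : ∀ p ∈ D.P, D.c (x * p * x⁻¹) = θ * τ (D.f p)
  f : ∀ p ∈ D.P, D.f (x * p * x⁻¹) = N n c₀ * τ (D.c p) / θ

/-- the action of an element of `N(P)` that normalizes `T₁` (so that it normalizes `S`) -/
theorem coord {x : G} (hx : cj x D.P = D.P) (h1 : cj x D.V = D.E) (h2 : cj x D.E = D.V) :
    ∃ c₀ τ θ, Sw D x c₀ τ θ := by
  have hS := S_of_T1 hx (T1_of_swap h1 h2)
  obtain ⟨c₀, hc₀, τ, ha, hz⟩ := D.sl x hS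
  obtain ⟨ζ, hζ⟩ := exists_zeta D.toChart hx
  have hzN : ∀ b, bar n b = b → bar n (N n c₀ * τ b) = N n c₀ * τ b := by
    intro b hb
    apply fixed_mul (fixed_N D.hq _)
    rw [bar_map, hb]
  have hζN : ∀ b, bar n b = b → ζ b = N n c₀ * τ b := by
    intro b hb
    apply z_eq D.toChart (hζ.fix b hb) (hzN b hb)
    rw [← hζ.eq b hb, hz b hb]
  obtain ⟨v1, hv1, a1, c1, f1⟩ := D.surj 0 0 1 (bar_zero n) D.one_mem
  obtain ⟨e1, he1, a2, c2, f2⟩ := D.surj 0 1 0 (bar_one n) D.Phi.zero_mem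
  have hVE : ∀ v ∈ D.V, x * v * x⁻¹ ∈ D.E := by
    intro v hv; rw [← h1]; exact mem_cj_mul hv
  have hEV : ∀ v ∈ D.E, x * v * x⁻¹ ∈ D.V := by
    intro v hv; rw [← h2]; exact mem_cj_mul hv
  have key : ∀ v ∈ D.V, ∀ e ∈ D.E, D.c (x * v * x⁻¹) * D.f (x * e * x⁻¹) = N n c₀ * τ (D.f v * D.c e) := by
    intro v hv e he
    have h3 := hζ.comm hv.1 he.1
    have h4 := hVE v hv
    have h5 := hEV e he
    rw [h4.2.1, h4.2.2, h5.2.1, h5.2.2, hv.2.1, hv.2.2, he.2.1, he.2.2, bar_zero, mul_zero, Tr_zero,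
      add_zero, zero_add, zero_add, zero_add, hζN _ (fixed_mul (D.fix_c e he.1) (D.fix_Phi _ (D.f_mem v hv.1)))] at h3
    rw [h3]
    congr 2; ring
  set θ := D.c (x * v1 * x⁻¹) with hθ
  have hNc : N n c₀ ≠ 0 := N_ne_zero hc₀
  have hV1 : v1 ∈ D.V := ⟨hv1, a1, c1⟩
  have hE1 : e1 ∈ D.E := ⟨he1, a2, f2⟩
  have hθ0 : θ ≠ 0 := by
    intro h0
    have h3 := key v1 hV1 e1 hE1
    rw [← hθ, h0, zero_mul, f1, c2, mul_one, map_one, mul_one] at h3
    exact hNc h3.symm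
  have hfe : ∀ e ∈ D.E, D.f (x * e * x⁻¹) = N n c₀ * τ (D.c e) / θ := by
    intro e he
    rw [eq_div_iff hθ0, mul_comm, hθ, key v1 hV1 e he, f1, one_mul]
  have hcv : ∀ v ∈ D.V, D.c (x * v * x⁻¹) = θ * τ (D.f v) := by
    intro v hv
    have h3 := key v hv e1 hE1
    rw [hfe e1 hE1, c2, map_one, mul_one, mul_one] at h3
    have h4 : N n c₀ * (D.c (x * v * x⁻¹)) = N n c₀ * (θ * τ (D.f v)) := by
      field_simp at h3
      linear_combination N n c₀ * h3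
    exact mul_left_cancel₀ hNc h4
  have hcoord : ∀ p ∈ D.P, D.a (x * p * x⁻¹) = c₀ * τ (D.a p) ∧ D.c (x * p * x⁻¹) = θ * τ (D.f p) ∧
      D.f (x * p * x⁻¹) = N n c₀ * τ (D.c p) / θ := by
    intro p hp
    obtain ⟨s, hs, s1, s2, s3⟩ := D.surj (D.a p) 0 0 (bar_zero n) D.Phi.zero_mem
    obtain ⟨v, hv, v1', v2, v3⟩ := D.surj 0 0 (D.f p) (bar_zero n) (D.f_mem p hp)
    obtain ⟨e, he, e1', e2, e3⟩ := D.surj 0 (D.c p) 0 (D.fix_c p hp) D.Phi.zero_mem
    have hve := D.P.mul_mem hv he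
    have hsve := D.P.mul_mem hs hve
    obtain ⟨q1, q2, q3⟩ := hζ.congr hp hsve
      (by rw [D.a_mul _ hs _ hve, D.a_mul _ hv _ he, s1, v1', e1', add_zero, add_zero])
      (by rw [D.c_mul _ hs _ hve, D.c_mul _ hv _ he, s2, v2, e2, zero_add, zero_add])
      (by rw [D.f_mul _ hs _ hve, D.f_mul _ hv _ he, s3, v3, e3, zero_add, add_zero])
    have hsS : s ∈ D.S := ⟨hs, s2, s3⟩
    have hvV : v ∈ D.V := ⟨hv, v1', v2⟩
    have heE : e ∈ D.E := ⟨he, e1', e3⟩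
    have hs' : x * s * x⁻¹ ∈ D.S := conj_mem hS hsS
    have hv' := hVE v hvV
    have he' := hEV e heE
    rw [q1, q2, q3, hζ.a_mul hs hve, hζ.a_mul hv he, hζ.c_mul hs hve, hζ.c_mul hv he, hζ.f_mul hs hve, hζ.f_mul hv he,
      ha s hsS, hs'.2.1, hs'.2.2, hv'.2.1, hv'.2.2, he'.2.1, he'.2.2, hcv v hvV, hfe e heE, s1, v3, e2]
    refine ⟨by ring, by ring, by ring⟩
  refine ⟨c₀, τ, θ, hc₀, hθ0, D.fix_c _ (conj_mem hx hv1), hz, fun p hp => (hcoord p hp).1,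
    fun p hp => (hcoord p hp).2.1, fun p hp => (hcoord p hp).2.2⟩

/-! ### The main step -/

include I

/-- conjugates of `V` are fixed by `t` or swapped with their partner -/
theorem fix_or_swap {t : G} (ht : cj t D.P = D.P) (h2 : Fixes D (t * t)) {x : G} (hx : cj x D.P = D.P) :
    cj t (cj x D.V) = cj x D.V ∨ cj t (cj x D.V) = cj x D.E := by
  by_cases h : cj t (cj x D.V) = cj x D.V
  · exact Or.inl h
  · right
    have hx' := cj_inv_eq hx
    have h3 : cj (x⁻¹ * t * x) D.V ≠ D.V := by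
      intro h6
      apply h
      rw [cj_mul, cj_mul] at h6
      have h7 := congrArg (cj x) h6
      rwa [← cj_mul x x⁻¹, mul_inv_cancel, cj_one] at h7
    have h4 : cj (x⁻¹ * t * x) (cj (x⁻¹ * t * x) D.V) = D.V := by
      have e : x⁻¹ * t * x * (x⁻¹ * t * x) = x⁻¹ * (t * t) * x := by group
      rw [← cj_mul, e, cj_mul, cj_mul, h2 x hx, ← cj_mul, inv_mul_cancel, cj_one]
    have h5 := (swap I (cj_mul_eq (cj_mul_eq hx' ht) hx) h3 h4).2.2.1
    have h6 := congrArg (cj x) h5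
    rwa [cj_mul, cj_mul, ← cj_mul x x⁻¹, mul_inv_cancel, cj_one] at h6

theorem no_W {t : G} (ht : cj t D.P = D.P) (h1 : cj t D.V = D.E) (h1' : cj t D.E = D.V) (h2 : Fixes D (t * t))
    (hk : D.kap = 0) {x : G} (hx : cj x D.P = D.P) {A : F} (hA : A ≠ 0) (hxA : cj x D.V = D.W A) : False := by
  obtain ⟨c₀, τ, θ, C⟩ := coord ht h1 h1'
  have hb0 : bar n c₀ ≠ 0 := fun h => C.c0 (bar_eq_zero h)
  -- the partner of `V_A`
  obtain ⟨B, hxB⟩ : ∃ B, cj x D.E = D.W B := by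
    rcases I.cE x hx hk with h | ⟨h, -⟩
    · exfalso
      have h3 : cj (x * t) D.V = cj t D.V := by rw [cj_mul, h1, h]
      have h4 := partner D h3
      rw [cj_mul, h1', hxA] at h4
      rw [← D.W_zero] at h4
      exact hA (W_inj D.toChart h4)
    · exact h
  have hB : B ≠ 0 := by
    rintro rfl
    rw [D.W_zero] at hxB
    have h3 : cj (x * t) D.V = D.V := by rw [cj_mul, h1, hxB]
    have h4 := D.V_E _ h3
    rw [cj_mul, h1', hxA] at h4
    exact W_ne_E _ _ h4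
  have hAB : B ≠ A := by
    rintro rfl
    have h3 : cj x D.V = cj x D.E := by rw [hxA, hxB]
    have h4 := congrArg (cj x⁻¹) h3
    rw [← cj_mul, ← cj_mul, inv_mul_cancel, cj_one, cj_one] at h4
    exact V_ne_E _ h4
  -- the image of a `V_A'` in the orbit
  have img : ∀ A' B', A' ≠ 0 → cj t (D.W A') = D.W B' → B' * (bar n c₀ * τ (bar n A')) = θ := by
    intro A' B' hA' h
    obtain ⟨u, hu, u1, u2, u3⟩ := exists_W D.toChart A'
    have h3 : t * u * t⁻¹ ∈ D.W B' := by rw [← h]; exact mem_cj_mul hu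
    have h4 := h3.2.1
    rw [C.a u hu.1, C.f u hu.1, u1, u2, N_map, N_def, div_mul_eq_mul_div, eq_div_iff C.th] at h4
    have h5 : c₀ * τ A' ≠ 0 := mul_ne_zero C.c0 fun h0 => hA' ((map_eq_zero τ).mp h0)
    apply mul_left_cancel₀ h5
    linear_combination -h4
  have orb : ∀ l : Fˣ, w n l * A * (bar n c₀ * τ (bar n (w n l * A))) = θ ∨
      w n l * B * (bar n c₀ * τ (bar n (w n l * A))) = θ := by
    intro l
    have hl := D.h_P l
    have e1 : cj (D.h l * x) D.V = D.W (w n l * A) := by rw [cj_mul, hxA, cj_h_W]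
    have e2 : cj (D.h l * x) D.E = D.W (w n l * B) := by rw [cj_mul, hxB, cj_h_W]
    have h3 := fix_or_swap I ht h2 (cj_mul_eq hl hx)
    rw [e1, e2] at h3
    have h4 : w n l * A ≠ 0 := mul_ne_zero (w_ne l) hA
    rcases h3 with h3 | h3
    · exact Or.inl (img _ _ h4 h3)
    · exact Or.inr (img _ _ h4 h3)
  -- `B / A` is not in `W`
  have hr : ∀ l : Fˣ, B ≠ w n l * A := by
    intro l hl
    have h3 : cj (D.h l * x) D.V = cj (x * t) D.V := by
      rw [cj_mul, hxA, cj_h_W, cj_mul, h1, hxB, hl]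
    have h4 := partner D h3
    rw [cj_mul, hxB, cj_h_W, cj_mul, h1', hxA] at h4
    have h5 := W_inj _ h4
    rw [hl] at h5
    have h6 : (w n l + 1) ^ 2 * A = 0 := by
      linear_combination h5 + (w n l * A + A) * (CharTwo.two_eq_zero (R := F))
    have h7 : w n l + 1 = 0 := by
      rcases mul_eq_zero.mp h6 with h7 | h7
      · exact pow_eq_zero_iff (two_ne_zero) |>.mp h7
      · exact absurd h7 hA
    apply hAB
    rw [hl, Cfsg.Agent.StdU3.Field.add_eq_zero.mp h7, one_mul]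
  -- all `w τ(w̄)` are one
  apply field_false D.hq τ
  intro l
  obtain ⟨l1, hl1⟩ := bar_w (n := n) l
  obtain ⟨l2, hl2⟩ := map_w (n := n) τ l1
  have hg : w n l * τ (bar n (w n l)) = w n (l * l2) := by rw [w_mul, hl2, hl1]
  set g := w n l * τ (bar n (w n l)) with hgdef
  have o1 := orb 1
  rw [w_one, one_mul, one_mul] at o1
  have o2 := orb l
  rw [bar_mul, map_mul] at o2
  have hC0 : bar n c₀ * τ (bar n A) ≠ 0 :=
    mul_ne_zero hb0 fun h0 => hA (bar_eq_zero ((map_eq_zero τ).mp h0))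
  -- cases
  have hcanc : ∀ X Y : F, X * (bar n c₀ * τ (bar n A)) = Y * (bar n c₀ * τ (bar n A)) → X = Y :=
    fun X Y h => mul_right_cancel₀ hC0 h
  have hg0 : g ≠ 0 := by rw [hg]; exact w_ne _
  rcases o1 with o1 | o1 <;> rcases o2 with o2 | o2
  · have h3 : g * A = 1 * A := hcanc _ _ (by rw [hgdef]; linear_combination o2 - o1)
    exact mul_right_cancel₀ hA h3
  · exfalso
    have h3 : g * B = A := hcanc _ _ (by rw [hgdef]; linear_combination o2 - o1)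
    apply hr (l * l2)⁻¹
    rw [w_inv, ← hg, ← h3, inv_mul_cancel_left₀ hg0]
  · exfalso
    have h3 : g * A = B := hcanc _ _ (by rw [hgdef]; linear_combination o2 - o1)
    apply hr (l * l2)
    rw [← hg, h3]
  · have h3 : g * B = 1 * B := hcanc _ _ (by rw [hgdef]; linear_combination o2 - o1)
    exact mul_right_cancel₀ hB h3

/-- **PIECE D** -/
theorem trans {y : G} (hy : cj y D.P = D.P) (h2 : ∃ k, y ^ 2 ^ k = 1) (hV : cj y D.V ≠ D.V) :
    D.kap = 0 ∧ (∀ b, bar n b = b → b ∈ D.Phi) ∧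
      ∀ x, cj x D.P = D.P → cj x D.V = D.V ∨ cj x D.V = D.E := by
  obtain ⟨t, ht, htV, ht2⟩ := exists_t hy h2 hV
  have h3 : cj t (cj t D.V) = D.V := by
    have h4 := ht2 1 (cj_one _)
    rwa [cj_one, cj_mul] at h4
  obtain ⟨hk, hPhi, h4, h5⟩ := swap I ht htV h3
  refine ⟨hk, hPhi, fun x hx => ?_⟩
  rcases I.cV x hx with h6 | ⟨-, ⟨A, hA, h6⟩ | ⟨h6, -⟩⟩
  · exact Or.inl h6
  · exact (no_W I ht h4 h5 ht2 hk hx hA h6).elim
  · exact Or.inr h6

end Cfsg.Agent.OddHalf.D4.U3.TransCore
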