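import Cfsg.Agent.OddHalf.D4.U3.Inv
import Cfsg.Agent.OddHalf.D4.U3.SwapOne
import Cfsg.Agent.OddHalf.D4.U3.SwapTwo
import Cfsg.Agent.OddHalf.D4.U3.TransCore

/-!
# ODD, D4, row `K = U₃(q)`: the conjugates of `V` under `N(P)` are `V` and possibly `E` (PIECE D of #14847)
-/

set_option autoImplicit false

namespace Cfsg.Agent.OddHalf.D4.U3.Trans

open Cfsg.Agent.StdU3.Field Cfsg.Agent.OddHalf.D4.CommConj Cfsg.Agent.OddHalf.D4.U3.Defs
  Cfsg.Agent.OddHalf.D4.U3.TransCore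

universe u v

variable {G : Type u} [Group G] {F : Type v} [Field F] [Fintype F] [CharP F 2] {n : ℕ}

theorem inp [Finite G] (D : Dat G F n) : Inp D where
  cV _ hx := Chart.cj_V hx
  cE _ hx hk := Chart.cj_E hx hk
  one _ _ hy hα h1 h2 h3 := SwapOne.swapOne D hy hα h1 h2 h3
  two _ _ _ hy hα hβ h1 h2 h3 h4 := SwapTwo.swapTwo D hy hα hβ h1 h2 h3 h4

/-- **PIECE D** -/
theorem trans [Finite G] (D : Dat G F n) {y : G} (hy : cj y D.P = D.P) (h2 : ∃ k : ℕ, y ^ 2 ^ k = 1)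
    (hV : cj y D.V ≠ D.V) : D.kap = 0 ∧ (∀ b, bar n b = b → b ∈ D.Phi) ∧
      ∀ x, cj x D.P = D.P → cj x D.V = D.V ∨ cj x D.V = D.E :=
  TransCore.trans (inp D) hy h2 hV

end Cfsg.Agent.OddHalf.D4.U3.Trans
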