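import Cfsg.Agent.OddHalf.D4.U3.Zeta

/-!
# ODD, D4, row `U₃(q)`: PIECE E, the Sylow 2-subgroup of `N(P)`

`exists_syl_of`: from piece D (as a hypothesis `TransStmt D`) a Sylow 2-subgroup `T` of `N(P)` with `Syl D T`.
-/

set_option autoImplicit false

namespace Cfsg.Agent.OddHalf.D4.U3.TypesOf

open Subgroup Cfsg.Agent.StdU3.Field Cfsg.Agent.StdU3.FieldAut Cfsg.Agent.OddHalf.D4.CommConj
  Cfsg.Agent.OddHalf.D4.Basic Cfsg.Agent.OddHalf.D4.U3.Defs Cfsg.Agent.OddHalf.D4.U3.Zeta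

universe u v

variable {G : Type u} [Group G] {F : Type v} [Field F] [Fintype F] [CharP F 2] {n : ℕ}

/-- the statement of piece D -/
def TransStmt (D : Dat G F n) : Prop :=
  ∀ y : G, cj y D.P = D.P → (∃ k : ℕ, y ^ 2 ^ k = 1) → cj y D.V ≠ D.V →
    D.kap = 0 ∧ (∀ b, bar n b = b → b ∈ D.Phi) ∧ ∀ x, cj x D.P = D.P → cj x D.V = D.V ∨ cj x D.V = D.E

section field

omit [Fintype F] in
theorem one_of_sq {c : F} (h : c * c = 1) : c = 1 := by
  have h1 : (c + 1) * (c + 1) = 0 := by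
    have : (c + 1) * (c + 1) = c * c + 1 + (c + c) := by ring
    rw [this, h, Cfsg.Agent.StdU3.Field.add_self, Cfsg.Agent.StdU3.Field.add_self, add_zero]
  exact Cfsg.Agent.StdU3.Field.add_eq_zero.mp (mul_self_eq_zero.mp h1)

omit [Fintype F] in
theorem one_of_pow {c : F} {k : ℕ} (h : c ^ 2 ^ k = 1) : c = 1 := by
  induction k with
  | zero => simpa using h
  | succ k ih =>
    apply ih
    apply one_of_sq
    rw [← pow_add, ← two_mul, ← pow_succ']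
    exact h

omit [Fintype F] [CharP F 2] in
theorem map_bar (τ : F ≃+* F) (x : F) : τ (bar n x) = bar n (τ x) := by
  rw [bar_def, bar_def, map_pow]

omit [Fintype F] [CharP F 2] in
theorem map_N (τ : F ≃+* F) (x : F) : τ (N n x) = N n (τ x) := by
  rw [N_def, N_def, map_mul, map_bar]

end field

/-- the action on `S` and `Z` -/
structure Sl (D : Dat G F n) (x : G) (c : F) (τ : F ≃+* F) : Prop where
  ne : c ≠ 0
  a : ∀ s ∈ D.S, D.a (x * s * x⁻¹) = c * τ (D.a s)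
  z : ∀ b, bar n b = b → x * D.z b * x⁻¹ = D.z (N n c * τ b)

theorem exists_S (D : Chart G F n) (α : F) : ∃ s ∈ D.S, D.a s = α := by
  obtain ⟨x, hx, h1, h2, h3⟩ := D.surj α 0 0 (bar_zero n) D.Phi.zero_mem
  exact ⟨x, ⟨hx, h2, h3⟩, h1⟩

theorem exists_V (D : Chart G F n) {φ : F} (hφ : φ ∈ D.Phi) : ∃ r ∈ D.V, D.f r = φ := by
  obtain ⟨x, hx, h1, h2, h3⟩ := D.surj 0 0 φ (bar_zero n) hφ
  exact ⟨x, ⟨hx, h1, h2⟩, h3⟩

theorem exists_E' (D : Chart G F n) {γ : F} (hγ : bar n γ = γ) : ∃ e ∈ D.E, D.c e = γ := by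
  obtain ⟨x, hx, h1, h2, h3⟩ := D.surj 0 γ 0 hγ D.Phi.zero_mem
  exact ⟨x, ⟨hx, h1, h3⟩, h2⟩

namespace Sl

variable {D : Dat G F n} {x y : G} {c d : F} {τ σ : F ≃+* F}

theorem unique (h : Sl D x c τ) (h' : Sl D x d σ) : c = d ∧ τ = σ := by
  have key : ∀ α : F, c * τ α = d * σ α := by
    intro α
    obtain ⟨s, hs, rfl⟩ := exists_S D.toChart α
    rw [← h.a s hs, h'.a s hs]
  have h1 : c = d := by
    have := key 1
    rwa [map_one, map_one, mul_one, mul_one] at this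
  subst h1
  refine ⟨rfl, ?_⟩
  ext α
  exact mul_left_cancel₀ h.ne (key α)

theorem mul (hx : Sl D x c τ) (hy : Sl D y d σ) (hS : cj y D.S = D.S) : Sl D (x * y) (c * τ d) (τ * σ) := by
  refine ⟨mul_ne_zero hx.ne fun h => hy.ne ((map_eq_zero τ).mp h), ?_, ?_⟩
  · intro s hs
    have e : x * y * s * (x * y)⁻¹ = x * (y * s * y⁻¹) * x⁻¹ := by group
    rw [e, hx.a _ (conj_mem hS hs), hy.a s hs, map_mul, ← mul_assoc]
    rfl
  · intro b hb
    have e : x * y * D.z b * (x * y)⁻¹ = x * (y * D.z b * y⁻¹) * x⁻¹ := by group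
    have hb' : bar n (N n d * σ b) = N n d * σ b := by
      rw [bar_mul, fixed_N D.hq, ← map_bar, hb]
    rw [e, hy.z b hb, hx.z _ hb', map_mul, map_N, N_mul, mul_assoc]
    rfl

theorem one : Sl D 1 1 1 := by
  refine ⟨one_ne_zero, ?_, ?_⟩
  · intro s _
    rw [one_mul, inv_one, mul_one, one_mul]; rfl
  · intro b _
    rw [one_mul, inv_one, mul_one, N_one, one_mul]; rfl

theorem of_P {p : G} (hp : p ∈ D.P) : Sl D p 1 1 := by
  refine ⟨one_ne_zero, ?_, ?_⟩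
  · intro s hs
    rw [D.a_mul _ (D.P.mul_mem hp hs.1) _ (D.P.inv_mem hp), D.a_mul _ hp _ hs.1, D.a_inv hp, one_mul]
    show D.a p + D.a s + D.a p = D.a s
    rw [add_comm (D.a p), add_add_self]
  · intro b hb
    rw [← z_comm D.toChart hb hp, N_one, one_mul, mul_assoc, mul_inv_cancel, mul_one]
    rfl

theorem pow (hx : Sl D x c 1) (hS : cj x D.S = D.S) (m : ℕ) : Sl D (x ^ m) (c ^ m) 1 := by
  induction m with
  | zero => rw [pow_zero, pow_zero]; exact one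
  | succ m ih =>
    have h := ih.mul hx hS
    rw [pow_succ, pow_succ]
    exact h

/-- elements acting trivially on `F` and normalizing `V` are in `P` -/
theorem ker (hx : Sl D x c 1) (hS : cj x D.S = D.S) (h2 : ∃ k : ℕ, x ^ 2 ^ k = 1) (hV : cj x D.V = D.V) :
    x ∈ D.P := by
  obtain ⟨k, hk⟩ := h2
  have h1 := hx.pow hS (2 ^ k)
  rw [hk] at h1
  have h3 := (h1.unique one).1
  have h4 := one_of_pow h3
  subst h4
  refine D.ker_V x hV ⟨k, hk⟩ ?_
  intro s hs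
  rw [hx.a s hs, one_mul]
  rfl

end Sl

/-- what the two cases have in common -/
structure Good (D : Dat G F n) (T : Subgroup G) : Prop where
  two : IsPGroup 2 ↥T
  P : ∀ x ∈ T, cj x D.P = D.P
  S : ∀ x ∈ T, cj x D.S = D.S
  V : ∀ x ∈ T, cj x D.V = D.V ∨ (cj x D.V = D.E ∧ cj x D.E = D.V ∧ D.kap = 0 ∧ ∀ b, bar n b = b → b ∈ D.Phi)

theorem cj_inj {x : G} {X Y : Subgroup G} (h : cj x X = cj x Y) : X = Y := by
  have h1 := congrArg (cj x⁻¹) h
  rwa [← cj_mul, ← cj_mul, inv_mul_cancel, cj_one, cj_one] at h1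

theorem cj_swap {x : G} {X Y : Subgroup G} (h : cj x X = Y) : cj x⁻¹ Y = X := by
  rw [← h, ← cj_mul, inv_mul_cancel, cj_one]

namespace Good

variable {D : Dat G F n} {T : Subgroup G} (H : Good D T)

include H

theorem two_elt {x : G} (hx : x ∈ T) : ∃ k : ℕ, x ^ 2 ^ k = 1 := by
  obtain ⟨k, hk⟩ := H.two ⟨x, hx⟩
  exact ⟨k, by simpa using congrArg Subtype.val hk⟩

theorem exists_sl {x : G} (hx : x ∈ T) : ∃ c τ, Sl D x c τ := by
  obtain ⟨c, hc, τ, h1, h2⟩ := D.sl x (H.S x hx)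
  exact ⟨c, τ, hc, h1, h2⟩

theorem mem_P {x : G} (hx : x ∈ T) {c : F} (h : Sl D x c 1) (hV : cj x D.V = D.V) : x ∈ D.P :=
  h.ker (H.S x hx) (H.two_elt hx) hV

/-- `cj x⁻¹ V` and `cj x⁻¹ E` -/
theorem dich {x : G} (hx : x ∈ T) : (cj x D.V = D.V ∧ cj x D.E = D.E) ∨ (cj x D.V = D.E ∧ cj x D.E = D.V) := by
  rcases H.V x hx with h | ⟨h, h', -⟩
  · exact Or.inl ⟨h, D.V_E x h⟩
  · exact Or.inr ⟨h, h'⟩

theorem comm {x y : G} (hx : x ∈ T) (hy : y ∈ T) : x * y * x⁻¹ * y⁻¹ ∈ D.P := by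
  have hk : x * y * x⁻¹ * y⁻¹ ∈ T := T.mul_mem (T.mul_mem (T.mul_mem hx hy) (T.inv_mem hx)) (T.inv_mem hy)
  obtain ⟨c, τ, hxs⟩ := H.exists_sl hx
  obtain ⟨d, σ, hys⟩ := H.exists_sl hy
  obtain ⟨e, ρ, hks⟩ := H.exists_sl hk
  have h1 : ρ = 1 := by
    have h2 := hxs.mul hys (H.S y hy)
    have h3 := hks.mul (hys.mul hxs (H.S x hx)) (H.S _ (T.mul_mem hy hx))
    have h4 : x * y * x⁻¹ * y⁻¹ * (y * x) = x * y := by group
    rw [h4] at h3
    have h5 := (h3.unique h2).2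
    rw [Cfsg.Agent.StdU3.FieldAut.comm σ τ] at h5
    exact mul_eq_right.mp h5
  subst h1
  refine H.mem_P hk hks ?_
  rw [cj_mul, cj_mul, cj_mul]
  rcases H.dich hx with ⟨h1, h2⟩ | ⟨h1, h2⟩ <;> rcases H.dich hy with ⟨h3, h4⟩ | ⟨h3, h4⟩
  · rw [cj_swap h3, cj_swap h1, h3, h1]
  · rw [cj_swap h4, cj_swap h2, h4, h1]
  · rw [cj_swap h3, cj_swap h2, h4, h2]
  · rw [cj_swap h4, cj_swap h1, h3, h2]

end Good

/-- coordinates of `x p x⁻¹` from those of `S`, `E`, `V` -/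
theorem coords {D : Dat G F n} {x : G} (hx : cj x D.P = D.P) {p : G} (hp : p ∈ D.P) {s e r : G} (hs : s ∈ D.S)
    (he : e ∈ D.E) (hr : r ∈ D.V) (h1 : D.a s = D.a p) (h2 : D.c e = D.c p) (h3 : D.f r = D.f p) :
    D.a (x * p * x⁻¹) = D.a (x * s * x⁻¹) + D.a (x * e * x⁻¹) + D.a (x * r * x⁻¹) ∧
    D.c (x * p * x⁻¹) = D.c (x * s * x⁻¹) + D.c (x * e * x⁻¹) + D.c (x * r * x⁻¹) ∧
    D.f (x * p * x⁻¹) = D.f (x * s * x⁻¹) + D.f (x * e * x⁻¹) + D.f (x * r * x⁻¹) := by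
  obtain ⟨ζ, hζ⟩ := exists_zeta D.toChart hx
  have hse : s * e ∈ D.P := D.P.mul_mem hs.1 he.1
  have hser : s * e * r ∈ D.P := D.P.mul_mem hse hr.1
  obtain ⟨e1, e2, e3⟩ := hζ.congr hp hser
    (by rw [D.a_mul _ hse _ hr.1, D.a_mul _ hs.1 _ he.1, he.2.1, hr.2.1, add_zero, add_zero, h1])
    (by rw [D.c_mul _ hse _ hr.1, D.c_mul _ hs.1 _ he.1, hs.2.1, hr.2.2, zero_add, add_zero, h2])
    (by rw [D.f_mul _ hse _ hr.1, D.f_mul _ hs.1 _ he.1, hs.2.2, he.2.2, zero_add, zero_add, h3])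
  refine ⟨?_, ?_, ?_⟩
  · rw [e1, hζ.a_mul hse hr.1, hζ.a_mul hs.1 he.1]
  · rw [e2, hζ.c_mul hse hr.1, hζ.c_mul hs.1 he.1]
  · rw [e3, hζ.f_mul hse hr.1, hζ.f_mul hs.1 he.1]

/-- the form on `E × V` -/
theorem form_EV {D : Dat G F n} {x : G} (hx : cj x D.P = D.P) (hz : ∀ b, bar n b = b → x * D.z b * x⁻¹ = D.z b)
    {e r : G} (he : e ∈ D.E) (hr : r ∈ D.V) :
    Tr n (D.a (x * e * x⁻¹) * bar n (D.a (x * r * x⁻¹))) +
      (D.c (x * e * x⁻¹) * D.f (x * r * x⁻¹) + D.c (x * r * x⁻¹) * D.f (x * e * x⁻¹)) = D.c e * D.f r := by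
  have hζ : IsZ D.toChart x id := ⟨hx, fun b hb => hb, hz⟩
  have h := hζ.comm he.1 hr.1
  rw [he.2.1, zero_mul, Tr_zero, zero_add, hr.2.2, zero_mul, add_zero] at h
  exact h

/-- an element whose square is in `P` fixes or swaps -/
theorem typ {D : Dat G F n} {T : Subgroup G} (H : Good D T) {x : G} (hx : x ∈ T) (hxx : x * x ∈ D.P) :
    x ∈ D.P ∨ TypF D x ∨ TypG D x ∨ TypU D x := by
  obtain ⟨c, τ, hs⟩ := H.exists_sl hx
  have hS := H.S x hx
  have hP := H.P x hx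
  obtain ⟨h1, h2⟩ := (hs.mul hs hS).unique (Sl.of_P hxx)
  -- the two possibilities for `τ`
  have hτ : (τ = 1 ∧ c = 1) ∨ (τ = barE D.hq ∧ N n c = 1) := by
    by_cases ht : τ = 1
    · subst ht
      exact Or.inl ⟨rfl, one_of_sq h1⟩
    · have h3 := eq_bar D.hq h2 ht
      subst h3
      exact Or.inr ⟨rfl, h1⟩
  have hz : ∀ b, bar n b = b → x * D.z b * x⁻¹ = D.z b := by
    intro b hb
    rw [hs.z b hb]
    rcases hτ with ⟨rfl, rfl⟩ | ⟨rfl, h⟩
    · rw [N_one, one_mul]; rfl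
    · rw [h, one_mul, barE_apply, hb]
  have hz' : ∀ b, bar n b = b → x * D.z b = D.z b * x := fun b hb => by
    have := hz b hb
    rwa [mul_inv_eq_iff_eq_mul] at this
  -- the square acts trivially
  have htriv : ∀ p ∈ D.P, D.c (x * (x * p * x⁻¹) * x⁻¹) = D.c p ∧ D.f (x * (x * p * x⁻¹) * x⁻¹) = D.f p := by
    intro p hp
    have e : x * (x * p * x⁻¹) * x⁻¹ = (x * x) * p * (x * x)⁻¹ := by group
    rw [e, D.c_mul _ (D.P.mul_mem hxx hp) _ (D.P.inv_mem hxx), D.c_mul _ hxx _ hp, D.c_inv hxx,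
      D.f_mul _ (D.P.mul_mem hxx hp) _ (D.P.inv_mem hxx), D.f_mul _ hxx _ hp, D.f_inv hxx,
      add_comm (D.c (x * x)), add_comm (D.f (x * x)), add_add_self, add_add_self]
    exact ⟨rfl, rfl⟩
  obtain ⟨r₁, hr₁, hr₁f⟩ := exists_V D.toChart D.one_mem
  obtain ⟨e₁, he₁, he₁c⟩ := exists_E' D.toChart (bar_one n)
  have hform : ∀ e ∈ D.E, ∀ r ∈ D.V, _ := fun e he r hr => form_EV hP hz he hr
  rcases H.V x hx with hV | ⟨hV, hE, hk, hPhi⟩
  · -- `x` fixes `V`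
    have hE := D.V_E x hV
    by_cases hxP : x ∈ D.P
    · exact Or.inl hxP
    right; left
    have hbar : τ = barE D.hq ∧ N n c = 1 := by
      rcases hτ with ⟨rfl, rfl⟩ | h
      · exact absurd (H.mem_P hx hs hV) hxP
      · exact h
    obtain ⟨rfl, hc⟩ := hbar
    have hform' : ∀ e ∈ D.E, ∀ r ∈ D.V, D.c (x * e * x⁻¹) * D.f (x * r * x⁻¹) = D.c e * D.f r := by
      intro e he r hr
      have h := hform e he r hr
      have h3 := conj_mem hE he
      have h4 := conj_mem hV hr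
      rw [h3.2.1, zero_mul, Tr_zero, zero_add, h4.2.2, zero_mul, add_zero] at h
      exact h
    set d := D.f (x * r₁ * x⁻¹) with hd
    have hcd : D.c (x * e₁ * x⁻¹) * d = 1 := by
      have h := hform' e₁ he₁ r₁ hr₁
      rw [he₁c, hr₁f, mul_one] at h
      exact h
    have hd0 : d ≠ 0 := right_ne_zero_of_mul_eq_one hcd
    have hfr : ∀ r ∈ D.V, D.f (x * r * x⁻¹) = D.f r * d := by
      intro r hr
      have h := hform' e₁ he₁ r hr
      rw [he₁c, one_mul] at h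
      rw [← h, mul_right_comm, hcd, one_mul]
    have hd1 : d = 1 := by
      apply one_of_sq
      have h3 := hfr _ (conj_mem hV hr₁)
      rw [(htriv r₁ hr₁.1).2, hr₁f] at h3
      exact h3.symm
    rw [hd1, mul_one] at hcd
    have hce : ∀ e ∈ D.E, D.c (x * e * x⁻¹) = D.c e := by
      intro e he
      have h := hform' e he r₁ hr₁
      rw [← hd, hd1, hr₁f, mul_one, mul_one] at h
      exact h
    refine ⟨hP, hz', c, hc, ?_⟩
    intro p hp
    obtain ⟨s, hs', hsa⟩ := exists_S D.toChart (D.a p)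
    obtain ⟨e, he, hec⟩ := exists_E' D.toChart (D.fix_c p hp)
    obtain ⟨r, hr, hrf⟩ := exists_V D.toChart (D.f_mem p hp)
    obtain ⟨k1, k2, k3⟩ := coords hP hp hs' he hr hsa hec hrf
    have m1 := conj_mem hS hs'
    have m2 := conj_mem hE he
    have m3 := conj_mem hV hr
    rw [k1, k2, k3, hs.a s hs', m2.2.1, m3.2.1, m1.2.1, m3.2.2, m1.2.2, m2.2.2, hce e he, hfr r hr, hd1, hsa, hec,
      hrf, barE_apply]
    refine ⟨by ring, by ring, by ring⟩
  · -- `x` swaps `V` and `E`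
    have hform' : ∀ e ∈ D.E, ∀ r ∈ D.V, D.c (x * r * x⁻¹) * D.f (x * e * x⁻¹) = D.c e * D.f r := by
      intro e he r hr
      have h := hform e he r hr
      have h3 : x * e * x⁻¹ ∈ D.V := hE ▸ mem_cj_mul (g := x) he
      rw [h3.2.1, zero_mul, Tr_zero, zero_add, h3.2.2, zero_mul, zero_add] at h
      exact h
    set θ := D.c (x * r₁ * x⁻¹) with hθ
    have hθe : θ * D.f (x * e₁ * x⁻¹) = 1 := by
      have h := hform' e₁ he₁ r₁ hr₁
      rw [he₁c, hr₁f, mul_one] at h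
      exact h
    have hθ0 : θ ≠ 0 := left_ne_zero_of_mul_eq_one hθe
    have hθf : bar n θ = θ := D.fix_c _ (conj_mem hP hr₁.1)
    have hcr : ∀ r ∈ D.V, D.c (x * r * x⁻¹) = θ * D.f r := by
      intro r hr
      have h := hform' e₁ he₁ r hr
      rw [he₁c, one_mul] at h
      rw [← h, mul_left_comm, hθe, mul_one]
    have hfe : ∀ e ∈ D.E, D.f (x * e * x⁻¹) = θ⁻¹ * D.c e := by
      intro e he
      have h := hform' e he r₁ hr₁
      rw [← hθ, hr₁f, mul_one] at h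
      rw [← h, ← mul_assoc, inv_mul_cancel₀ hθ0, one_mul]
    have hco : ∀ p ∈ D.P, D.a (x * p * x⁻¹) = c * τ (D.a p) ∧ D.c (x * p * x⁻¹) = θ * D.f p ∧
        D.f (x * p * x⁻¹) = θ⁻¹ * D.c p := by
      intro p hp
      obtain ⟨s, hs', hsa⟩ := exists_S D.toChart (D.a p)
      obtain ⟨e, he, hec⟩ := exists_E' D.toChart (D.fix_c p hp)
      obtain ⟨r, hr, hrf⟩ := exists_V D.toChart (D.f_mem p hp)
      obtain ⟨k1, k2, k3⟩ := coords hP hp hs' he hr hsa hec hrf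
      have m1 := conj_mem hS hs'
      have m2 : x * e * x⁻¹ ∈ D.V := hE ▸ mem_cj_mul (g := x) he
      have m3 : x * r * x⁻¹ ∈ D.E := hV ▸ mem_cj_mul (g := x) hr
      rw [k1, k2, k3, hs.a s hs', m2.2.1, m3.2.1, m1.2.1, m2.2.2, m1.2.2, m3.2.2, hcr r hr, hfe e he, hsa, hec, hrf]
      refine ⟨by ring, by ring, by ring⟩
    rcases hτ with ⟨rfl, rfl⟩ | ⟨rfl, hc⟩
    · right; right; left
      refine ⟨hP, hz', hk, hPhi, θ, hθ0, hθf, fun p hp => ?_⟩
      obtain ⟨k1, k2, k3⟩ := hco p hp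
      rw [one_mul] at k1
      exact ⟨k1, k2, k3⟩
    · right; right; right
      exact ⟨hP, hz', hk, hPhi, c, θ, hc, hθ0, hθf, hco⟩

section types

variable {D : Dat G F n} {T : Subgroup G}

theorem sl_of_F {x : G} (h : TypF D x) : ∃ c, Sl D x c (barE D.hq) := by
  obtain ⟨hP, hz, c, hc, hco⟩ := h
  refine ⟨c, ?_, fun s hs => (hco s hs.1).1, fun b hb => ?_⟩
  · rintro rfl
    rw [N_zero] at hc
    exact zero_ne_one hc
  · rw [hz b hb, hc, one_mul, barE_apply, hb, mul_assoc, mul_inv_cancel, mul_one]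

theorem sl_of_G {x : G} (h : TypG D x) : Sl D x 1 1 := by
  obtain ⟨hP, hz, hk, hPhi, θ, hθ, hθf, hco⟩ := h
  refine ⟨one_ne_zero, fun s hs => ?_, fun b hb => ?_⟩
  · rw [(hco s hs.1).1, one_mul]; rfl
  · rw [hz b hb, N_one, one_mul, mul_assoc, mul_inv_cancel, mul_one]; rfl

theorem sl_of_U {x : G} (h : TypU D x) : ∃ c, Sl D x c (barE D.hq) := by
  obtain ⟨hP, hz, hk, hPhi, c, θ, hc, hθ, hθf, hco⟩ := h
  refine ⟨c, ?_, fun s hs => (hco s hs.1).1, fun b hb => ?_⟩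
  · rintro rfl
    rw [N_zero] at hc
    exact zero_ne_one hc
  · rw [hz b hb, hc, one_mul, barE_apply, hb, mul_assoc, mul_inv_cancel, mul_one]

theorem fix_of_F (H : Good D T) {x : G} (hx : x ∈ T) (h : TypF D x) : cj x D.V = D.V := by
  rcases H.V x hx with h1 | ⟨h1, -⟩
  · exact h1
  · exfalso
    obtain ⟨hP, hz, c, hc, hco⟩ := h
    obtain ⟨r₁, hr₁, hr₁f⟩ := exists_V D.toChart D.one_mem
    have h2 : x * r₁ * x⁻¹ ∈ D.E := h1 ▸ mem_cj_mul (g := x) hr₁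
    have h3 := (hco r₁ hr₁.1).2.2
    rw [h2.2.2, hr₁f] at h3
    exact zero_ne_one h3

theorem swap_of_G (H : Good D T) {x : G} (hx : x ∈ T) (h : TypG D x) : cj x D.V = D.E ∧ cj x D.E = D.V := by
  rcases H.V x hx with h1 | ⟨h1, h2, -⟩
  · exfalso
    obtain ⟨hP, hz, hk, hPhi, θ, hθ, hθf, hco⟩ := h
    obtain ⟨r₁, hr₁, hr₁f⟩ := exists_V D.toChart D.one_mem
    have h2 := conj_mem h1 hr₁
    have h3 := (hco r₁ hr₁.1).2.1
    rw [h2.2.2, hr₁f, mul_one] at h3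
    exact hθ h3.symm
  · exact ⟨h1, h2⟩

theorem swap_of_U (H : Good D T) {x : G} (hx : x ∈ T) (h : TypU D x) : cj x D.V = D.E ∧ cj x D.E = D.V := by
  rcases H.V x hx with h1 | ⟨h1, h2, -⟩
  · exfalso
    obtain ⟨hP, hz, hk, hPhi, c, θ, hc, hθ, hθf, hco⟩ := h
    obtain ⟨r₁, hr₁, hr₁f⟩ := exists_V D.toChart D.one_mem
    have h2 := conj_mem h1 hr₁
    have h3 := (hco r₁ hr₁.1).2.1
    rw [h2.2.2, hr₁f, mul_one] at h3
    exact hθ h3.symm
  · exact ⟨h1, h2⟩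

theorem barE_sq (h : Qd F n) : barE h * barE h = 1 := by
  ext x
  show bar n (bar n x) = x
  exact bar_bar h x

/-- everything from the Sylow property and `Good` -/
theorem syl_of (H : Good D T) (hT : IsSyl T (normalizer (D.P : Set G))) (hPT : D.P ≤ T) : Syl D T where
  syl := hT
  le := hPT
  comm x hx y hy := H.comm hx hy
  typ x hx hxx := typ H hx hxx
  FF x hx y hy hxF hyF := by
    obtain ⟨c, hc⟩ := sl_of_F hxF
    obtain ⟨d, hd⟩ := sl_of_F hyF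
    have h1 := hc.mul hd (H.S y hy)
    rw [barE_sq] at h1
    exact H.mem_P (T.mul_mem hx hy) h1 (cj_mul_eq (fix_of_F H hx hxF) (fix_of_F H hy hyF))
  GG x hx y hy hxG hyG := by
    have h1 := (sl_of_G hxG).mul (sl_of_G hyG) (H.S y hy)
    refine H.mem_P (T.mul_mem hx hy) h1 ?_
    rw [cj_mul, (swap_of_G H hy hyG).1, (swap_of_G H hx hxG).2]
  UU x hx y hy hxU hyU := by
    obtain ⟨c, hc⟩ := sl_of_U hxU
    obtain ⟨d, hd⟩ := sl_of_U hyU
    have h1 := hc.mul hd (H.S y hy)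
    rw [barE_sq] at h1
    refine H.mem_P (T.mul_mem hx hy) h1 ?_
    rw [cj_mul, (swap_of_U H hy hyU).1, (swap_of_U H hx hxU).2]

end types

/-- an element swapping `V` and `E` normalizes `S` -/
theorem cj_S_of_swap [Finite G] {D : Dat G F n} {x : G} (hP : cj x D.P = D.P) (hV : cj x D.V = D.E) (hE : cj x D.E = D.V) :
    cj x D.S = D.S := by
  refine eq_of_le_of_card_ge ?_ (card_cj x D.S).ge
  intro s hs
  rw [mem_cj] at hs
  have hsP : s ∈ D.P := by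
    have := conj_mem hP hs.1
    have e : x * (x⁻¹ * s * x) * x⁻¹ = s := by group
    rwa [e] at this
  -- `s` commutes with `V` and `E`
  have hcomm : ∀ p ∈ D.P, (x⁻¹ * p * x ∈ D.V ∨ x⁻¹ * p * x ∈ D.E) → s * p = p * s := by
    intro p hp h
    have h1 : x⁻¹ * s * x * (x⁻¹ * p * x) = x⁻¹ * p * x * (x⁻¹ * s * x) := by
      have h2 : D.a (x⁻¹ * p * x) = 0 := by
        rcases h with h | h <;> exact h.2.1
      have h3 : x⁻¹ * p * x ∈ D.P := by
        rcases h with h | h <;> exact h.1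
      rw [D.comm _ hs.1 _ h3, h2, hs.2.1, hs.2.2, bar_zero, mul_zero, Tr_zero, zero_mul, mul_zero, add_zero,
        add_zero, D.z_zero, one_mul]
    calc s * p = x * (x⁻¹ * s * x * (x⁻¹ * p * x)) * x⁻¹ := by group
      _ = x * (x⁻¹ * p * x * (x⁻¹ * s * x)) * x⁻¹ := by rw [h1]
      _ = p * s := by group
  have hB : ∀ p ∈ D.P, s * p = p * s →
      Tr n (D.a s * bar n (D.a p)) + (D.c s * D.f p + D.c p * D.f s) = 0 := by
    intro p hp h
    have h1 := D.comm s hsP p hp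
    rw [h] at h1
    have h2 := mul_eq_right.mp h1.symm
    exact D.z_inj _ (IsZ.fix_comm hsP hp) h2
  obtain ⟨r₁, hr₁, hr₁f⟩ := exists_V D.toChart D.one_mem
  obtain ⟨e₁, he₁, he₁c⟩ := exists_E' D.toChart (bar_one n)
  refine ⟨hsP, ?_, ?_⟩
  · have h1 : x⁻¹ * r₁ * x ∈ D.E := by
      rw [← hE] at hr₁
      exact mem_cj.mp hr₁
    have h2 := hB r₁ hr₁.1 (hcomm r₁ hr₁.1 (Or.inr h1))
    rw [hr₁.2.1, bar_zero, mul_zero, Tr_zero, zero_add, hr₁f, mul_one, hr₁.2.2, zero_mul, add_zero] at h2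
    exact h2
  · have h1 : x⁻¹ * e₁ * x ∈ D.V := by
      rw [← hV] at he₁
      exact mem_cj.mp he₁
    have h2 := hB e₁ he₁.1 (hcomm e₁ he₁.1 (Or.inl h1))
    rw [he₁.2.1, bar_zero, mul_zero, Tr_zero, zero_add, he₁.2.2, mul_zero, zero_add, he₁c, one_mul] at h2
    exact h2

/-- **PIECE E** from piece D -/
theorem exists_syl_of [Finite G] (D : Dat G F n) (ht : TransStmt D) : ∃ T : Subgroup G, Syl D T := by
  obtain ⟨T, hT, hPT⟩ := exists_isSyl (M := normalizer (D.P : Set G)) D.two le_normalizer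
  refine ⟨T, ?_⟩
  have hP : ∀ x ∈ T, cj x D.P = D.P := fun x hx => cj_eq_of_mem_normalizer (hT.le hx)
  refine syl_of ?_ hT hPT
  by_cases hA : ∀ x ∈ T, cj x D.V = D.V
  · exact ⟨hT.two, hP, fun x hx => D.V_S x (hA x hx), fun x hx => Or.inl (hA x hx)⟩
  · push Not at hA
    obtain ⟨y, hy, hyV⟩ := hA
    have hy2 : ∃ k : ℕ, y ^ 2 ^ k = 1 := by
      obtain ⟨k, hk⟩ := hT.two ⟨y, hy⟩
      exact ⟨k, by simpa using congrArg Subtype.val hk⟩
    obtain ⟨hk, hPhi, hVE⟩ := ht y (hP y hy) hy2 hyV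
    have hsw : ∀ x ∈ T, cj x D.V = D.E → cj x D.E = D.V := by
      intro x hx h
      rcases hVE (x * x) (cj_mul_eq (hP x hx) (hP x hx)) with h1 | h1
      · rw [cj_mul, h] at h1
        exact h1
      · exfalso
        rw [cj_mul, h, ← h] at h1
        have h2 := cj_inj h1
        exact V_ne_E D.toChart (h2.symm.trans h)
    refine ⟨hT.two, hP, fun x hx => ?_, fun x hx => ?_⟩
    · rcases hVE x (hP x hx) with h | h
      · exact D.V_S x h
      · exact cj_S_of_swap (hP x hx) h (hsw x hx h)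
    · rcases hVE x (hP x hx) with h | h
      · exact Or.inl h
      · exact Or.inr ⟨h, hsw x hx h, hk, hPhi⟩

end Cfsg.Agent.OddHalf.D4.U3.TypesOf
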