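import Cfsg.Agent.OddHalf.D4.U3.Trans
import Cfsg.Agent.OddHalf.D4.U3.TypesOf

/-!
# ODD, D4, row `K = U₃(q)`: a Sylow 2-subgroup of `N(P)` (PIECE E of #14847)
-/

set_option autoImplicit false

namespace Cfsg.Agent.OddHalf.D4.U3.Types

open Cfsg.Agent.OddHalf.D4.U3.Defs

universe u v

variable {G : Type u} [Group G] {F : Type v} [Field F] [Fintype F] [CharP F 2] {n : ℕ}

/-- **PIECE E** -/
theorem exists_syl [Finite G] (D : Dat G F n) : ∃ T : Subgroup G, Syl D T :=
  TypesOf.exists_syl_of D fun _ h1 h2 h3 => Trans.trans D h1 h2 h3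

end Cfsg.Agent.OddHalf.D4.U3.Types
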