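import Cfsg.Agent.OddHalf.D4.U3.MkNor
import Cfsg.Agent.OddHalf.D4.U3.TEnd
import Cfsg.Agent.OddHalf.D4.U3.Start
import Cfsg.Agent.OddHalf.D4.U3.End

/-!
# ODD, D4, row `K = U₃(q)`: `Uni K σ n` is impossible, modulo the digon
-/

set_option autoImplicit false
set_option linter.dupNamespace false

namespace Cfsg.Agent.OddHalf.D4.U3.UniFalse

open Subgroup Cfsg.Agent.LieRecognition Cfsg.Agent.StdU3.URel Cfsg.Agent.OddHalf.D4
  Cfsg.Agent.OddHalf.D4.Basic Cfsg.Agent.OddHalf.D4.U3.ParDefs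
open Cfsg.Agent.OddHalf.D4.CommConj (cj)

universe u v

variable {G : Type u} [Group G] {F : Type v} [Field F] [Fintype F] [CharP F 2] {σ : F →+* F}
  [hσ : Fact (∀ x, σ (σ x) = x)] {n : ℕ} {K : Subgroup G}

/-- **`Uni K σ n` is impossible** (`hdig`: the digon lemma). -/
theorem uni_false [Finite G] [IsSimpleGroup G] (h1173 : EvenPair.H1173 G)
    (gold : Cfsg.Agent.StdSz.EndClosed.Gold.{u}) (X : Uni K σ n)
    (hdig : ∀ (Y : Uni K σ n) (g : G), g ∉ normalizer (K : Set G) →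
      Y.p.S ≤ centralizer ((cj g K : Subgroup G) : Set G) → cj g Y.p.S ≤ centralizer (K : Set G) → False) :
    False := by
  obtain ⟨L, Q, U, hF⟩ := X.exists_fullPair h1173
  obtain ⟨x, hx, -, -, hc⟩ := CommonTD.exists_x hF
  obtain ⟨X', t, ht⟩ := TEnd.exists_tout X hdig hF.sylQ hx hc
  have T := TInst.td_of X' hdig hF.sylQ hx hc
  rw [← ht] at T
  have h4 := Mk.four_le_Q X' hF.sylQ
  rw [← ht] at h4
  obtain ⟨D⟩ := Mk.exists_dat_of t T h4
  exact Defs.Dat.false gold D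

end Cfsg.Agent.OddHalf.D4.U3.UniFalse
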