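import Cfsg.Agent.OddHalf.D4.StartQ
import Cfsg.Agent.OddHalf.D4.U3.Start
import Cfsg.Agent.StdU3.URelModel
import Cfsg.Agent.StdU3.LZeroTop

/-!
# ODD, D4, row `u3e`: from the row to `Uni` and a full pair

* `exists_uni` : `DataQ K`, `K ≃ PSU₃(2^a)`, `a ≥ 2` ⟹ `Uni K σ a`;
* `row_of` : the row `u3e` from a contradiction from `Uni K σ n` and a full pair.
-/

set_option autoImplicit false
set_option linter.dupNamespace false
set_option linter.unusedSectionVars false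

namespace Cfsg.Agent.OddHalf.D4.U3.UniOf

open Cfsg Subgroup Cfsg.Agent.LieRecognition Cfsg.Agent.LieRecognition.HermHeis Cfsg.Agent.StdU3
  Cfsg.Agent.StdU3.URel Cfsg.Agent.StdU3.Field Cfsg.Agent.StdU3.Semi Cfsg.Agent.OddHalf.D4
  Cfsg.Agent.OddHalf.D4.Basic Cfsg.Agent.OddHalf.D4.StartQ Cfsg.Agent.OddHalf.D4.U3.ParDefs
open Cfsg.Agent.OddHalf.D4.CommConj (Tight cj mem_cj)

universe u

/-- `Uni` from the K-free data -/
theorem uni_of {G : Type u} [Group G] {K : Subgroup G} (hD : DataQ K) {F : Type} [Field F] [Fintype F]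
    [CharP F 2] {σ : F →+* F} [hσ : Fact (∀ x, σ (σ x) = x)] {n : ℕ} (p : Par K σ n) : Nonempty (Uni K σ n) := by
  refine ⟨⟨p, hD.simple, hD.tight, ?_, hD.cen, ?_, ?_⟩⟩
  · intro g hg
    apply hD.std g
    intro k hk l hl
    exact mem_centralizer_iff.mp (hg hl) k hk
  · exact hD.nocore
  · obtain ⟨a, b, ha, hb, ha2, hb2, hab, hne⟩ := hD.rk
    exact ⟨a, ha, b, hb, ha2, hb2, hne, hab⟩

theorem exists_uni {G : Type u} [Group G] [Finite G] {K : Subgroup G} (hD : DataQ K)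
    {F : Type} [Field F] [Fintype F] {a : ℕ} (ha : 2 ≤ a) (hF : Fintype.card F = 4 ^ a)
    (e : ↥K ≃* Cfsg.PSU 3 F (2 ^ a)) :
    ∃ (_ : CharP F 2) (σ : F →+* F) (_ : Fact (∀ x, σ (σ x) = x)), Nonempty (Uni K σ a) := by
  have hc : CharP F 2 := LZeroTop.charP_two hF
  have hq := LZeroTop.qd ha hF
  let σ : F →+* F := iterateFrobenius F 2 a
  have hσ : ∀ x, σ x = bar a x := fun x => iterateFrobenius_def 2 a x
  have hfact : Fact (∀ x, σ (σ x) = x) := ⟨fun x => by rw [hσ, hσ, bar_bar hq]⟩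
  have hS : Sg σ a := ⟨hq, hσ⟩
  obtain ⟨R0⟩ := URelModel.nonempty_urel (σ := σ) (n := a) (by omega) hσ
    (by rw [Nat.card_eq_fintype_card, hq.hK])
  exact ⟨hc, σ, hfact, uni_of hD ⟨hS, R0.map e.symm⟩⟩

/-- **the row `u3e`** from `Uni` and a full pair -/
theorem row_of (h1173 : Start.P1173.{u}) (hFT : FTT.{u})
    (h : ∀ (G : Type u) [Group G] [Finite G] [IsSimpleGroup G], Iface.Ctx G → ∀ (F : Type) [Field F] [Fintype F]
      [CharP F 2] (σ : F →+* F) [Fact (∀ x, σ (σ x) = x)] (n : ℕ) (K L Q U : Subgroup G),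
      DataQ K → Uni K σ n → FullPair K L Q U → False) : Cut.Row1.{u} (fun K _ => Cut.U3e K) := by
  refine StartQ.row_of hFT ?_
  intro G _ hG K hK hD hP
  have := hG.fin
  have := hG.simple
  obtain ⟨F, _, _, a, ha, hF, ⟨e⟩⟩ := hP
  obtain ⟨_, σ, _, ⟨X⟩⟩ := exists_uni hD ha hF e
  obtain ⟨L, Q, U, hp⟩ := X.exists_fullPair (h1173_of h1173 hG hD)
  exact h G hG F σ a K L Q U hD X hp

end Cfsg.Agent.OddHalf.D4.U3.UniOf
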